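import Cfsg.Agent.H28.TwoLength.Main

/-!
Gross's bound `2e - 1` on the `2`-length.
-/

set_option autoImplicit false
set_option linter.style.haveILetI false

namespace H28.TwoLength

open Cfsg H32.PSeries

universe u

theorem two_length_le (m : ℕ) : ∀ (G : Type u) [Group G] [Finite G], Group.IsSolvable G →
    (∀ (z : G) (b : ℕ), z ^ 2 ^ b = 1 → z ^ 2 ^ (m + 1) = 1) → PLengthLE 2 (2 * m + 1) G := by
  classical
  haveI := Fact.mk Nat.prime_two
  induction m with
  | zero =>
    intro G _ _ hG hexp
    exact key 0 G hG hexp fun H _ _ hH n ρ hρ hO hexpH hdef => by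
      refine pLengthLE_zero_of_coprime ?_
      rw [Nat.coprime_two_right, ← Nat.not_even_iff_odd, even_iff_two_dvd]
      intro h2
      obtain ⟨x, hx⟩ := exists_prime_orderOf_dvd_card' 2 h2
      have hxe : x ^ 2 ^ 1 = 1 := by rw [pow_one, ← hx, pow_orderOf_eq_one]
      have h := hdef x 1 hxe
      rw [show 2 ^ (0 + 1) = 2 by rfl, Finset.sum_range_succ, Finset.sum_range_one, pow_zero,
        pow_one] at h
      have h1 : ρ x = 1 := by
        refine LinearMap.ext fun v => ?_
        have hv := LinearMap.congr_fun h v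
        rw [LinearMap.add_apply, Module.End.one_apply, LinearMap.zero_apply,
          add_eq_zero_iff_eq_neg'] at hv
        rw [Module.End.one_apply, hv]
        funext i
        rw [Pi.neg_apply, CharTwo.neg_eq]
      rw [hρ (h1.trans (map_one ρ).symm), orderOf_one] at hx
      exact absurd hx (by norm_num)
  | succ m ih =>
    intro G _ _ hG hexp
    exact key (m + 1) G hG hexp fun H _ _ hH n ρ hρ hO hexpH hdef => by
      haveI := hH
      set K₂ := pPrimePCore 2 H with hK₂
      haveI : K₂.Normal := Subgroup.Normal.comap inferInstance _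
      have hq : PLengthLE 2 (2 * m + 1) (H ⧸ K₂) := by
        refine ih (H ⧸ K₂) inferInstance fun x b hx => ?_
        obtain ⟨y, c, rfl, hy⟩ := exists_two_preimage (QuotientGroup.mk' K₂)
          (QuotientGroup.mk'_surjective K₂) hx
        rw [← map_pow]
        exact (QuotientGroup.eq_one_iff _).mpr
          (pow_mem_pPrimePCore hH ρ hρ hO (m + 1) hexpH hdef y c hy)
      have hk : PLengthLE 2 1 K₂ := by
        set R := (pPrimeCore 2 H).subgroupOf K₂ with hR
        haveI : R.Normal := Subgroup.Normal.comap inferInstance _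
        have hR0 : PLengthLE 2 0 R := pLengthLE_zero_of_coprime (by
          refine Nat.Coprime.coprime_dvd_left ?_ (H10.pPrimeCore_coprime (G := H) (p := 2))
          exact Subgroup.card_comap_dvd_of_injective _ _ K₂.subtype_injective)
        have hR1 : PLengthLE 2 1 (K₂ ⧸ R) := pLengthLE_one_of_isPGroup (by
          intro x
          obtain ⟨k, rfl⟩ := QuotientGroup.mk'_surjective R x
          obtain ⟨i, hi⟩ := H10.pCore_isPGroup (G := H ⧸ pPrimeCore 2 H) (p := 2)
            ⟨QuotientGroup.mk' (pPrimeCore 2 H) (k : H), k.2⟩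
          refine ⟨i, ?_⟩
          rw [← map_pow]
          refine (QuotientGroup.eq_one_iff _).mpr ?_
          rw [hR, Subgroup.mem_subgroupOf, SubmonoidClass.coe_pow, ← QuotientGroup.eq_one_iff]
          exact congrArg Subtype.val hi)
        exact pLengthLE_add R hR0 hR1
      exact pLengthLE_mono (pLengthLE_add K₂ hk hq) (by omega)
where
  key (m : ℕ) (G : Type u) [Group G] [Finite G] (hG : Group.IsSolvable G)
      (hexp : ∀ (z : G) (b : ℕ), z ^ 2 ^ b = 1 → z ^ 2 ^ (m + 1) = 1)
      (h : ∀ (H : Type u) [Group H] [Finite H], Group.IsSolvable H →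
        ∀ (n : ℕ) (ρ : H →* Module.End (AlgebraicClosure (ZMod 2))
          (Fin n → AlgebraicClosure (ZMod 2))), Function.Injective ρ → pCore 2 H = ⊥ →
        (∀ (z : H) (b : ℕ), z ^ 2 ^ b = 1 → z ^ 2 ^ (m + 1) = 1) →
        (∀ (z : H) (b : ℕ), z ^ 2 ^ b = 1 → ∑ i ∈ Finset.range (2 ^ (m + 1)), ρ z ^ i = 0) →
        PLengthLE 2 (2 * m) H) : PLengthLE 2 (2 * m + 1) G := by
    haveI := Fact.mk Nat.prime_two
    haveI := hG
    haveI : (pPrimeCore 2 G).Normal := H10.pPrimeCore_normal
    have h0 : PLengthLE 2 0 (pPrimeCore 2 G) :=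
      pLengthLE_zero_of_coprime H10.pPrimeCore_coprime
    suffices hq : PLengthLE 2 (2 * m + 1) (G ⧸ pPrimeCore 2 G) by
      exact pLengthLE_mono (pLengthLE_add _ h0 hq) (by omega)
    set G₁ := G ⧸ pPrimeCore 2 G
    have hexp₁ : ∀ (z : G₁) (b : ℕ), z ^ 2 ^ b = 1 → z ^ 2 ^ (m + 1) = 1 := by
      intro x b hx
      obtain ⟨y, c, rfl, hy⟩ := exists_two_preimage (QuotientGroup.mk' (pPrimeCore 2 G))
        (QuotientGroup.mk'_surjective _) hx
      rw [← map_pow, hexp y c hy, map_one]
    have hO1 : pPrimeCore 2 G₁ = ⊥ := H10.pPrimeCore_quotient_pPrimeCore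
    have hs : IsPSolvable 2 G₁ := H10.isPSolvable_of_isSolvable
    set U := pCore 2 G₁ with hU
    haveI : U.Normal := H10.pCore_normal
    have hcU : Subgroup.centralizer (U : Set G₁) ≤ U := H10.centralizer_pCore_le hs hO1
    obtain ⟨n, ρ, hρU, -, hρker, hρdef⟩ :=
      exists_deficient_rep U H10.pCore_isPGroup m hexp₁
    have hker : ρ.ker = U := by
      refine le_antisymm (H10.le_pCore inferInstance ?_) fun g hg => hρU g hg
      intro x
      obtain ⟨c, o, ho, hord⟩ := Nat.exists_eq_two_pow_mul_odd (orderOf_pos (x : G₁)).ne'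
      refine ⟨c, Subtype.ext ?_⟩
      rw [SubmonoidClass.coe_pow, Subgroup.coe_one]
      set y := (x : G₁) ^ 2 ^ c with hy
      have hyo : orderOf y ∣ o := orderOf_dvd_of_pow_eq_one (by
        rw [hy, ← pow_mul, ← hord, pow_orderOf_eq_one])
      have hodd : Odd (orderOf y) := ho.of_dvd_nat hyo
      have hyker : ρ y = 1 := by
        rw [hy, map_pow, show ρ (x : G₁) = 1 from x.2, one_pow]
      obtain ⟨t, ht⟩ := H10.pCore_isPGroup (G := G₁) (p := 2)
        ⟨y, hcU (hρker y hyker hodd)⟩
      exact orderOf_eq_one_iff.mp (Nat.eq_one_of_dvd_coprimes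
        ((Nat.coprime_two_right.mpr hodd).pow_right t) dvd_rfl
        (orderOf_dvd_of_pow_eq_one (congrArg Subtype.val ht)))
    let ρH := QuotientGroup.lift U ρ hker.ge
    have hρH : Function.Injective ρH := by
      rw [← MonoidHom.ker_eq_bot_iff, eq_bot_iff]
      intro x hx
      obtain ⟨g, rfl⟩ := QuotientGroup.mk'_surjective U x
      have hg : g ∈ ρ.ker := hx
      rw [hker] at hg
      exact Subgroup.mem_bot.mpr ((QuotientGroup.eq_one_iff g).mpr hg)
    have hOH : pCore 2 (G₁ ⧸ U) = ⊥ := by
      rw [H1.pCore_quotient 2 U H10.pCore_isPGroup, ← hU, Subgroup.map_eq_bot_iff,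
        QuotientGroup.ker_mk']
    have hH := h (G₁ ⧸ U) inferInstance _ ρH hρH hOH
      (fun x b hx => by
        obtain ⟨y, c, rfl, hy⟩ := exists_two_preimage (QuotientGroup.mk' U)
          (QuotientGroup.mk'_surjective _) hx
        rw [← map_pow, hexp₁ y c hy, map_one])
      (fun x b hx => by
        obtain ⟨y, c, rfl, hy⟩ := exists_two_preimage (QuotientGroup.mk' U)
          (QuotientGroup.mk'_surjective _) hx
        exact hρdef y c hy)
    exact pLengthLE_mono
      (pLengthLE_add U (pLengthLE_one_of_isPGroup H10.pCore_isPGroup) hH) (by omega)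

end H28.TwoLength
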