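import Mathlib

/-!
A quadratic endomorphism normalising a coprime group of class two: its kernel is its image.
-/

set_option autoImplicit false
set_option linter.style.haveILetI false

namespace H28.TwoLength

open Module
open scoped commutatorElement

universe u v w

/-- A quadratic intertwiner of a coprime class two group without fixed part has `ker = range`. -/
theorem ker_le_range {F : Type v} [Field F] {q : ℕ} [Fact q.Prime] [CharP F q] (hq2 : q ≠ 2)
    {A : Type u} [Group A] [Finite A] (φ : MulAut A) (hA : (Nat.card A).Coprime q)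
    (hcen : ∀ a b c : A, Commute ⁅a, b⁆ c) (hsq : ∀ a c : A, Commute (a * a) c)
    (hfix : ∀ a b : A, φ ⁅a, b⁆ = ⁅a, b⁆) (hfixs : ∀ a : A, φ (a * a) = a * a) :
    ∀ (n : ℕ) {U : Type w} [AddCommGroup U] [Module F U] [FiniteDimensional F U],
      finrank F U ≤ n → ∀ (ρ : A →* Module.End F U) (e : Module.End F U), e * e = 0 →
      (∀ a, (1 + e) * ρ a = ρ (φ a) * (1 + e)) →
      (∀ v, (∀ a, ρ (φ a) v = ρ a v) → v = 0) →
      LinearMap.ker e ≤ LinearMap.range e := by
  intro n
  induction n with
  | zero =>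
    intro U _ _ _ hU ρ e _ _ _
    haveI : Subsingleton U := finrank_zero_iff.mp (Nat.le_zero.mp hU)
    exact fun v _ => ⟨0, Subsingleton.elim _ _⟩
  | succ n ih =>
    intro U _ _ _ hU ρ e he hint hF
    rcases subsingleton_or_nontrivial U with hsub | hnt
    · exact fun v _ => ⟨0, Subsingleton.elim _ _⟩
    haveI : CharP (Module.End F U) q := charP_of_injective_algebraMap' F q
    have h2 : (2 : F) ≠ 0 := fun h => hq2 (by
      have h' : ((2 : ℕ) : F) = 0 := by exact_mod_cast h
      exact (Nat.prime_dvd_prime_iff_eq Fact.out Nat.prime_two).mp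
        ((CharP.cast_eq_zero_iff F q 2).mp h'))
    -- commutator calculus
    have hl : ∀ a b c : A, ⁅a * b, c⁆ = ⁅a, c⁆ * ⁅b, c⁆ := fun a b c => by
      rw [show ⁅a * b, c⁆ = a * ⁅b, c⁆ * a⁻¹ * ⁅a, c⁆ by simp only [commutatorElement_def]; group,
        ← (hcen b c a).eq, mul_inv_cancel_right, (hcen b c _).eq]
    have hr : ∀ a b c : A, ⁅a, b * c⁆ = ⁅a, b⁆ * ⁅a, c⁆ := fun a b c => by
      rw [show ⁅a, b * c⁆ = ⁅a, b⁆ * (b * ⁅a, c⁆ * b⁻¹) by simp only [commutatorElement_def]; group,
        ← (hcen a c b).eq, mul_inv_cancel_right]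
    have hc2 : ∀ a b : A, ρ ⁅a, b⁆ * ρ ⁅a, b⁆ = 1 := fun a b => by
      rw [← map_mul, ← hl, commutatorElement_eq_one_iff_commute.mpr (hsq a b), map_one]
    have hce : ∀ a b : A, Commute (ρ ⁅a, b⁆) e := fun a b => by
      have h := hint ⁅a, b⁆
      rw [hfix, add_mul, mul_add, one_mul, mul_one] at h
      exact (add_left_cancel h).symm
    by_cases hsplit : ∀ a b : A, ρ ⁅a, b⁆ = 1 ∨ ρ ⁅a, b⁆ = -1
    swap
    · push Not at hsplit
      obtain ⟨a, b, hne1, hne2⟩ := hsplit
      set c := ρ ⁅a, b⁆ with hc
      have key : ∀ d : F, d * d = 1 → c ≠ d • (1 : Module.End F U) →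
          ∀ v, e v = 0 → c v = d • v → v ∈ LinearMap.range e := by
        intro d _ hd v hv hcv
        let S : Submodule F U := Module.End.eigenspace c d
        have hSmem : ∀ x, x ∈ S ↔ c x = d • x := fun x => Module.End.mem_eigenspace_iff
        have hρS : ∀ g, ∀ x ∈ S, ρ g x ∈ S := fun g x hx => by
          rw [hSmem] at hx ⊢
          rw [← Module.End.mul_apply, hc, ← map_mul, (hcen a b g).eq, map_mul,
            Module.End.mul_apply, ← hc, hx, map_smul]
        have heS : ∀ x ∈ S, e x ∈ S := fun x hx => by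
          rw [hSmem] at hx ⊢
          rw [← Module.End.mul_apply, hc, (hce a b).eq, Module.End.mul_apply, ← hc, hx, map_smul]
        have hlt : finrank F S ≤ n := by
          have : S ≠ ⊤ := fun h => hd (LinearMap.ext fun x => (hSmem x).mp (h ▸ trivial))
          have := Submodule.finrank_lt this
          omega
        let ρS : A →* Module.End F S :=
          { toFun := fun g => (ρ g).restrict (hρS g)
            map_one' := LinearMap.ext fun x => Subtype.ext (by
              show ρ 1 (x : U) = _; rw [map_one]; rfl)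
            map_mul' := fun g h => LinearMap.ext fun x => Subtype.ext (by
              show ρ (g * h) (x : U) = _; rw [map_mul]; rfl) }
        have h0 := ih hlt ρS (e.restrict heS)
          (LinearMap.ext fun x => Subtype.ext (LinearMap.congr_fun he (x : U)))
          (fun g => LinearMap.ext fun x => Subtype.ext (LinearMap.congr_fun (hint g) (x : U)))
          (fun x hx => Subtype.ext (hF x fun g => congrArg Subtype.val (hx g)))
          (show (⟨v, (hSmem v).mpr hcv⟩ : S) ∈ LinearMap.ker (e.restrict heS) from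
            Subtype.ext hv)
        obtain ⟨x, hx⟩ := h0
        exact ⟨x, congrArg Subtype.val hx⟩
      intro v hv
      rw [LinearMap.mem_ker] at hv
      have hcc : ∀ x, c (c x) = x := fun x => LinearMap.congr_fun (hc2 a b) x
      have hev : e (c v) = 0 := by
        rw [← Module.End.mul_apply, hc, ← (hce a b).eq, Module.End.mul_apply, hv, map_zero]
      have h1 := key 1 (one_mul 1) (by rwa [one_smul]) (v + c v) (by rw [map_add, hv, hev, add_zero])
        (by rw [map_add, hcc, one_smul, add_comm])
      have h3 := key (-1) (by ring) (by rwa [neg_one_smul]) (v - c v)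
        (by rw [map_sub, hv, hev, sub_zero])
        (by rw [map_sub, hcc, neg_one_smul, neg_sub])
      have h4 : v = (2 : F)⁻¹ • ((v + c v) + (v - c v)) := by
        rw [show (v + c v) + (v - c v) = (2 : F) • v by rw [two_smul]; abel, smul_smul,
          inv_mul_cancel₀ h2, one_smul]
      rw [h4]
      exact Submodule.smul_mem _ _ (add_mem h1 h3)
    have hinv : ∀ a, (1 + e) * (1 - e) = 1 ∧ ρ (φ a) = (1 + e) * ρ a * (1 - e) := fun a => by
      have h1 : (1 + e) * (1 - e) = 1 := by
        rw [mul_sub, mul_one, add_mul, one_mul, he, add_zero, add_sub_cancel_right]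
      exact ⟨h1, by rw [hint, mul_assoc, h1, mul_one]⟩
    have hsum : ∀ a, ρ (φ a) - ρ a = e * ρ a - ρ a * e - e * ρ a * e := fun a => by
      rw [(hinv a).2]
      simp only [add_mul, mul_sub, mul_one, one_mul]
      abel
    have hcomm_sq : ∀ a, e * (ρ a * ρ a) = ρ a * ρ a * e := fun a => by
      have h := hint (a * a)
      rw [hfixs, map_mul, add_mul, mul_add, one_mul, mul_one] at h
      exact add_left_cancel h
    by_cases hanti : ∃ a, ρ ⁅a, φ a⁆ = -1
    · obtain ⟨a, ha⟩ := hanti
      have hyx : ρ a * ρ (φ a) = - (ρ (φ a) * ρ a) := by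
        rw [← map_mul, show a * φ a = ⁅a, φ a⁆ * (φ a * a) by rw [commutatorElement_def]; group,
          map_mul, map_mul, ha, neg_mul, one_mul]
      have hyy : ρ (φ a) * ρ (φ a) = ρ a * ρ a := by
        rw [← map_mul, ← map_mul, hfixs, map_mul]
      have hDD : (ρ (φ a) - ρ a) * (ρ (φ a) - ρ a) = (2 : F) • (ρ a * ρ a) := by
        rw [sub_mul, mul_sub, mul_sub, hyx, hyy, two_smul]
        abel
      have hinj : ∀ v, (ρ (φ a) - ρ a) v = 0 → v = 0 := fun v hv => by
        have h1 := LinearMap.congr_fun hDD v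
        rw [Module.End.mul_apply, hv, map_zero, LinearMap.smul_apply] at h1
        have h3 := (smul_eq_zero.mp h1.symm).resolve_left h2
        rw [← map_mul] at h3
        have h4 : ρ (a * a)⁻¹ (ρ (a * a) v) = 0 := by rw [h3, map_zero]
        rwa [← Module.End.mul_apply, ← map_mul, inv_mul_cancel, map_one,
          Module.End.one_apply] at h4
      have hle : LinearMap.range e ≤ LinearMap.ker e := by
        rintro _ ⟨x, rfl⟩
        exact LinearMap.congr_fun he x
      let g : LinearMap.ker e →ₗ[F] LinearMap.range e :=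
        (LinearMap.rangeRestrict e) ∘ₗ (ρ a) ∘ₗ (LinearMap.ker e).subtype
      have hg : Function.Injective g := by
        rw [← LinearMap.ker_eq_bot, Submodule.eq_bot_iff]
        intro v hv
        have h0 : e (ρ a (v : U)) = 0 := congrArg Subtype.val (LinearMap.mem_ker.mp hv)
        refine Subtype.ext (hinj _ ?_)
        rw [hsum]
        simp only [LinearMap.sub_apply, Module.End.mul_apply, LinearMap.mem_ker.mp v.2, map_zero,
          h0, sub_zero]
      exact (Submodule.eq_of_le_of_finrank_le hle (LinearMap.finrank_le_finrank_of_injective hg)).ge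
    push Not at hanti
    have h1 : ∀ a, ρ ⁅a, φ a⁆ = 1 := fun a => (hsplit a (φ a)).resolve_right (hanti a)
    have hswap : ∀ a b, ρ ⁅a, φ b⁆ = ρ ⁅φ a, b⁆ := fun a b => by
      have h := h1 (a * b)
      rw [map_mul φ, hl, hr, hr, map_mul, map_mul, map_mul, h1, h1, one_mul, mul_one] at h
      calc ρ ⁅a, φ b⁆ = ρ ⁅a, φ b⁆ * (ρ ⁅b, φ a⁆ * ρ ⁅φ a, b⁆) := by
            rw [← map_mul, ← commutatorElement_inv b (φ a), mul_inv_cancel, map_one, mul_one]
        _ = ρ ⁅φ a, b⁆ := by rw [← mul_assoc, h, one_mul]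
    have hcom : ∀ x y : A, ρ ⁅x, y⁆ = 1 → Commute (ρ x) (ρ y) := fun x y h => by
      show ρ x * ρ y = ρ y * ρ x
      rw [← map_mul, ← map_mul, show x * y = ⁅x, y⁆ * (y * x) by rw [commutatorElement_def]; group,
        map_mul, h, one_mul]
    obtain ⟨N, hN2, hN⟩ : ∃ k, 2 ≤ q ^ k ∧ ∀ a : A, ρ a ^ q ^ k = ρ a := by
      refine ⟨(Nat.card A).totient, ?_, fun a => ?_⟩
      · exact le_trans (Fact.out : q.Prime).two_le
          (Nat.le_self_pow (Nat.totient_pos.mpr Nat.card_pos).ne' q)
      · have hm : q ^ (Nat.card A).totient ≡ 1 [MOD orderOf a] :=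
          Nat.ModEq.of_dvd (orderOf_dvd_natCard a) (Nat.ModEq.pow_totient hA.symm)
        rw [← map_pow, pow_eq_pow_iff_modEq.mpr hm, pow_one]
    have hfixall : ∀ a, ρ (φ a) = ρ a := by
      intro a
      have c12 : Commute (ρ a) (ρ (φ a)) := hcom _ _ (h1 a)
      have c23 : Commute (ρ (φ a)) (ρ (φ (φ a))) := hcom _ _ (h1 (φ a))
      have c13 : Commute (ρ a) (ρ (φ (φ a))) := hcom _ _ (by
        rw [hswap, ← map_commutatorElement, hfix, commutatorElement_self, map_one])
      have hz : ρ (φ (φ a)) - ρ (φ a) - (ρ (φ a) - ρ a) = -((2 : F) • (e * ρ a * e)) := by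
        rw [hsum (φ a), hsum a, (hinv a).2, two_smul]
        have he' : ∀ x, e * (e * x) = 0 := fun x => by rw [← mul_assoc, he, zero_mul]
        simp only [add_mul, mul_sub, sub_mul, mul_add, mul_one, one_mul, mul_assoc, he', he,
          mul_zero, sub_zero, add_zero]
        abel
      have hsqz : (e * ρ a * e) * (e * ρ a * e) = 0 := by
        rw [mul_assoc (e * ρ a), ← mul_assoc e (e * ρ a), ← mul_assoc e e, he]
        simp
      have hex : e * ρ a * e = 0 := by
        have hpow : (ρ (φ (φ a)) - ρ (φ a) - (ρ (φ a) - ρ a)) ^ q ^ N =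
            ρ (φ (φ a)) - ρ (φ a) - (ρ (φ a) - ρ a) := by
          rw [sub_pow_char_pow_of_commute (p := q) N
              ((c23.symm.sub_right c13.symm).sub_left ((Commute.refl _).sub_right c12.symm)),
            sub_pow_char_pow_of_commute (p := q) N c23.symm,
            sub_pow_char_pow_of_commute (p := q) N c12.symm, hN, hN, hN]
        rw [hz, pow_eq_zero_of_le hN2 (by rw [neg_sq, sq, smul_mul_smul_comm, hsqz, smul_zero])]
          at hpow
        exact (smul_eq_zero.mp (neg_eq_zero.mp hpow.symm)).resolve_left h2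
      have hD : (ρ (φ a) - ρ a) * (ρ (φ a) - ρ a) = 0 := by
        rw [hsum, hex, sub_zero, sub_mul, mul_sub, mul_sub]
        have e1 : e * ρ a * (e * ρ a) = 0 := by rw [← mul_assoc, hex, zero_mul]
        have e2 : ρ a * e * (ρ a * e) = 0 := by
          rw [mul_assoc (ρ a), ← mul_assoc e, hex, mul_zero]
        have e3 : ρ a * e * (e * ρ a) = 0 := by
          rw [mul_assoc (ρ a), ← mul_assoc e, he, zero_mul, mul_zero]
        have e4 : e * ρ a * (ρ a * e) = 0 := by
          rw [← mul_assoc, mul_assoc e, hcomm_sq, mul_assoc (ρ a * ρ a), he, mul_zero]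
        rw [e1, e2, e3, e4]; simp
      have h5 : (ρ (φ a) - ρ a) ^ q ^ N = ρ (φ a) - ρ a := by
        rw [sub_pow_char_pow_of_commute (p := q) N c12.symm, hN, hN]
      rw [pow_eq_zero_of_le hN2 (by rw [sq, hD])] at h5
      exact sub_eq_zero.mp h5.symm
    intro v _
    rw [hF v fun a => by rw [hfixall]]
    exact zero_mem _

end H28.TwoLength
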