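import Cfsg.Agent.H28.TwoLength.LinBase
import Cfsg.Agent.H28.TwoLength.Quadratic

/-!
A `2`-group moved by quadratic operators of the defining Mersenne characteristic acts trivially.
-/

set_option autoImplicit false
set_option linter.style.haveILetI false

namespace H28.TwoLength

open Module
open scoped commutatorElement

universe u v

variable {r : ℕ} [Fact r.Prime] {X : Type v} [AddCommGroup X] [Module (ZMod r) X] [Finite X]
variable {Γ : Type u} [Group Γ] [Finite Γ]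

/-- A vector killed by the norm of a `2`-group and fixed by it is zero. -/
theorem fixed_norm_zero (hr2 : r ≠ 2) (π : Γ →* Module.End (ZMod r) X) (B : Subgroup Γ) [Fintype B]
    (hB : IsPGroup 2 B) {v : X} (hs : (∑ b : B, π b) v = 0) (hfix : ∀ b ∈ B, π b v = v) :
    v = 0 := by
  rw [LinearMap.sum_apply, Finset.sum_congr rfl (fun (b : B) _ => hfix b b.2), Finset.sum_const,
    Finset.card_univ, ← Nat.cast_smul_eq_nsmul (ZMod r), smul_eq_zero] at hs
  refine hs.resolve_left fun h => ?_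
  obtain ⟨n, hn⟩ := hB.exists_card_eq
  rw [← Nat.card_eq_fintype_card, hn, Nat.cast_pow, pow_eq_zero_iff'] at h
  exact two_ne_zero' hr2 (by exact_mod_cast h.1)

theorem norm_absorb (π : Γ →* Module.End (ZMod r) X) (B : Subgroup Γ) [Fintype B] {b : Γ}
    (hb : b ∈ B) (v : X) : (∑ c : B, π c) (π b v) = (∑ c : B, π c) v := by
  rw [LinearMap.sum_apply, LinearMap.sum_apply]
  refine Fintype.sum_equiv (Equiv.mulRight (⟨b, hb⟩ : B)) _ _ fun c => ?_
  rw [← Module.End.mul_apply, ← map_mul]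
  rfl

theorem norm_normalize (π : Γ →* Module.End (ZMod r) X) (B : Subgroup Γ) [Fintype B] {g : Γ}
    (hg : g ∈ Subgroup.normalizer (B : Set Γ)) (v : X) :
    (∑ c : B, π c) (π g v) = π g ((∑ c : B, π c) v) := by
  rw [LinearMap.sum_apply, LinearMap.sum_apply, map_sum]
  let e : B ≃ B :=
    { toFun := fun c => ⟨g⁻¹ * c * g, by
        have := conj_mem (inv_mem hg) c.2
        rwa [inv_inv] at this⟩
      invFun := fun c => ⟨g * c * g⁻¹, conj_mem hg c.2⟩
      left_inv := fun c => Subtype.ext (by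
        show g * (g⁻¹ * (c : Γ) * g) * g⁻¹ = c; group)
      right_inv := fun c => Subtype.ext (by
        show g⁻¹ * (g * (c : Γ) * g⁻¹) * g = c; group) }
  refine Fintype.sum_equiv e _ _ fun c => ?_
  show π (c : Γ) (π g v) = π g (π (g⁻¹ * (c : Γ) * g) v)
  rw [← Module.End.mul_apply, ← map_mul, ← Module.End.mul_apply, ← map_mul]
  congr 2
  group

/-- A subgroup of `r`-elements fixes a vector in each invariant non-zero subspace. -/
theorem exists_fixed (π : Γ →* Module.End (ZMod r) X) (Q : Subgroup Γ) (hQ : IsPGroup r Q)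
    (D : Submodule (ZMod r) X) (hD : D ≠ ⊥) (hinv : ∀ g ∈ Q, ∀ v ∈ D, π g v ∈ D) :
    ∃ v ∈ D, v ≠ 0 ∧ ∀ g ∈ Q, π g v = v := by
  letI : MulAction Q D :=
    { smul := fun g v => ⟨π g v, hinv g g.2 v v.2⟩
      one_smul := fun v => Subtype.ext (by show π 1 (v : X) = v; rw [map_one]; rfl)
      mul_smul := fun a b v => Subtype.ext (by
        show π ((a : Γ) * b) (v : X) = _; rw [map_mul]; rfl) }
  haveI : Nontrivial D := Submodule.nontrivial_iff_ne_bot.mpr hD
  have h0 : (0 : D) ∈ MulAction.fixedPoints Q D := fun g => Subtype.ext (map_zero (π g))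
  have hdvd : r ∣ Nat.card D := by
    rw [Module.natCard_eq_pow_finrank (K := ZMod r) (V := D), Nat.card_zmod]
    exact dvd_pow_self r (Module.finrank_pos).ne'
  obtain ⟨v, hv, hne⟩ := hQ.exists_fixed_point_of_prime_dvd_card_of_fixed_point D hdvd h0
  exact ⟨v, v.2, fun h => hne (Subtype.ext h).symm,
    fun g hg => congrArg Subtype.val (hv ⟨g, hg⟩)⟩

/-- A `2`-group generated by commutators with quadratic operators acts trivially. -/
theorem no_action_eq {k : ℕ} (hk : 2 ≤ k) (hrk : r + 1 = 2 ^ k)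
    (π : Γ →* Module.End (ZMod r) X) (u : Γ) (A Q Q₁ Q₀ : Subgroup Γ)
    (hQ : IsPGroup r Q) (hA : IsPGroup 2 A) (hQ₀ : Q₀ ≤ Q) (hQ₁ : Q₁ ≤ Q)
    (huQ : u ∈ Subgroup.normalizer (Q : Set Γ)) (huA : u ∈ Subgroup.normalizer (A : Set Γ))
    (huQ₀ : u ∈ Subgroup.normalizer (Q₀ : Set Γ))
    (hQA : Q ≤ Subgroup.normalizer (A : Set Γ)) (hQQ₀ : Q ≤ Subgroup.normalizer (Q₀ : Set Γ))
    (hgen : Q ≤ Subgroup.closure {x | ∃ g ∈ Q, ⁅g, u ^ 2 ^ (k - 1)⁆ = x})
    (hAgen : A ≤ Subgroup.closure {x | ∃ a ∈ A, ∃ g ∈ Q₁, ⁅a, g⁆ = x})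
    (hQ₀A : ∀ x ∈ Q₀, ∀ a ∈ A, Commute x a)
    (hmod : ∀ x ∈ Q, ∀ g ∈ Q₁, ⁅x, g⁆ ∈ Q₀)
    (hτ₁ : ∀ g ∈ Q₁, ⁅u ^ 2 ^ (k - 1), g⁆ ∈ Q₀)
    (hcen : ∀ a ∈ A, ∀ b ∈ A, ∀ c ∈ A, Commute ⁅a, b⁆ c)
    (hsq : ∀ a ∈ A, ∀ c ∈ A, Commute (a * a) c)
    (hfix : ∀ g ∈ Q₁, ∀ a ∈ A, ∀ b ∈ A, Commute g ⁅a, b⁆)
    (hfixs : ∀ g ∈ Q₁, ∀ a ∈ A, Commute g (a * a))
    (hT : π (u ^ 2 ^ (k - 1)) * π (u ^ 2 ^ (k - 1)) = 1)
    (hrank : finrank (ZMod r) (LinearMap.ker (π (u ^ 2 ^ (k - 1)) + 1)) ≤ 2) :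
    ∀ a ∈ A, π a = 1 := by
  classical
  have hr2 : r ≠ 2 := by
    rintro rfl
    rcases k with _ | k
    · omega
    · rw [pow_succ] at hrk; omega
  set τ := u ^ 2 ^ (k - 1) with hτ
  have hTT : ∀ x, π τ (π τ x) = x := fun x => LinearMap.congr_fun hT x
  by_contra hcon
  push Not at hcon
  obtain ⟨a₁, ha₁, ha₁ne⟩ := hcon
  haveI : Fintype A := Fintype.ofFinite A
  set H := A ⊔ Q ⊔ Subgroup.zpowers u with hH
  have hAH : A ≤ H := le_sup_left.trans le_sup_left
  have hQH : Q ≤ H := le_sup_right.trans le_sup_left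
  have huH : u ∈ H := Subgroup.mem_sup_right (Subgroup.mem_zpowers u)
  have hτH : τ ∈ H := pow_mem huH _
  have hHA : H ≤ Subgroup.normalizer (A : Set Γ) :=
    sup_le (sup_le Subgroup.le_normalizer hQA) (Subgroup.zpowers_le.mpr huA)
  have hHQ₀ : H ≤ Subgroup.normalizer (Q₀ : Set Γ) := by
    refine sup_le (sup_le (fun a ha => mem_norm fun x hx => ?_) hQQ₀) (Subgroup.zpowers_le.mpr huQ₀)
    rw [← (hQ₀A x hx a ha).eq, mul_inv_cancel_right]
    exact hx
  -- a minimal subspace moved by `A`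
  obtain ⟨Y, ⟨hYinv, a₀, ha₀, y₀, hy₀, hne₀⟩, hYmin⟩ := wellFounded_lt.has_min
    {V : Submodule (ZMod r) X | (∀ g ∈ H, ∀ v ∈ V, π g v ∈ V) ∧
      ∃ a ∈ A, ∃ v ∈ V, π a v ≠ v} ⟨⊤, fun _ _ _ _ => trivial, a₁, ha₁, by
      by_contra h; push Not at h
      exact ha₁ne (LinearMap.ext fun v => h v trivial)⟩
  have hYker : ∀ y ∈ Y, (∑ b : A, π b) y = 0 := by
    let V : Submodule (ZMod r) X := Y ⊓ LinearMap.ker (∑ b : A, π (b : Γ))
    have hVinv : ∀ g ∈ H, ∀ v ∈ V, π g v ∈ V := by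
      intro g hg v hv
      refine ⟨hYinv g hg v hv.1, ?_⟩
      rw [SetLike.mem_coe, LinearMap.mem_ker, norm_normalize π A (hHA hg),
        LinearMap.mem_ker.mp hv.2, map_zero]
    have hV : V = Y := by
      refine eq_of_le_of_not_lt inf_le_left fun hlt => hYmin V ⟨hVinv, ?_⟩ hlt
      by_contra htr
      push Not at htr
      have hd : π a₀ y₀ - y₀ ∈ V := by
        refine ⟨sub_mem (hYinv _ (hAH ha₀) _ hy₀) hy₀, ?_⟩
        rw [SetLike.mem_coe, LinearMap.mem_ker, map_sub, norm_absorb π A ha₀, sub_self]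
      exact hne₀ (sub_eq_zero.mp
        (fixed_norm_zero hr2 π A hA (LinearMap.mem_ker.mp hd.2) fun b hb => htr b hb _ hd))
    intro y hy
    exact LinearMap.mem_ker.mp (hV.ge hy).2
  have hYfix : ∀ y ∈ Y, (∀ a ∈ A, π a y = y) → y = 0 := fun y hy h =>
    fixed_norm_zero hr2 π A hA (hYker y hy) h
  have hirr : ∀ D : Submodule (ZMod r) X, D ≤ Y → D ≠ ⊥ → (∀ g ∈ H, ∀ v ∈ D, π g v ∈ D) →
      D = Y := by
    intro D hDY hD hDinv
    refine eq_of_le_of_not_lt hDY fun hlt => hYmin D ⟨hDinv, ?_⟩ hlt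
    by_contra htr
    push Not at htr
    obtain ⟨v, hv, hv0⟩ := (Submodule.ne_bot_iff D).mp hD
    exact hv0 (hYfix v (hDY hv) fun a ha => htr a ha v hv)
  have hY0 : Y ≠ ⊥ := fun h => hne₀ (by
    rw [h, Submodule.mem_bot] at hy₀
    rw [hy₀, map_zero])
  -- `Q₀` is trivial on `Y`
  have hQ₀Y : ∀ x ∈ Q₀, ∀ y ∈ Y, π x y = y := by
    obtain ⟨v, hvY, hv0, hvfix⟩ := exists_fixed π Q₀ (hQ.to_le hQ₀) Y hY0
      fun g hg => hYinv g (hQH (hQ₀ hg))
    let D : Submodule (ZMod r) X :=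
      Y ⊓ ⨅ x : Q₀, LinearMap.eqLocus (π (x : Γ)) (1 : Module.End (ZMod r) X)
    have hDmem : ∀ y, y ∈ D ↔ y ∈ Y ∧ ∀ x ∈ Q₀, π x y = y := fun y => by
      simp only [D, Submodule.mem_inf, Submodule.mem_iInf, LinearMap.mem_eqLocus,
        Module.End.one_apply, Subtype.forall]
    have hD : D = Y := by
      refine hirr D inf_le_left ((Submodule.ne_bot_iff D).mpr ⟨v, (hDmem v).mpr ⟨hvY, hvfix⟩, hv0⟩)
        fun g hg y hy => ?_
      rw [hDmem] at hy ⊢
      refine ⟨hYinv g hg y hy.1, fun x hx => ?_⟩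
      have h' : g⁻¹ * x * g⁻¹⁻¹ ∈ Q₀ := conj_mem (inv_mem (hHQ₀ hg)) hx
      conv_rhs => rw [← hy.2 _ h']
      rw [← Module.End.mul_apply, ← map_mul, ← Module.End.mul_apply, ← map_mul]
      congr 2
      group
    intro x hx y hy
    exact ((hDmem y).mp (hD.ge hy)).2 x hx
  have hτω : ∀ g ∈ Q₁, ∀ y ∈ Y, π τ (π g y) = π g (π τ y) := by
    intro g hg y hy
    rw [← Module.End.mul_apply, ← map_mul,
      show τ * g = ⁅τ, g⁆ * (g * τ) by rw [commutatorElement_def]; group, map_mul,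
      Module.End.mul_apply, hQ₀Y _ (hτ₁ g hg) _ (hYinv _ (mul_mem (hQH (hQ₁ hg)) hτH) y hy),
      map_mul, Module.End.mul_apply]
  have hQω : ∀ x ∈ Q, ∀ g ∈ Q₁, ∀ y ∈ Y, π x (π g y) = π g (π x y) := by
    intro x hx g hg y hy
    rw [← Module.End.mul_apply, ← map_mul,
      show x * g = ⁅x, g⁆ * (g * x) by rw [commutatorElement_def]; group, map_mul,
      Module.End.mul_apply,
      hQ₀Y _ (hmod x hx g hg) _ (hYinv _ (mul_mem (hQH (hQ₁ hg)) (hQH hx)) y hy),
      map_mul, Module.End.mul_apply]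
  -- operators commuting with the involution fix its plane
  let P : Submodule (ZMod r) X := Y.map (π τ - 1)
  have hPmem : ∀ y ∈ Y, π τ y - y ∈ P := fun y hy => ⟨y, hy, rfl⟩
  have hPY : P ≤ Y := by
    rintro _ ⟨y, hy, rfl⟩
    exact sub_mem (hYinv _ hτH y hy) hy
  have hPT : ∀ p ∈ P, π τ p = -p := by
    rintro _ ⟨y, -, rfl⟩
    show π τ (π τ y - y) = -(π τ y - y)
    rw [map_sub, hTT, neg_sub]
  have huτ : Commute u τ := (Commute.refl u).pow_right _
  have hPu : ∀ p ∈ P, π u p ∈ P := by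
    rintro _ ⟨y, hy, rfl⟩
    have h := hPmem _ (hYinv _ huH y hy)
    show π u (π τ y - y) ∈ P
    rwa [map_sub, ← Module.End.mul_apply, ← map_mul, huτ.eq, map_mul, Module.End.mul_apply]
  have hPfix : ∀ g ∈ Q₁, ∀ p ∈ P, π g p = p := by
    let Qc : Subgroup Γ :=
      { carrier := {g | g ∈ Q ∧ ∀ y ∈ Y, π τ (π g y) = π g (π τ y)}
        one_mem' := ⟨one_mem Q, fun y _ => by rw [map_one]; rfl⟩
        mul_mem' := fun {a b} ha hb => ⟨mul_mem ha.1 hb.1, fun y hy => by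
          rw [map_mul, Module.End.mul_apply, ha.2 _ (hYinv b (hQH hb.1) y hy), hb.2 y hy]
          rfl⟩
        inv_mem' := fun {a} ha => ⟨inv_mem ha.1, fun y hy => by
          have h := ha.2 _ (hYinv a⁻¹ (hQH (inv_mem ha.1)) y hy)
          rw [← Module.End.mul_apply (π a) (π a⁻¹), ← map_mul, mul_inv_cancel, map_one,
            Module.End.one_apply] at h
          rw [h, ← Module.End.mul_apply (π a⁻¹), ← map_mul, inv_mul_cancel, map_one,
            Module.End.one_apply]⟩ }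
    have hQcP : ∀ g ∈ Qc, ∀ p ∈ P, π g p ∈ P := by
      rintro g hg _ ⟨y, hy, rfl⟩
      have h := hPmem _ (hYinv _ (hQH hg.1) y hy)
      rw [hg.2 y hy, ← map_sub] at h
      exact h
    have hQcu : ∀ g ∈ Qc, u⁻¹ * g * u ∈ Qc := by
      intro g hg
      have h1 : u⁻¹ * g * u ∈ Q := by
        have := conj_mem (inv_mem huQ) hg.1
        rwa [inv_inv] at this
      refine ⟨h1, fun y hy => ?_⟩
      have h2 := hg.2 _ (hYinv _ huH y hy)
      rw [← Module.End.mul_apply, ← Module.End.mul_apply, ← map_mul, ← map_mul]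
      rw [← Module.End.mul_apply, ← map_mul, ← Module.End.mul_apply, ← map_mul,
        ← Module.End.mul_apply, ← map_mul, ← Module.End.mul_apply, ← map_mul] at h2
      have h3 := congrArg (π u⁻¹) h2
      rw [← Module.End.mul_apply, ← map_mul, ← Module.End.mul_apply, ← map_mul] at h3
      rw [show τ * (u⁻¹ * g * u) = u⁻¹ * (τ * (g * u)) by
          rw [← mul_assoc, ← mul_assoc, ← (huτ.inv_left).eq]; group,
        show u⁻¹ * g * u * τ = u⁻¹ * (g * (τ * u)) by rw [mul_assoc _ u, huτ.eq]; group]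
      rw [mul_assoc τ, mul_assoc g] at h3
      exact h3
    rcases eq_or_ne P ⊥ with hP | hP
    · intro g _ p hp
      rw [hP, Submodule.mem_bot] at hp
      rw [hp, map_zero]
    obtain ⟨v, hvP, hv0, hvfix⟩ := exists_fixed π Qc (hQ.to_le fun g hg => hg.1) P hP hQcP
    let F : Submodule (ZMod r) X :=
      P ⊓ ⨅ x : Qc, LinearMap.eqLocus (π (x : Γ)) (1 : Module.End (ZMod r) X)
    have hFmem : ∀ y, y ∈ F ↔ y ∈ P ∧ ∀ x ∈ Qc, π x y = y := fun y => by
      simp only [F, Submodule.mem_inf, Submodule.mem_iInf, LinearMap.mem_eqLocus,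
        Module.End.one_apply, Subtype.forall]
    have hFu : ∀ p ∈ F, π u p ∈ F := by
      intro p hp
      rw [hFmem] at hp ⊢
      refine ⟨hPu p hp.1, fun x hx => ?_⟩
      conv_rhs => rw [← hp.2 _ (hQcu x hx)]
      rw [← Module.End.mul_apply, ← map_mul, ← Module.End.mul_apply, ← map_mul]
      congr 2
      group
    have hFP : F = P := by
      refine eq_of_le_of_not_lt inf_le_left fun hlt => ?_
      have h1 := Submodule.finrank_lt_finrank_of_lt hlt
      have h2 : finrank (ZMod r) P ≤ 2 := by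
        refine le_trans (Submodule.finrank_mono fun p hp => ?_) hrank
        rw [LinearMap.mem_ker, LinearMap.add_apply, Module.End.one_apply, hPT p hp, neg_add_cancel]
      have hvF : v ∈ F := (hFmem v).mpr ⟨hvP, hvfix⟩
      have hspan : Submodule.span (ZMod r) {v} = F := by
        refine Submodule.eq_of_le_of_finrank_le ((Submodule.span_singleton_le_iff_mem _ _).mpr hvF) ?_
        rw [finrank_span_singleton hv0]
        omega
      obtain ⟨c, hc⟩ := Submodule.mem_span_singleton.mp (hspan.ge (hFu v hvF))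
      exact no_eigen' hk hrk (π u) hv0 (by rw [← map_pow]; exact hPT v hvP) c hc.symm
    intro g hg p hp
    exact ((hFmem p).mp (hFP.ge hp)).2 g ⟨hQ₁ hg, hτω g hg⟩
  -- every quadratic operator commutes with `A` on `Y`
  suffices hmain : ∀ a ∈ A, ∀ ω ∈ Q₁, ∀ y ∈ Y, π ⁅a, ω⁆ y = y by
    let S : Subgroup Γ :=
      { carrier := {g | ∀ y ∈ Y, π g y = y}
        one_mem' := fun y _ => by rw [map_one]; rfl
        mul_mem' := fun {a b} ha hb y hy => by
          rw [map_mul, Module.End.mul_apply, hb y hy, ha y hy]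
        inv_mem' := fun {a} ha y hy => by
          conv_lhs => rw [← ha y hy]
          rw [← Module.End.mul_apply, ← map_mul, inv_mul_cancel, map_one]; rfl }
    refine hne₀ ((show A ≤ S from hAgen.trans ((Subgroup.closure_le S).mpr ?_)) ha₀ y₀ hy₀)
    rintro _ ⟨a, ha, g, hg, rfl⟩
    exact hmain a ha g hg
  intro a₂ ha₂ ω hω
  have hωA : ω ∈ Subgroup.normalizer (A : Set Γ) := hQA (hQ₁ hω)
  have hcomA : ∀ a ∈ A, ⁅a, ω⁆ ∈ A := fun a ha => by
    rw [commutatorElement_def, show a * ω * a⁻¹ * ω⁻¹ = a * (ω * a⁻¹ * ω⁻¹) by group]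
    exact mul_mem ha (conj_mem hωA (inv_mem ha))
  set A₁ := Subgroup.closure {x | ∃ a ∈ A, ⁅a, ω⁆ = x} with hA₁
  haveI : Fintype A₁ := Fintype.ofFinite A₁
  have hA₁A : A₁ ≤ A := (Subgroup.closure_le A).mpr (by rintro _ ⟨a, ha, rfl⟩; exact hcomA a ha)
  have hA₁mem : ∀ a ∈ A, ⁅a, ω⁆ ∈ A₁ := fun a ha => Subgroup.subset_closure ⟨a, ha, rfl⟩
  have hA₁p : IsPGroup 2 A₁ := hA.to_le hA₁A
  have hnormA₁ : ∀ g, (∀ a ∈ A, g * ⁅a, ω⁆ * g⁻¹ ∈ A₁) → g ∈ Subgroup.normalizer (A₁ : Set Γ) := by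
    intro g h
    refine mem_norm fun x hx => ?_
    have hle : A₁ ≤ A₁.comap (MulAut.conj g).toMonoidHom :=
      (Subgroup.closure_le _).mpr (by rintro _ ⟨a, ha, rfl⟩; exact h a ha)
    exact hle hx
  have hnQ₀ : ∀ q₀ ∈ Q₀, ∀ a ∈ A, ⁅a, q₀ * ω⁆ = ⁅a, ω⁆ := by
    intro q₀ hq₀ a ha
    rw [show ⁅a, q₀ * ω⁆ = ⁅a, q₀⁆ * (q₀ * ⁅a, ω⁆ * q₀⁻¹) by
        simp only [commutatorElement_def]; group,
      commutatorElement_eq_one_iff_commute.mpr (hQ₀A q₀ hq₀ a ha).symm, one_mul,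
      (hQ₀A q₀ hq₀ _ (hcomA a ha)).eq, mul_inv_cancel_right]
  have hA₁n : ∀ g ∈ Subgroup.normalizer (A : Set Γ), ⁅g, ω⁆ ∈ Q₀ →
      g ∈ Subgroup.normalizer (A₁ : Set Γ) := by
    intro g hg hgω
    refine hnormA₁ g fun a ha => ?_
    rw [show g * ⁅a, ω⁆ * g⁻¹ = ⁅g * a * g⁻¹, ⁅g, ω⁆ * ω⁆ by
      simp only [commutatorElement_def]; group, hnQ₀ _ hgω _ (conj_mem hg ha)]
    exact hA₁mem _ (conj_mem hg ha)
  have hAA₁ : A ≤ Subgroup.normalizer (A₁ : Set Γ) := fun g hg => hnormA₁ g fun a ha => by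
    rw [show g * ⁅a, ω⁆ * g⁻¹ = ⁅g * a, ω⁆ * ⁅g, ω⁆⁻¹ by simp only [commutatorElement_def]; group]
    exact mul_mem (hA₁mem _ (mul_mem hg ha)) (inv_mem (hA₁mem _ hg))
  have hQA₁ : ∀ g ∈ Q, g ∈ Subgroup.normalizer (A₁ : Set Γ) := fun g hg =>
    hA₁n g (hQA hg) (hmod g hg ω hω)
  have hτA₁ : τ ∈ Subgroup.normalizer (A₁ : Set Γ) := hA₁n τ (pow_mem huA _) (hτ₁ ω hω)
  -- the moved part for `A₁`
  let U : Submodule (ZMod r) X := Y ⊓ LinearMap.ker (∑ b : A₁, π (b : Γ))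
  have hUinv : ∀ g ∈ H, g ∈ Subgroup.normalizer (A₁ : Set Γ) → ∀ v ∈ U, π g v ∈ U := by
    intro g hg hgn v hv
    refine ⟨hYinv g hg v hv.1, ?_⟩
    rw [SetLike.mem_coe, LinearMap.mem_ker, norm_normalize π A₁ hgn, LinearMap.mem_ker.mp hv.2,
      map_zero]
  have hUA : ∀ a : A, ∀ v ∈ U, π (a : Γ) v ∈ U := fun a => hUinv _ (hAH a.2) (hAA₁ a.2)
  have hUω : ∀ v ∈ U, π ω v ∈ U := hUinv _ (hQH (hQ₁ hω)) (hQA₁ ω (hQ₁ hω))
  let ρU : A →* Module.End (ZMod r) U :=
    { toFun := fun a => (π (a : Γ)).restrict (hUA a)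
      map_one' := LinearMap.ext fun y => Subtype.ext (by
        show π 1 (y : X) = _; rw [map_one]; rfl)
      map_mul' := fun a b => LinearMap.ext fun y => Subtype.ext (by
        show π ((a : Γ) * b) (y : X) = _; rw [map_mul]; rfl) }
  have hquad : ∀ y ∈ Y, π ω (π ω y - y) = π ω y - y := by
    intro y hy
    refine trivial_of_gen π Q τ hgen (Y.map (π ω - 1)) ?_ ?_ ω (hQ₁ hω) _ ⟨y, hy, rfl⟩
    · rintro g hg _ ⟨z, hz, rfl⟩
      refine ⟨π g z, hYinv g (hQH hg) z hz, ?_⟩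
      show π ω (π g z) - π g z = π g (π ω z - z)
      rw [map_sub, hQω g hg ω hω z hz]
    · rintro _ ⟨z, hz, rfl⟩
      show π τ (π ω z - z) = π ω z - z
      rw [map_sub, hτω ω hω z hz, sub_eq_sub_iff_sub_eq_sub, ← map_sub]
      exact hPfix ω hω _ (hPmem z hz)
  let e : Module.End (ZMod r) U := (π ω).restrict hUω - 1
  have hker : LinearMap.ker e ≤ LinearMap.range e := by
    let φ : MulAut A :=
      { toFun := fun a => ⟨ω * a * ω⁻¹, conj_mem hωA a.2⟩
        invFun := fun a => ⟨ω⁻¹ * a * ω, by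
          have := conj_mem (inv_mem hωA) a.2
          rwa [inv_inv] at this⟩
        left_inv := fun a => Subtype.ext (by show ω⁻¹ * (ω * (a : Γ) * ω⁻¹) * ω = a; group)
        right_inv := fun a => Subtype.ext (by show ω * (ω⁻¹ * (a : Γ) * ω) * ω⁻¹ = a; group)
        map_mul' := fun a b => Subtype.ext (by
          show ω * ((a : Γ) * b) * ω⁻¹ = ω * (a : Γ) * ω⁻¹ * (ω * (b : Γ) * ω⁻¹); group) }
    have hcop : (Nat.card A).Coprime r := by
      obtain ⟨n, hn⟩ := hA.exists_card_eq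
      rw [hn]
      exact ((Nat.coprime_primes Nat.prime_two Fact.out).mpr (Ne.symm hr2)).pow_left n
    refine ker_le_range hr2 φ hcop (fun a b c => Subtype.ext (hcen a a.2 b b.2 c c.2).eq)
      (fun a c => Subtype.ext (hsq a a.2 c c.2).eq) (fun a b => Subtype.ext ?_)
      (fun a => Subtype.ext ?_) _ le_rfl ρU e ?_ ?_ ?_
    · show ω * ⁅(a : Γ), (b : Γ)⁆ * ω⁻¹ = ⁅(a : Γ), (b : Γ)⁆
      rw [(hfix ω hω a a.2 b b.2).eq, mul_inv_cancel_right]
    · show ω * ((a : Γ) * a) * ω⁻¹ = (a : Γ) * a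
      rw [(hfixs ω hω a a.2).eq, mul_inv_cancel_right]
    · refine LinearMap.ext fun y => Subtype.ext ?_
      show π ω (π ω (y : X) - y) - (π ω (y : X) - y) = 0
      rw [hquad _ y.2.1, sub_self]
    · intro a
      rw [show (1 : Module.End (ZMod r) U) + e = (π ω).restrict hUω from add_sub_cancel _ _]
      refine LinearMap.ext fun y => Subtype.ext ?_
      show π ω (π (a : Γ) (y : X)) = π (ω * (a : Γ) * ω⁻¹) (π ω (y : X))
      rw [← Module.End.mul_apply, ← map_mul, ← Module.End.mul_apply, ← map_mul]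
      congr 2
      group
    · intro v hv
      refine Subtype.ext (fixed_norm_zero hr2 π A₁ hA₁p (LinearMap.mem_ker.mp v.2.2) ?_)
      let S : Subgroup Γ :=
        { carrier := {g | π g (v : X) = v}
          one_mem' := by show π 1 (v : X) = v; rw [map_one]; rfl
          mul_mem' := fun {a b} (ha : π a (v : X) = v) (hb : π b (v : X) = v) => by
            show π (a * b) (v : X) = v; rw [map_mul, Module.End.mul_apply, hb, ha]
          inv_mem' := fun {a} (ha : π a (v : X) = v) => by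
            show π a⁻¹ (v : X) = v
            conv_lhs => rw [← ha]
            rw [← Module.End.mul_apply, ← map_mul, inv_mul_cancel, map_one]; rfl }
      refine (Subgroup.closure_le S).mpr ?_
      rintro _ ⟨a, ha, rfl⟩
      have h1 : π (ω * a⁻¹ * ω⁻¹) (v : X) = π a⁻¹ (v : X) :=
        congrArg Subtype.val (hv ⟨a⁻¹, inv_mem ha⟩)
      show π ⁅a, ω⁆ (v : X) = v
      rw [commutatorElement_def, show a * ω * a⁻¹ * ω⁻¹ = a * (ω * a⁻¹ * ω⁻¹) by group, map_mul,
        Module.End.mul_apply, h1, ← Module.End.mul_apply, ← map_mul, mul_inv_cancel, map_one,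
        Module.End.one_apply]
  have hTU : ∀ v ∈ U, π τ v = v := by
    intro v hv
    have hd : π τ v - v ∈ U := sub_mem (hUinv τ hτH hτA₁ v hv) hv
    have he : (⟨_, hd⟩ : U) ∈ LinearMap.ker e := by
      refine LinearMap.mem_ker.mpr (Subtype.ext ?_)
      show π ω (π τ v - v) - (π τ v - v) = 0
      rw [hPfix ω hω _ (hPmem v hv.1), sub_self]
    obtain ⟨w, hw⟩ := hker he
    have hw' : π ω (w : X) - w = π τ v - v := congrArg Subtype.val hw
    have h1 : π τ (π τ v - v) = π τ v - v := by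
      rw [← hw', map_sub, hτω ω hω _ w.2.1, sub_eq_sub_iff_sub_eq_sub, ← map_sub]
      exact hPfix ω hω _ (hPmem _ w.2.1)
    rw [hPT _ (hPmem v hv.1), neg_eq_iff_add_eq_zero, ← two_smul (ZMod r), smul_eq_zero] at h1
    exact sub_eq_zero.mp (h1.resolve_left (two_ne_zero' hr2))
  have hU0 : ∀ v ∈ U, v = 0 := by
    intro v hv
    have hω1 := trivial_of_gen π Q τ hgen U (fun g hg => hUinv g (hQH hg) (hQA₁ g hg)) hTU ω
      (hQ₁ hω)
    refine fixed_norm_zero hr2 π A₁ hA₁p (LinearMap.mem_ker.mp hv.2) ?_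
    let S : Subgroup Γ :=
      { carrier := {g | π g v = v}
        one_mem' := by show π 1 v = v; rw [map_one]; rfl
        mul_mem' := fun {a b} (ha : π a v = v) (hb : π b v = v) => by
          show π (a * b) v = v; rw [map_mul, Module.End.mul_apply, hb, ha]
        inv_mem' := fun {a} (ha : π a v = v) => by
          show π a⁻¹ v = v
          conv_lhs => rw [← ha]
          rw [← Module.End.mul_apply, ← map_mul, inv_mul_cancel, map_one]; rfl }
    refine (Subgroup.closure_le S).mpr ?_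
    rintro _ ⟨a, ha, rfl⟩
    show π ⁅a, ω⁆ v = v
    have h2 : π ω⁻¹ v = v := by
      conv_lhs => rw [← hω1 v hv]
      rw [← Module.End.mul_apply, ← map_mul, inv_mul_cancel, map_one]; rfl
    rw [commutatorElement_def, map_mul, map_mul, map_mul, Module.End.mul_apply,
      Module.End.mul_apply, Module.End.mul_apply, h2,
      hω1 _ (hUA ⟨a⁻¹, inv_mem ha⟩ v hv), ← Module.End.mul_apply, ← map_mul, mul_inv_cancel,
      map_one, Module.End.one_apply]
  intro y hy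
  have hb := hA₁mem a₂ ha₂
  have hd : π ⁅a₂, ω⁆ y - y ∈ U := by
    refine ⟨sub_mem (hYinv _ (hAH (hA₁A hb)) _ hy) hy, ?_⟩
    rw [SetLike.mem_coe, LinearMap.mem_ker, map_sub, norm_absorb π A₁ hb, sub_self]
  exact sub_eq_zero.mp (hU0 _ hd)

end H28.TwoLength
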