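import Cfsg.Agent.H28.TwoLength.LinBase

/-!
Operators of Mersenne-prime order on a section in another characteristic are trivial.
-/

set_option autoImplicit false
set_option linter.style.haveILetI false

namespace H28.TwoLength

open Module H28.SG
open scoped commutatorElement LinearAlgebra.Projectivization

universe u v w

variable {r : ℕ} [Fact r.Prime] {X : Type v} [AddCommGroup X] [Module (ZMod r) X] [Finite X]

theorem pow_pow_succ_cancel {G : Type u} [Monoid G] {T : G} (hT : T * T = 1) : T ^ 2 = 1 := by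
  rw [sq, hT]

/-- Operators commuting with the involution are trivial on its plane. -/
theorem plane_fix {k : ℕ} (hk : 2 ≤ k) (hrk : r + 1 = 2 ^ k) {q : ℕ} (hq : q.Prime) (hq2 : q ≠ 2)
    {Γ : Type u} [Group Γ] [Finite Γ] (π : Γ →* Module.End (ZMod r) X) (u : Γ) (Q : Subgroup Γ)
    (hQ : IsPGroup q Q) (huQ : u ∈ Subgroup.normalizer (Q : Set Γ))
    (hrank : finrank (ZMod r)
      (LinearMap.ker (π (u ^ 2 ^ (k - 1)) + 1)) = 2)
    {L : Type w} [Field L] (b : X → X → L) (hbl : ∀ x x' y, b (x + x') y = b x y * b x' y)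
    (hbr : ∀ x y y', b x (y + y') = b x y * b x y') (hbord : ∀ x y, b x y ^ r = 1)
    (hbnd : ∀ x, π (u ^ 2 ^ (k - 1)) x = -x → x ≠ 0 →
      ∃ y, π (u ^ 2 ^ (k - 1)) y = -y ∧ b x y ≠ 1)
    (hbQ : ∀ g ∈ Q, ∀ x y, b (π g x) (π g y) = b x y)
    {g : Γ} (hg : g ∈ Q) (hgc : Commute (π g) (π (u ^ 2 ^ (k - 1))))
    {x : X} (hx : π (u ^ 2 ^ (k - 1)) x = -x) : π g x = x := by
  classical
  haveI := Fact.mk hq
  have hr2 : r ≠ 2 := by
    rintro rfl
    rcases k with _ | k
    · omega
    · rw [pow_succ] at hrk; omega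
  set τ := u ^ 2 ^ (k - 1) with hτ
  set P0 := LinearMap.ker (π τ + 1) with hP0
  have hmem : ∀ y, y ∈ P0 ↔ π τ y = -y := fun y => by
    rw [hP0, LinearMap.mem_ker, LinearMap.add_apply, Module.End.one_apply, add_eq_zero_iff_eq_neg]
  let Qc : Subgroup Γ :=
    { carrier := {h | h ∈ Q ∧ Commute (π h) (π τ)}
      one_mem' := ⟨one_mem Q, by rw [map_one]; exact Commute.one_left _⟩
      mul_mem' := fun {a c} ha hc => ⟨mul_mem ha.1 hc.1, by
        rw [map_mul]; exact ha.2.mul_left hc.2⟩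
      inv_mem' := fun {a} ha => ⟨inv_mem ha.1, by
        have h1 : π a⁻¹ * π a = 1 := by rw [← map_mul, inv_mul_cancel, map_one]
        have h2 : π a * π a⁻¹ = 1 := by rw [← map_mul, mul_inv_cancel, map_one]
        show π a⁻¹ * π τ = π τ * π a⁻¹
        calc π a⁻¹ * π τ = π a⁻¹ * (π τ * π a) * π a⁻¹ := by
              rw [mul_assoc, mul_assoc (π τ), h2, mul_one]
          _ = π τ * π a⁻¹ := by rw [← ha.2.eq, ← mul_assoc, h1, one_mul]⟩ }
  have hinv : ∀ h : Γ, Commute (π h) (π τ) → ∀ y ∈ P0, π h y ∈ P0 := fun h hh y hy => by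
    rw [hmem] at hy ⊢
    rw [← Module.End.mul_apply, ← hh.eq, Module.End.mul_apply, hy, map_neg]
  have huτ : Commute (π u) (π τ) := (Commute.pow_right (Commute.refl u) _).map π
  let β : Qc →* Module.End (ZMod r) P0 :=
    { toFun := fun h => (π (h : Γ)).restrict (hinv _ h.2.2)
      map_one' := LinearMap.ext fun y => Subtype.ext (by
        show π 1 (y : X) = _; rw [map_one]; rfl)
      map_mul' := fun a c => LinearMap.ext fun y => Subtype.ext (by
        show π ((a : Γ) * c) (y : X) = _; rw [map_mul]; rfl) }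
  let Uc : Subgroup Γ := Subgroup.zpowers u
  have hUc : ∀ h : Uc, Commute (π (h : Γ)) (π τ) := fun h => by
    obtain ⟨i, hi⟩ := Subgroup.mem_zpowers_iff.mp h.2
    rw [← hi]
    exact (((Commute.refl u).pow_right (2 ^ (k - 1))).zpow_left i).map π
  let γ : Uc →* Module.End (ZMod r) P0 :=
    { toFun := fun h => (π (h : Γ)).restrict (hinv _ (hUc h))
      map_one' := LinearMap.ext fun y => Subtype.ext (by
        show π 1 (y : X) = _; rw [map_one]; rfl)
      map_mul' := fun a c => LinearMap.ext fun y => Subtype.ext (by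
        show π ((a : Γ) * c) (y : X) = _; rw [map_mul]; rfl) }
  let B : Subgroup (Module.End (ZMod r) P0)ˣ := β.toHomUnits.range
  have hQc : IsPGroup q Qc := hQ.to_le fun h hh => hh.1
  have hB : IsPGroup q B := hQc.of_surjective β.toHomUnits.rangeRestrict
    (MonoidHom.rangeRestrict_surjective _)
  let uP : (Module.End (ZMod r) P0)ˣ := γ.toHomUnits ⟨u, Subgroup.mem_zpowers u⟩
  have huPpow : ∀ (i : ℕ) (y : P0), (((uP ^ i : (Module.End (ZMod r) P0)ˣ) :
      Module.End (ZMod r) P0) y : X) = (π u ^ i) y := by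
    intro i y
    simp only [uP, ← map_pow, MonoidHom.coe_toHomUnits]
    rfl
  -- the fixed lines
  let Pr := ℙ (ZMod r) P0
  haveI : Finite Pr := Projectivization.finite_of_finite (ZMod r) P0
  have hcardP : Nat.card Pr = 2 ^ k := by
    rw [Projectivization.card_of_finrank_two _ _ hrank, Nat.card_zmod, hrk]
  let S : Set Pr := MulAction.fixedPoints B Pr
  have hSmem : ∀ l, l ∈ S ↔ ∀ h : Qc, β.toHomUnits h • l = l := fun l =>
    ⟨fun hl h => hl ⟨_, ⟨h, rfl⟩⟩, fun hl => by
      rintro ⟨_, ⟨h, rfl⟩⟩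
      exact hl h⟩
  have hSinv : ∀ l, l ∈ S → uP • l ∈ S := by
    intro l hl
    rw [hSmem] at hl ⊢
    intro h
    have h' : u⁻¹ * (h : Γ) * u ∈ Qc := by
      have e : u⁻¹ * (h : Γ) * u = u⁻¹ * h * u⁻¹⁻¹ := by rw [inv_inv]
      refine ⟨e ▸ conj_mem (inv_mem huQ) h.2.1, ?_⟩
      rw [map_mul, map_mul]
      have h1 : Commute (π u⁻¹) (π τ) :=
        hUc ⟨u⁻¹, inv_mem (Subgroup.mem_zpowers u)⟩
      exact (h1.mul_left h.2.2).mul_left huτ
    have e : β.toHomUnits h * uP = uP * β.toHomUnits ⟨_, h'⟩ :=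
      Units.ext (LinearMap.ext fun y => Subtype.ext (by
        show π (h : Γ) (π u (y : X)) = π u (π (u⁻¹ * (h : Γ) * u) (y : X))
        rw [← Module.End.mul_apply, ← map_mul, ← Module.End.mul_apply, ← map_mul]
        congr 2
        group))
    rw [← mul_smul, e, mul_smul, hl]
  have hper : ∀ l : Pr, uP ^ 2 ^ (k - 1) • l = l := by
    intro l
    induction l using Projectivization.ind with
    | h v hv =>
      rw [Projectivization.smul_mk, Projectivization.mk_eq_mk_iff']
      refine ⟨-1, ?_⟩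
      rw [neg_one_smul]
      apply Subtype.ext
      show -(v : X) = (((uP ^ 2 ^ (k - 1) : (Module.End (ZMod r) P0)ˣ) :
        Module.End (ZMod r) P0) v : X)
      rw [huPpow, ← map_pow, (hmem _).mp v.2]
  have hne : ∀ l : Pr, uP ^ 2 ^ (k - 2) • l ≠ l := by
    intro l
    induction l using Projectivization.ind with
    | h v hv =>
      intro h
      rw [Projectivization.smul_mk, Projectivization.mk_eq_mk_iff'] at h
      obtain ⟨c, hc⟩ := h
      refine no_eigen hk hrk (π u) (fun h0 => hv (Subtype.ext h0))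
        (by rw [← map_pow]; exact (hmem _).mp v.2) c ?_
      rw [← huPpow]
      exact (congrArg Subtype.val hc).symm
  have horbit : ∀ T' : Set Pr, (∀ l ∈ T', uP • l ∈ T') → T'.Nonempty →
      2 ^ (k - 1) ≤ T'.ncard := by
    intro T' hT' ⟨l, hl⟩
    let f : Pr → Pr := fun l => uP • l
    have hf : ∀ i l, f^[i] l = uP ^ i • l := fun i l => by rw [smul_iterate]
    have hpp : Function.IsPeriodicPt f (2 ^ (k - 1)) l := (hf _ _).trans (hper l)
    obtain ⟨i, hi, hiL⟩ := (Nat.dvd_prime_pow Nat.prime_two).mp hpp.minimalPeriod_dvd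
    have hik : i = k - 1 := by
      by_contra hne'
      refine hne l ((hf _ _).symm.trans ?_)
      exact (Function.isPeriodicPt_minimalPeriod f l).trans_dvd
        (hiL ▸ pow_dvd_pow 2 (by omega))
    have hiter : ∀ i, f^[i] l ∈ T' := by
      intro i
      induction i with
      | zero => exact hl
      | succ i ih => rw [Function.iterate_succ_apply']; exact hT' _ ih
    have hinj : Set.InjOn (fun i => f^[i] l) (Set.Iio (2 ^ (k - 1))) := by
      rw [← hik, ← hiL]
      exact Function.iterate_injOn_Iio_minimalPeriod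
    calc 2 ^ (k - 1) = (Set.Iio (2 ^ (k - 1)) : Set ℕ).ncard := by simp
      _ = ((fun i => f^[i] l) '' Set.Iio (2 ^ (k - 1))).ncard :=
        (Set.InjOn.ncard_image hinj).symm
      _ ≤ T'.ncard := Set.ncard_le_ncard (by rintro _ ⟨i, -, rfl⟩; exact hiter i)
  have hSall : S = Set.univ := by
    by_contra hne'
    have hmod : 2 ^ k ≡ S.ncard [MOD q] := by
      have := hB.card_modEq_card_fixedPoints Pr
      rwa [hcardP, Nat.card_coe_set_eq] at this
    have hSne : S.Nonempty := by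
      rw [Set.nonempty_iff_ne_empty]
      intro h0
      rw [h0, Set.ncard_empty, Nat.modEq_zero_iff_dvd] at hmod
      exact hq2 ((Nat.prime_dvd_prime_iff_eq hq Nat.prime_two).mp (hq.dvd_of_dvd_pow hmod))
    have h1 := horbit S hSinv hSne
    have h2 := horbit Sᶜ (fun l hl h => hl (by
      have key : ∀ i, uP ^ (i + 1) • l ∈ S := by
        intro i
        induction i with
        | zero => rwa [zero_add, pow_one]
        | succ i ih => rw [pow_succ', mul_smul]; exact hSinv _ ih
      have h3 := key (2 ^ (k - 1) - 1)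
      rwa [Nat.sub_add_cancel Nat.one_le_two_pow, hper] at h3))
      (Set.nonempty_compl.mpr hne')
    have h3 := Set.ncard_add_ncard_compl S
    rw [hcardP] at h3
    have h4 : 2 ^ k = 2 ^ (k - 1) + 2 ^ (k - 1) := by
      conv_lhs => rw [show k = (k - 1) + 1 by omega]
      rw [pow_succ]; ring
    have h5 : S.ncard = 2 ^ (k - 1) := by omega
    rw [h5, h4] at hmod
    have h6 : q ∣ 2 ^ (k - 1) := by
      have := (Nat.modEq_iff_dvd' (by omega)).mp hmod.symm
      rwa [Nat.add_sub_cancel] at this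
    exact hq2 ((Nat.prime_dvd_prime_iff_eq hq Nat.prime_two).mp (hq.dvd_of_dvd_pow h6))
  -- the element is a scalar
  let G₀ : Module.End (ZMod r) P0 := β ⟨g, hg, hgc⟩
  obtain ⟨a, ha⟩ := LinearMap.exists_eq_smul_id_of_forall_notLinearIndependent (f := G₀)
    fun v => by
      rcases eq_or_ne v 0 with hv | hv
      · exact fun h => h.ne_zero 0 (by simpa using hv)
      · have hfix : Projectivization.mk (ZMod r) v hv ∈ S := by rw [hSall]; trivial
        have h1 := (hSmem _).mp hfix ⟨g, hg, hgc⟩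
        rw [Projectivization.smul_mk, Projectivization.mk_eq_mk_iff'] at h1
        obtain ⟨c, hc⟩ := h1
        intro hli
        have := (LinearIndependent.pair_iff.mp hli) c (-1) (by
          rw [hc, neg_one_smul, ← sub_eq_add_neg, sub_eq_zero]; rfl)
        exact one_ne_zero (neg_eq_zero.mp this.2)
  have hga : ∀ y, π τ y = -y → π g y = a • y := fun y hy =>
    congrArg Subtype.val (LinearMap.congr_fun ha ⟨y, (hmem y).mpr hy⟩)
  rcases eq_or_ne x 0 with hx0 | hx0
  · rw [hx0, map_zero]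
  obtain ⟨y, hy, hxy⟩ := hbnd x hx hx0
  have hb0l : ∀ z, b 0 z = 1 := fun z => by
    have h1 := hbl 0 0 z
    rw [add_zero] at h1
    have h2 : b 0 z ≠ 0 := fun h0 => by
      have := hbord 0 z
      rw [h0, zero_pow (Fact.out : r.Prime).ne_zero] at this
      exact zero_ne_one this
    exact mul_left_cancel₀ h2 (h1.symm.trans (mul_one _).symm)
  have hb0r : ∀ z, b z 0 = 1 := fun z => by
    have h1 := hbr z 0 0
    rw [add_zero] at h1
    have h2 : b z 0 ≠ 0 := fun h0 => by
      have := hbord z 0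
      rw [h0, zero_pow (Fact.out : r.Prime).ne_zero] at this
      exact zero_ne_one this
    exact mul_left_cancel₀ h2 (h1.symm.trans (mul_one _).symm)
  have hbn : ∀ (n : ℕ) z z', b (n • z) z' = b z z' ^ n ∧ b z (n • z') = b z z' ^ n := by
    intro n z z'
    induction n with
    | zero => simp [hb0l, hb0r]
    | succ n ih =>
      rw [succ_nsmul, succ_nsmul, hbl, hbr, ih.1, ih.2, pow_succ]
      exact ⟨rfl, rfl⟩
  have hbQ' := hbQ g hg x y
  rw [hga x hx, hga y hy, ← ZMod.natCast_zmod_val a, Nat.cast_smul_eq_nsmul, Nat.cast_smul_eq_nsmul,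
    (hbn _ _ _).1, (hbn _ _ _).2, ← pow_mul] at hbQ'
  have hord : orderOf (b x y) = r := orderOf_eq_prime (hbord x y) hxy
  have hsq : a * a = 1 := by
    have h1 : a.val * a.val ≡ 1 [MOD r] := by
      conv => arg 1; rw [← hord]
      have hfin : IsOfFinOrder (b x y) :=
        isOfFinOrder_iff_pow_eq_one.mpr ⟨r, (Fact.out : r.Prime).pos, hbord x y⟩
      exact hfin.pow_eq_pow_iff_modEq.mp (by rw [hbQ', pow_one])
    have h2 := (ZMod.natCast_eq_natCast_iff _ _ r).mpr h1
    push_cast at h2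
    rwa [ZMod.natCast_zmod_val] at h2
  obtain ⟨n, hn⟩ := hQ ⟨g, hg⟩
  have hn' : g ^ q ^ n = 1 := congrArg Subtype.val hn
  have hpow : ∀ i, π (g ^ i) x = a ^ i • x := by
    intro i
    induction i with
    | zero => simp
    | succ i ih =>
      rw [pow_succ', map_mul, Module.End.mul_apply, ih, map_smul, hga x hx, smul_smul, pow_succ]
  have h1 := hpow (q ^ n)
  rw [hn', map_one, Module.End.one_apply] at h1
  have h2 : a ^ q ^ n = 1 := smul_left_injective (ZMod r) hx0 (h1.symm.trans (one_smul _ x).symm)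
  obtain ⟨t, ht⟩ := (hq.odd_of_ne_two hq2).pow (n := n)
  rw [ht, pow_succ, pow_mul, sq, hsq, one_pow, one_mul] at h2
  rw [hga x hx, h2, one_smul]

/-- Operators of Mersenne-prime order generated by displacements act trivially. -/
theorem no_action_ne {k : ℕ} (hk : 2 ≤ k) (hrk : r + 1 = 2 ^ k) {q : ℕ} (hq : q.Prime)
    (hqr : q ≠ r) (hq4 : q % 4 = 3)
    {Γ : Type u} [Group Γ] [Finite Γ] (π : Γ →* Module.End (ZMod r) X) (u : Γ) (Q : Subgroup Γ)
    (hQ : IsPGroup q Q) (huQ : u ∈ Subgroup.normalizer (Q : Set Γ))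
    (hgen : Q ≤ Subgroup.closure {x | ∃ g ∈ Q, ⁅g, u ^ 2 ^ (k - 1)⁆ = x})
    (hT : π (u ^ 2 ^ (k - 1)) * π (u ^ 2 ^ (k - 1)) = 1)
    (hrank : finrank (ZMod r)
      (LinearMap.ker (π (u ^ 2 ^ (k - 1)) + 1)) = 2)
    {L : Type w} [Field L] (b : X → X → L) (hbl : ∀ x x' y, b (x + x') y = b x y * b x' y)
    (hbr : ∀ x y y', b x (y + y') = b x y * b x y') (hbord : ∀ x y, b x y ^ r = 1)
    (hbnd : ∀ x, π (u ^ 2 ^ (k - 1)) x = -x → x ≠ 0 →
      ∃ y, π (u ^ 2 ^ (k - 1)) y = -y ∧ b x y ≠ 1)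
    (hbQ : ∀ g ∈ Q, ∀ x y, b (π g x) (π g y) = b x y) :
    ∀ g ∈ Q, π g = 1 := by
  classical
  haveI := Fact.mk hq
  have hq2 : q ≠ 2 := by rintro rfl; omega
  have hr2 : r ≠ 2 := by
    rintro rfl
    rcases k with _ | k
    · omega
    · rw [pow_succ] at hrk; omega
  have h2 : (2 : ZMod r) ≠ 0 := two_ne_zero' hr2
  have hfix : ∀ g ∈ Q, Commute (π g) (π (u ^ 2 ^ (k - 1))) →
      ∀ x, π (u ^ 2 ^ (k - 1)) x = -x → π g x = x := fun g hg hc x hx =>
    plane_fix hk hrk hq hq2 π u Q hQ huQ hrank b hbl hbr hbord hbnd hbQ hg hc hx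
  clear hbl hbr hbord hbnd hbQ b
  set τ := u ^ 2 ^ (k - 1) with hτ
  set T := π τ with hTdef
  have hTT : ∀ x, T (T x) = x := fun x => LinearMap.congr_fun hT x
  by_contra hcon
  push Not at hcon
  obtain ⟨g₁, hg₁, hg₁ne⟩ := hcon
  -- central elements commuting with the involution are trivial
  have hcen0 : ∀ g ∈ Q, (∀ h ∈ Q, Commute (π g) (π h)) → Commute (π g) T → π g = 1 := by
    intro g hg hgz hgT
    have hR := trivial_of_gen π Q τ hgen (LinearMap.range (π g - 1))
      (fun h hh x hx => by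
        obtain ⟨y, rfl⟩ := hx
        refine ⟨π h y, ?_⟩
        rw [LinearMap.sub_apply, LinearMap.sub_apply, Module.End.one_apply, Module.End.one_apply,
          map_sub, ← Module.End.mul_apply, ← Module.End.mul_apply, (hgz h hh).eq])
      (fun x hx => by
        obtain ⟨y, rfl⟩ := hx
        have h0 : π g (T y - y) = T y - y := hfix g hg hgT _ (by
          rw [map_sub, hTT, neg_sub])
        rw [map_sub] at h0
        simp only [LinearMap.sub_apply, Module.End.one_apply, map_sub]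
        rw [← hTdef, ← Module.End.mul_apply, ← hgT.eq, Module.End.mul_apply]
        rw [sub_eq_sub_iff_sub_eq_sub]
        exact h0)
    refine LinearMap.ext fun x => ?_
    obtain ⟨n, hn⟩ := hQ ⟨g, hg⟩
    have hn' : π g ^ q ^ n = 1 := by
      rw [← map_pow, show g ^ q ^ n = 1 from congrArg Subtype.val hn, map_one]
    exact eq_one_of_quadratic hq hqr (π g) hn' (hR g hg _ ⟨x, rfl⟩)
  -- a central element of order `q` in the image
  haveI : Finite (Module.End (ZMod r) X) :=
    Finite.of_injective (fun f => (f : X → X)) DFunLike.coe_injective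
  obtain ⟨g₀, hg₀, hg₀z, hg₀ne, hg₀q⟩ : ∃ g ∈ Q, (∀ h ∈ Q, Commute (π g) (π h)) ∧
      π g ≠ 1 ∧ π g ^ q = 1 := by
    let ψ : Q →* (Module.End (ZMod r) X)ˣ := (π.comp Q.subtype).toHomUnits
    have hR : IsPGroup q ψ.range := hQ.of_surjective ψ.rangeRestrict
      (MonoidHom.rangeRestrict_surjective _)
    haveI : Nontrivial ψ.range := (Subgroup.nontrivial_iff_ne_bot _).mpr fun h => hg₁ne (by
      have h1 : ψ ⟨g₁, hg₁⟩ ∈ ψ.range := ⟨_, rfl⟩
      rw [h, Subgroup.mem_bot] at h1
      exact congrArg Units.val h1)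
    haveI := hR.center_nontrivial
    obtain ⟨z, hz⟩ := exists_prime_orderOf_dvd_card' (G := Subgroup.center ψ.range) q (by
      obtain ⟨n, hn⟩ := (hR.to_subgroup (Subgroup.center ψ.range)).exists_card_eq
      rw [hn]
      refine dvd_pow_self _ fun h0 => ?_
      rw [h0, pow_zero] at hn
      exact absurd (Nat.card_eq_one_iff_unique.mp hn).1
        (not_subsingleton_iff_nontrivial.mpr inferInstance))
    obtain ⟨⟨g, hg⟩, hgz⟩ := (z : ψ.range).2
    have hval : π g = ((z : ψ.range) : (Module.End (ZMod r) X)ˣ) := congrArg Units.val hgz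
    refine ⟨g, hg, fun h hh => ?_, fun h1 => ?_, ?_⟩
    · have h2 := congrArg (fun t : ψ.range => ((t : (Module.End (ZMod r) X)ˣ) :
        Module.End (ZMod r) X))
        (Subgroup.mem_center_iff.mp z.2 ⟨ψ ⟨h, hh⟩, _, rfl⟩)
      simp only [Subgroup.coe_mul, Units.val_mul] at h2
      rw [← hval] at h2
      exact h2.symm
    · have hz1 : z = 1 := Subtype.ext (Subtype.ext (Units.ext (by rw [← hval, h1]; rfl)))
      rw [hz1, orderOf_one] at hz
      exact hq.ne_one hz.symm
    · have h2 := congrArg (fun t : Subgroup.center ψ.range =>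
        (((t : ψ.range) : (Module.End (ZMod r) X)ˣ) : Module.End (ZMod r) X)) (hz ▸ pow_orderOf_eq_one z)
      simp only [Subgroup.coe_pow, Units.val_pow_eq_pow_val, Subgroup.coe_one, Units.val_one] at h2
      rw [hval, h2]
  -- the involution inverts the centre of the image
  have hτQ : τ ∈ Subgroup.normalizer (Q : Set Γ) := pow_mem huQ _
  have hconjz : ∀ v ∈ Subgroup.normalizer (Q : Set Γ), ∀ g ∈ Q,
      (∀ h ∈ Q, Commute (π g) (π h)) → ∀ h ∈ Q, Commute (π (v * g * v⁻¹)) (π h) := by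
    intro v hv g _ hgz h hh
    have h' : v⁻¹ * h * v⁻¹⁻¹ ∈ Q := conj_mem (inv_mem hv) hh
    show π (v * g * v⁻¹) * π h = π h * π (v * g * v⁻¹)
    calc π (v * g * v⁻¹) * π h = π (v * g * (v⁻¹ * h * v⁻¹⁻¹) * v⁻¹) := by
          rw [← map_mul]; congr 1; group
      _ = π v * (π g * π (v⁻¹ * h * v⁻¹⁻¹)) * π v⁻¹ := by
          simp only [map_mul, mul_assoc]
      _ = π v * (π (v⁻¹ * h * v⁻¹⁻¹) * π g) * π v⁻¹ := by rw [(hgz _ h').eq]
      _ = π (v * ((v⁻¹ * h * v⁻¹⁻¹) * g) * v⁻¹) := by simp only [map_mul, mul_assoc]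
      _ = π h * π (v * g * v⁻¹) := by rw [← map_mul]; congr 1; group
  have hTinv : π τ⁻¹ = T := by
    calc π τ⁻¹ = π τ⁻¹ * (T * T) := by rw [hT, mul_one]
      _ = T := by rw [← mul_assoc, hTdef, ← map_mul, inv_mul_cancel, map_one, one_mul]
  have hinvert : ∀ g ∈ Q, (∀ h ∈ Q, Commute (π g) (π h)) → T * π g * T * π g = 1 := by
    intro g hg hgz
    have hg' : τ * g * τ⁻¹ ∈ Q := conj_mem hτQ hg
    have e : π (τ * g * τ⁻¹ * g) = T * π g * T * π g := by
      rw [map_mul, map_mul, map_mul, hTinv]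
    rw [← e]
    refine hcen0 _ (mul_mem hg' hg) (fun h hh => ?_) ?_
    · rw [map_mul]
      exact (hconjz τ hτQ g hg hgz h hh).mul_left (hgz h hh)
    · have hc : Commute (π g) (π (τ * g * τ⁻¹)) := hgz _ hg'
      rw [map_mul π (τ * g * τ⁻¹) g]
      show π (τ * g * τ⁻¹) * π g * T = T * (π (τ * g * τ⁻¹) * π g)
      rw [← hc.eq, map_mul, map_mul, hTinv]
      calc π g * (T * π g * T) * T = π g * T * π g * (T * T) := by simp only [mul_assoc]
        _ = π g * T * π g := by rw [hT, mul_one]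
        _ = (T * T) * (π g * T * π g) := by rw [hT, one_mul]
        _ = T * (T * π g * T * π g) := by simp only [mul_assoc]
        _ = T * (π g * (T * π g * T)) := by
          congr 1
          have := hc.eq
          rw [map_mul, map_mul, hTinv] at this
          rw [this]
  -- the moved part of the central element
  set G₁ := π g₀ with hG₁
  set Gi := π g₀⁻¹ with hGi
  have hGGi : G₁ * Gi = 1 := by rw [hG₁, hGi, ← map_mul, mul_inv_cancel, map_one]
  have hGiG : Gi * G₁ = 1 := by rw [hG₁, hGi, ← map_mul, inv_mul_cancel, map_one]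
  have hTG : T * G₁ = Gi * T := by
    calc T * G₁ = T * G₁ * (T * (G₁ * Gi) * T) := by rw [hGGi, mul_one, hT, mul_one]
      _ = (T * G₁ * T * G₁) * Gi * T := by simp only [mul_assoc]
      _ = Gi * T := by rw [hinvert g₀ hg₀ hg₀z, one_mul]
  set Y : Submodule (ZMod r) X := LinearMap.range (G₁ - 1) with hY
  have hYmem : ∀ z, G₁ z - z ∈ Y := fun z => ⟨z, rfl⟩
  have hYfix : ∀ y ∈ Y, G₁ y = y → y = 0 := by
    rintro _ ⟨x, rfl⟩ hy
    show G₁ x - x = 0
    rw [sub_eq_zero]
    exact eq_one_of_quadratic (n := 1) hq hqr G₁ (by rw [pow_one, hg₀q]) hy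
  have hYG : ∀ y ∈ Y, G₁ y ∈ Y := fun y hy => by
    have := add_mem (hYmem y) hy
    rwa [sub_add_cancel] at this
  have hYT : ∀ y ∈ Y, T y ∈ Y := by
    rintro _ ⟨x, rfl⟩
    refine ⟨-(Gi (T x)), ?_⟩
    have e1 : T (G₁ x) = Gi (T x) := LinearMap.congr_fun hTG x
    have e2 : G₁ (Gi (T x)) = T x := LinearMap.congr_fun hGGi (T x)
    simp only [LinearMap.sub_apply, Module.End.one_apply, map_sub, map_neg, e1, e2]
    abel
  set Cs : Submodule (ZMod r) X := Y ⊓ LinearMap.ker (T - 1) with hCs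
  set Is : Submodule (ZMod r) X := Y ⊓ LinearMap.ker (T + 1) with hIs
  have hCsmem : ∀ y, y ∈ Cs ↔ y ∈ Y ∧ T y = y := fun y => by
    rw [hCs, Submodule.mem_inf, LinearMap.mem_ker, LinearMap.sub_apply, Module.End.one_apply,
      sub_eq_zero]
  have hIsmem : ∀ y, y ∈ Is ↔ y ∈ Y ∧ T y = -y := fun y => by
    rw [hIs, Submodule.mem_inf, LinearMap.mem_ker, LinearMap.add_apply, Module.End.one_apply,
      add_eq_zero_iff_eq_neg]
  have hhalf : ∀ (A : Submodule (ZMod r) X), A ≤ Y →
      (∃ s : ZMod r, ∀ y ∈ A, T y = s • y) →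
      2 * finrank (ZMod r) A ≤ finrank (ZMod r) Y := by
    intro A hA ⟨s, hs⟩
    have hinj : Function.Injective G₁ :=
      Function.LeftInverse.injective (g := Gi) (LinearMap.congr_fun hGiG)
    have hdisj : A ⊓ A.map G₁ = ⊥ := by
      rw [Submodule.eq_bot_iff]
      rintro _ ⟨hy, x, hx, rfl⟩
      have h1 : Gi (T x) = T (G₁ x) := (LinearMap.congr_fun hTG x).symm
      rw [hs x hx, hs _ hy, map_smul] at h1
      have hT2 := hTT x
      rw [hs x hx, map_smul, hs x hx, smul_smul] at hT2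
      rcases eq_or_ne x 0 with rfl | hx0
      · simp
      have hs0 : s ≠ 0 := fun h => by
        rw [h, zero_mul, zero_smul] at hT2; exact hx0 hT2.symm
      have h2' : Gi x = G₁ x := smul_right_injective X hs0 h1
      have hx2 : (G₁ ^ 2) x = x := by
        rw [sq, Module.End.mul_apply, ← h2', ← Module.End.mul_apply, hGGi]; rfl
      have hxx : G₁ x = x := by
        obtain ⟨t, ht⟩ := hq.odd_of_ne_two hq2
        have h3 : ∀ i, (G₁ ^ (2 * i)) x = x := by
          intro i
          induction i with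
          | zero => rfl
          | succ i ih => rw [Nat.mul_succ, pow_add, Module.End.mul_apply, hx2, ih]
        have h4 : (G₁ ^ q) x = x := by rw [hg₀q]; rfl
        rw [ht, pow_succ', Module.End.mul_apply, h3] at h4
        exact h4
      rw [hYfix x (hA hx) hxx, map_zero]
    have h1 := Submodule.finrank_sup_add_finrank_inf_eq A (A.map G₁)
    rw [hdisj, finrank_bot, add_zero,
      ← (Submodule.equivMapOfInjective G₁ hinj A).finrank_eq, ← two_mul] at h1
    rw [← h1]
    exact Submodule.finrank_mono (sup_le hA (Submodule.map_le_iff_le_comap.mpr fun y hy =>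
      hYG y (hA hy)))
  have hsup : Cs ⊔ Is = Y := by
    refine le_antisymm (sup_le inf_le_left inf_le_left) fun y hy => ?_
    refine Submodule.mem_sup.mpr ⟨(2 : ZMod r)⁻¹ • (y + T y), ?_, (2 : ZMod r)⁻¹ • (y - T y), ?_, ?_⟩
    · refine Submodule.smul_mem _ _ ((hCsmem _).mpr ⟨add_mem hy (hYT y hy), ?_⟩)
      rw [map_add, hTT, add_comm]
    · refine Submodule.smul_mem _ _ ((hIsmem _).mpr ⟨sub_mem hy (hYT y hy), ?_⟩)
      rw [map_sub, hTT, neg_sub]
    · rw [← smul_add, show (y + T y) + (y - T y) = (2 : ZMod r) • y by rw [two_smul]; abel,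
        smul_smul, inv_mul_cancel₀ h2, one_smul]
  have hinf : Cs ⊓ Is = ⊥ := by
    rw [Submodule.eq_bot_iff]
    intro y hy
    have h3 := ((hCsmem y).mp hy.1).2.symm.trans ((hIsmem y).mp hy.2).2
    rw [eq_neg_iff_add_eq_zero, ← two_smul (ZMod r)] at h3
    exact (smul_eq_zero.mp h3).resolve_left h2
  have hdim := Submodule.finrank_sup_add_finrank_inf_eq Cs Is
  rw [hsup, hinf, finrank_bot, add_zero] at hdim
  have hC2 := hhalf Cs inf_le_left ⟨1, fun y hy => by rw [((hCsmem y).mp hy).2, one_smul]⟩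
  have hI2 := hhalf Is inf_le_left ⟨-1, fun y hy => by rw [((hIsmem y).mp hy).2, neg_one_smul]⟩
  have hIle : finrank (ZMod r) Is ≤ 2 := hrank ▸ Submodule.finrank_mono inf_le_right
  have hY0 : finrank (ZMod r) Y ≠ 0 := fun h0 => hg₀ne (LinearMap.ext fun x => by
    have h := hYmem x
    rw [Submodule.finrank_eq_zero.mp h0, Submodule.mem_bot, sub_eq_zero] at h
    exact h)
  -- `q` divides `r - 1`
  have hq1 : q ∣ r - 1 := by
    have hgrp : IsPGroup q (Subgroup.zpowers (Units.ofPowEqOne G₁ q hg₀q hq.ne_zero)) := by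
      refine IsPGroup.of_card (n := 1) ?_
      rw [Nat.card_zpowers, pow_one]
      refine orderOf_eq_prime (Units.pow_ofPowEqOne hg₀q hq.ne_zero) fun h => hg₀ne ?_
      exact congrArg Units.val h
    have hm := hgrp.card_modEq_card_fixedPoints X
    have hfp : Nat.card (MulAction.fixedPoints
        (Subgroup.zpowers (Units.ofPowEqOne G₁ q hg₀q hq.ne_zero)) X) =
        Nat.card (LinearMap.ker (G₁ - 1)) := by
      refine Nat.card_congr (Equiv.subtypeEquivRight fun x => ?_)
      rw [LinearMap.mem_ker, LinearMap.sub_apply, Module.End.one_apply, sub_eq_zero]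
      constructor
      · intro h
        have h1 := h ⟨Units.ofPowEqOne G₁ q hg₀q hq.ne_zero, Subgroup.mem_zpowers _⟩
        simpa [Subgroup.smul_def, Units.smul_def] using h1
      · rintro h ⟨g, hg⟩
        have hst : Units.ofPowEqOne G₁ q hg₀q hq.ne_zero ∈ MulAction.stabilizer _ x := h
        have h1 := (Subgroup.zpowers_le.mpr hst) hg
        rw [MulAction.mem_stabilizer_iff] at h1
        simpa [Subgroup.smul_def] using h1
    rw [hfp, Module.natCard_eq_pow_finrank (K := ZMod r) (V := X),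
      Module.natCard_eq_pow_finrank (K := ZMod r) (V := LinearMap.ker (G₁ - 1)), Nat.card_zmod,
      ← LinearMap.finrank_range_add_finrank_ker (G₁ - 1 : Module.End (ZMod r) X), ← hY, pow_add]
      at hm
    have hrq : Nat.Coprime q (r ^ finrank (ZMod r) (LinearMap.ker (G₁ - 1))) :=
      ((Nat.coprime_primes hq Fact.out).mpr hqr).pow_right _
    have hd : r ^ finrank (ZMod r) Y ≡ 1 [MOD q] := by
      refine Nat.ModEq.cancel_right_of_coprime hrq ?_
      rw [one_mul]; exact hm
    have hd4 : finrank (ZMod r) Y = 2 ∨ finrank (ZMod r) Y = 4 := by omega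
    have h4 : (r : ZMod q) ^ 4 = 1 := by
      rcases hd4 with h | h <;> rw [h] at hd <;>
        have h' := (ZMod.natCast_eq_natCast_iff _ _ q).mpr hd <;> push_cast at h'
      · rw [show (4 : ℕ) = 2 * 2 by rfl, pow_mul, h', one_pow]
      · exact h'
    have h22 : (r : ZMod q) ^ 2 = 1 := by
      have : ((r : ZMod q) ^ 2 - 1) * ((r : ZMod q) ^ 2 + 1) = 0 := by
        linear_combination h4
      rcases mul_eq_zero.mp this with h | h
      · exact sub_eq_zero.mp h
      · exfalso
        exact ZMod.exists_sq_eq_neg_one_iff.mp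
          ⟨(r : ZMod q), by rw [← sq]; linear_combination -h⟩ hq4
    rcases sq_eq_one_iff.mp h22 with h | h
    · exact (Nat.modEq_iff_dvd' (Fact.out : r.Prime).one_le).mp
        ((ZMod.natCast_eq_natCast_iff _ _ q).mp (by rw [Nat.cast_one]; exact h.symm))
    · exfalso
      have h0 : ((r + 1 : ℕ) : ZMod q) = 0 := by push_cast; rw [h, neg_add_cancel]
      rw [hrk, CharP.cast_eq_zero_iff (ZMod q) q] at h0
      exact hq2 ((Nat.prime_dvd_prime_iff_eq hq Nat.prime_two).mp (hq.dvd_of_dvd_pow h0))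
  -- weights
  let E := {f : Module.End (ZMod r) X //
    ∃ g ∈ Q, (∀ h ∈ Q, Commute (π g) (π h)) ∧ π g = f ∧ f ^ q = 1}
  have hE : ∀ v ∈ Subgroup.normalizer (Q : Set Γ), ∀ f : E,
      ∃ g ∈ Q, (∀ h ∈ Q, Commute (π g) (π h)) ∧ π g = π v * f.1 * π v⁻¹ ∧
        (π v * f.1 * π v⁻¹) ^ q = 1 := by
    intro v hv f
    obtain ⟨g, hg, hgz, hgf, hfq⟩ := f.2
    refine ⟨v * g * v⁻¹, conj_mem hv hg, hconjz v hv g hg hgz, by rw [← hgf, map_mul, map_mul], ?_⟩
    rw [← hgf, ← map_mul, ← map_mul, ← map_pow, conj_pow, map_mul, map_mul, map_pow, hgf, hfq,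
      mul_one, ← map_mul, mul_inv_cancel, map_one]
  let θE : E ≃ E :=
    { toFun := fun f => ⟨π u * f.1 * π u⁻¹, hE u huQ f⟩
      invFun := fun f => ⟨π u⁻¹ * f.1 * π u, by
        have := hE u⁻¹ (inv_mem huQ) f
        rwa [inv_inv] at this⟩
      left_inv := fun f => Subtype.ext (by
        show π u⁻¹ * (π u * f.1 * π u⁻¹) * π u = f.1
        simp only [← mul_assoc, ← map_mul, inv_mul_cancel, map_one, one_mul]
        rw [mul_assoc, ← map_mul, inv_mul_cancel, map_one, mul_one])
      right_inv := fun f => Subtype.ext (by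
        show π u * (π u⁻¹ * f.1 * π u) * π u⁻¹ = f.1
        simp only [← mul_assoc, ← map_mul, mul_inv_cancel, map_one, one_mul]
        rw [mul_assoc, ← map_mul, mul_inv_cancel, map_one, mul_one]) }
  have hθit : ∀ (i : ℕ) (f : E), ((⇑θE)^[i] f).1 = π (u ^ i) * f.1 * π (u ^ i)⁻¹ := by
    intro i
    induction i with
    | zero => intro f; simp
    | succ i ih =>
      intro f
      rw [Function.iterate_succ_apply', pow_succ', mul_inv_rev, map_mul, map_mul]
      show π u * ((⇑θE)^[i] f).1 * π u⁻¹ = _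
      rw [ih]
      simp only [mul_assoc]
  have hEpow : ∀ f : E, f.1 ^ r = f.1 := fun f => by
    obtain ⟨g, -, -, -, hfq⟩ := f.2
    obtain ⟨t, ht⟩ := hq1
    refine (congrArg (f.1 ^ ·) (Nat.sub_add_cancel (Fact.out : r.Prime).one_le)).symm.trans ?_
    show f.1 ^ (r - 1 + 1) = f.1
    rw [pow_succ, ht, pow_mul, hfq, one_pow, one_mul]
  have hEY : ∀ f : E, ∀ y ∈ Y, f.1 y ∈ Y := by
    rintro f _ ⟨x, rfl⟩
    obtain ⟨g, hg, -, hgf, -⟩ := f.2
    refine ⟨f.1 x, ?_⟩
    rw [LinearMap.sub_apply, LinearMap.sub_apply, Module.End.one_apply, Module.End.one_apply,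
      map_sub, ← Module.End.mul_apply, ← Module.End.mul_apply, ← hgf, (hg₀z g hg).eq]
  obtain ⟨S, ⟨hS0, hSY, hSinv⟩, hSmin⟩ := wellFounded_lt.has_min
    {V : Submodule (ZMod r) X | V ≠ ⊥ ∧ V ≤ Y ∧ ∀ f : E, ∀ y ∈ V, f.1 y ∈ V}
    ⟨Y, fun h => hY0 (by rw [h, finrank_bot]), le_rfl, hEY⟩
  have hscal : ∀ f : E, ∃ c : ZMod r, ∀ y ∈ S, f.1 y = c • y := by
    intro f
    obtain ⟨c, x, hxS, hx0, hxc⟩ := exists_eigen f.1 (hEpow f) S hS0 (hSinv f)
    refine ⟨c, fun y hy => ?_⟩
    have hEq : S ⊓ Module.End.eigenspace f.1 c = S := by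
      refine eq_of_le_of_not_lt inf_le_left fun hlt => hSmin _ ⟨?_, inf_le_left.trans hSY, ?_⟩ hlt
      · exact (Submodule.ne_bot_iff _).mpr ⟨x, ⟨hxS, Module.End.mem_eigenspace_iff.mpr hxc⟩, hx0⟩
      · rintro f' z ⟨hz, hzc⟩
        refine ⟨hSinv f' z hz, Module.End.mem_eigenspace_iff.mpr ?_⟩
        obtain ⟨g, hg, hgz, hgf, -⟩ := f.2
        obtain ⟨g', hg', -, hgf', -⟩ := f'.2
        rw [← Module.End.mul_apply, ← hgf, ← hgf', (hgz g' hg').eq, Module.End.mul_apply, hgf,
          Module.End.mem_eigenspace_iff.mp hzc, map_smul]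
    exact Module.End.mem_eigenspace_iff.mp (hEq.ge hy).2
  choose μ hμ using hscal
  obtain ⟨v, hvS, hv0⟩ := (Submodule.ne_bot_iff S).mp hS0
  have hEig : Eig (fun f : E => f.1) μ v := fun f => hμ f v hvS
  let f₀ : E := ⟨G₁, g₀, hg₀, hg₀z, rfl, hg₀q⟩
  have hc1 : μ f₀ ≠ 1 := fun h => hv0 (hYfix v (hSY hvS) (by
    have := hμ f₀ v hvS
    rwa [h, one_smul] at this))
  have hper : Function.IsPeriodicPt (tw θE) (2 ^ k) μ := tw_iterate_of_period (fun f => by
    apply Subtype.ext
    rw [hθit, show 2 ^ k = 2 ^ (k - 1) * 2 by rw [← pow_succ, Nat.sub_add_cancel (by omega)],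
      pow_mul, sq, mul_inv_rev, map_mul, map_mul, ← hτ, ← hTdef, hTinv, hT, one_mul, mul_one]) μ
  obtain ⟨i, hi, hiL⟩ := (Nat.dvd_prime_pow Nat.prime_two).mp hper.minimalPeriod_dvd
  have hik : i = k := by
    by_contra hne
    have hh : (tw θE)^[2 ^ (k - 1)] μ = μ :=
      (Function.isPeriodicPt_minimalPeriod (tw θE) μ).trans_dvd
        (hiL ▸ pow_dvd_pow 2 (by omega))
    have h1 := tw_iterate_apply θE (2 ^ (k - 1)) μ f₀
    rw [hh] at h1
    have h3 : Gi v = μ f₀ • v := by
      have h4 := hμ ((⇑θE)^[2 ^ (k - 1)] f₀) v hvS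
      rw [h1, hθit, ← hτ, hTinv] at h4
      change (T * G₁ * T) v = μ f₀ • v at h4
      rwa [hTG, mul_assoc, hT, mul_one] at h4
    have h5 : v = (μ f₀ * μ f₀) • v := by
      have := congrArg G₁ h3
      rw [← Module.End.mul_apply, hGGi, Module.End.one_apply, map_smul, hμ f₀ v hvS, smul_smul]
        at this
      exact this
    have h6 : μ f₀ ^ 2 = 1 := by
      rw [sq]; exact smul_left_injective (ZMod r) hv0 (h5.symm.trans (one_smul _ v).symm)
    have h7 : ∀ n, (G₁ ^ n) v = μ f₀ ^ n • v := by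
      intro n
      induction n with
      | zero => simp
      | succ n ih =>
        rw [pow_succ', Module.End.mul_apply, ih, map_smul, hμ f₀ v hvS, smul_smul, pow_succ]
    have h8 := h7 q
    rw [hg₀q, Module.End.one_apply] at h8
    have h9 : μ f₀ ^ q = 1 := smul_left_injective (ZMod r) hv0 (h8.symm.trans (one_smul _ v).symm)
    obtain ⟨t, ht⟩ := hq.odd_of_ne_two hq2
    rw [ht, pow_succ, pow_mul, h6, one_pow, one_mul] at h9
    exact hc1 h9
  have hsU : ∀ f : E, π u * f.1 = (θE f).1 * π u := fun f => by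
    show π u * f.1 = π u * f.1 * π u⁻¹ * π u
    rw [mul_assoc _ (π u⁻¹), ← map_mul, inv_mul_cancel, map_one, mul_one]
  let w : Fin (2 ^ (k - 1)) → X := fun j =>
    (π u ^ ((j : ℕ) + 2 ^ (k - 1))) v - (π u ^ (j : ℕ)) v
  have hw : ∀ j, w j ∈ LinearMap.ker (T + 1) := fun j => by
    have e : ∀ n, T ((π u ^ n) v) = (π u ^ (n + 2 ^ (k - 1))) v := fun n => by
      rw [add_comm, pow_add, Module.End.mul_apply, ← map_pow π u (2 ^ (k - 1)), ← hτ]
    rw [LinearMap.mem_ker, LinearMap.add_apply, Module.End.one_apply]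
    simp only [w, map_sub]
    rw [← e (j : ℕ), hTT]
    abel
  have hli : LinearIndependent (ZMod r) (fun j => (⟨w j, hw j⟩ : LinearMap.ker (T + 1))) := by
    rw [Fintype.linearIndependent_iff]
    intro cf hcf j₀
    let c' : ℕ → ZMod r := fun j =>
      if h : j < 2 ^ (k - 1) then -cf ⟨j, h⟩
      else if h' : j - 2 ^ (k - 1) < 2 ^ (k - 1) then cf ⟨j - 2 ^ (k - 1), h'⟩ else 0
    have hsum : ∑ j ∈ Finset.range (2 ^ k), c' j • (π u ^ j) v = 0 := by
      have h0 := congrArg Subtype.val hcf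
      simp only [Submodule.coe_sum, Submodule.coe_smul, w, smul_sub, Finset.sum_sub_distrib,
        ZeroMemClass.coe_zero] at h0
      rw [show 2 ^ k = 2 ^ (k - 1) + 2 ^ (k - 1) by
          rw [← two_mul, ← pow_succ', Nat.sub_add_cancel (by omega)],
        Finset.sum_range_add, ← h0, sub_eq_neg_add, ← Finset.sum_neg_distrib]
      congr 1
      · rw [Finset.sum_range]
        refine Finset.sum_congr rfl fun j _ => ?_
        simp only [c', dif_pos j.2, neg_smul]
      · rw [Finset.sum_range]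
        refine Finset.sum_congr rfl fun j _ => ?_
        have e1 : ¬ ((j : ℕ) + 2 ^ (k - 1) < 2 ^ (k - 1)) := by omega
        simp only [c', add_comm (2 ^ (k - 1)) (j : ℕ), dif_neg e1, Nat.add_sub_cancel,
          dif_pos j.2]
    have hinj : Set.InjOn (fun j => (tw θE)^[j] μ) ↑(Finset.range (2 ^ k)) := by
      rw [Finset.coe_range, ← hik, ← hiL]
      exact Function.iterate_injOn_Iio_minimalPeriod
    have hall := eig_indep (fun f : E => f.1) (fun j => (tw θE)^[j] μ) _ hinj
      (fun j => c' j • (π u ^ j) v)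
      (fun j _ f => by
        rw [map_smul, (hEig.twist_pow hsU j) f, smul_comm]) hsum (j₀ : ℕ)
      (Finset.mem_range.mpr (lt_of_lt_of_le j₀.2 (Nat.pow_le_pow_right two_pos (by omega))))
    have hne : (π u ^ (j₀ : ℕ)) v ≠ 0 := fun h => hv0 (by
      have := congrArg (π (u ^ (j₀ : ℕ))⁻¹) h
      rwa [← Module.End.mul_apply, ← map_pow, ← map_mul, inv_mul_cancel, map_one,
        Module.End.one_apply, map_zero] at this)
    have h10 := (smul_eq_zero.mp hall).resolve_right hne
    simp only [c', dif_pos j₀.2, neg_eq_zero] at h10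
    exact h10
  have hle := hli.fintype_card_le_finrank
  rw [Fintype.card_fin, hrank] at hle
  have hk2 : k = 2 := by
    by_contra hne
    have : 2 ^ 2 ≤ 2 ^ (k - 1) := Nat.pow_le_pow_right two_pos (by omega)
    omega
  subst hk2
  have hr3 : r = 3 := by omega
  subst hr3
  exact hq2 ((Nat.prime_dvd_prime_iff_eq hq Nat.prime_two).mp hq1)

end H28.TwoLength
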