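import Cfsg.Agent.H28.TwoLength.Plane

/-!
An elementary section with its group of operators, for a system of eigenvalues on the centre.
-/

set_option autoImplicit false
set_option linter.style.haveILetI false

namespace H28.TwoLength

open Module H28.SG
open scoped commutatorElement

universe u v w

variable {G : Type u} [Group G]

/-- Generation passes to a subgroup containing the generators. -/
theorem le_closure_subgroupOf (H Γ' : Subgroup G) (S : Set G) (hH : H ≤ Subgroup.closure S)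
    (hS : S ⊆ Γ') : H.subgroupOf Γ' ≤ Subgroup.closure (Γ'.subtype ⁻¹' S) := by
  intro x hx
  have h1 : (x : G) ∈ (Subgroup.closure (Γ'.subtype ⁻¹' S)).map Γ'.subtype := by
    rw [MonoidHom.map_closure, Set.image_preimage_eq_of_subset]
    · exact hH hx
    · intro s hs; exact ⟨⟨s, hS hs⟩, rfl⟩
  obtain ⟨y, hy, hyx⟩ := h1
  exact Subtype.ext hyx ▸ hy

/-- An element centralising a subgroup is inherited by its displacements. -/
theorem le_centralizer_of_gen (Q C : Subgroup G) (τ : G)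
    (hQC : Q ≤ Subgroup.normalizer (C : Set G))
    (hgen : Q ≤ Subgroup.closure {x | ∃ g ∈ Q, ⁅g, τ⁆ = x})
    (hτ : ∀ x ∈ C, τ * x * τ⁻¹ = x) : Q ≤ Subgroup.centralizer (C : Set G) := by
  refine hgen.trans ((Subgroup.closure_le _).mpr ?_)
  rintro _ ⟨g, hg, rfl⟩
  rw [SetLike.mem_coe, Subgroup.mem_centralizer_iff]
  intro x hx
  have h1 : τ * (g⁻¹ * x * g) * τ⁻¹ = g⁻¹ * x * g := by
    refine hτ _ ?_
    have := conj_mem (inv_mem (hQC hg)) hx
    rwa [inv_inv] at this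
  have h2 : ⁅g, τ⁆ * x * ⁅g, τ⁆⁻¹ = x := by
    calc ⁅g, τ⁆ * x * ⁅g, τ⁆⁻¹ = g * τ * (g⁻¹ * (τ⁻¹ * x * τ) * g) * τ⁻¹ * g⁻¹ := by
          rw [commutatorElement_def]; group
      _ = g * τ * (g⁻¹ * x * g) * τ⁻¹ * g⁻¹ := by
          congr 5
          conv_lhs => rw [← hτ x hx]
          group
      _ = g * (τ * (g⁻¹ * x * g) * τ⁻¹) * g⁻¹ := by group
      _ = g * (g⁻¹ * x * g) * g⁻¹ := by rw [h1]
      _ = x := by group
  exact (mul_inv_eq_iff_eq_mul.mp h2).symm

variable [Finite G]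

/-- An elementary abelian section as a module with the conjugation action. -/
theorem exists_section (C M Γ' : Subgroup G) {r : ℕ} [Fact r.Prime]
    (hcom : ∀ x ∈ C, ∀ y ∈ C, ⁅x, y⁆ ∈ M) (hMC : M ≤ C) (hpow : ∀ x ∈ C, x ^ r ∈ M)
    (hΓC : Γ' ≤ Subgroup.normalizer (C : Set G)) (hΓM : Γ' ≤ Subgroup.normalizer (M : Set G)) :
    ∃ (n : ℕ) (π : Γ' →* Module.End (ZMod r) (Fin n → ZMod r)) (d : C → Fin n → ZMod r),
      Function.Surjective d ∧ (∀ x y, d (x * y) = d x + d y) ∧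
      (∀ x, d x = 0 ↔ (x : G) ∈ M) ∧
      ∀ (g : Γ') (x : C), π g (d x) =
        d ⟨(g : G) * x * (g : G)⁻¹, conj_mem (hΓC g.2) x.2⟩ := by
  classical
  haveI hn : (M.subgroupOf C).Normal := ⟨fun x hx g => by
    rw [Subgroup.mem_subgroupOf] at hx ⊢
    rw [Subgroup.coe_mul, Subgroup.coe_mul, Subgroup.coe_inv,
      show (g : G) * x * (g : G)⁻¹ = ⁅(g : G), (x : G)⁆ * x by rw [commutatorElement_def]; group]
    exact mul_mem (hcom _ g.2 _ x.2) hx⟩
  set N := M.subgroupOf C with hN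
  letI : CommGroup (C ⧸ N) :=
    { (inferInstance : Group (C ⧸ N)) with
      mul_comm := fun a b => by
        obtain ⟨x, rfl⟩ := QuotientGroup.mk_surjective a
        obtain ⟨y, rfl⟩ := QuotientGroup.mk_surjective b
        rw [← QuotientGroup.mk_mul, ← QuotientGroup.mk_mul, QuotientGroup.eq, hN,
          Subgroup.mem_subgroupOf]
        show (((x : G) * y)⁻¹ * ((y : G) * x)) ∈ M
        rw [show ((x : G) * y)⁻¹ * ((y : G) * x) = ⁅(y : G)⁻¹, (x : G)⁻¹⁆ by
          rw [commutatorElement_def]; group]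
        exact hcom _ (inv_mem y.2) _ (inv_mem x.2) }
  haveI : Module (ZMod r) (Additive (C ⧸ N)) := AddCommGroup.zmodModule fun a => by
    apply Additive.toMul.injective
    rw [toMul_nsmul, toMul_zero]
    obtain ⟨x, hx⟩ := QuotientGroup.mk_surjective (Additive.toMul a)
    rw [← hx, ← QuotientGroup.mk_pow, QuotientGroup.eq_one_iff, hN, Subgroup.mem_subgroupOf]
    exact hpow _ x.2
  haveI : Module.Finite (ZMod r) (Additive (C ⧸ N)) := Module.Finite.of_finite
  let e := (Module.finBasis (ZMod r) (Additive (C ⧸ N))).equivFun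
  have hNinv : ∀ (g : Γ') (x : C), x ∈ N → subConj C (g : G) (hΓC g.2) x ∈ N := fun g x hx => by
    rw [hN, Subgroup.mem_subgroupOf] at hx ⊢
    exact conj_mem (hΓM g.2) hx
  let f : Γ' → (Additive (C ⧸ N) →+ Additive (C ⧸ N)) := fun g => MonoidHom.toAdditive
    (QuotientGroup.map N N (subConj C (g : G) (hΓC g.2)).toMonoidHom fun x hx => hNinv g x hx)
  have hf : ∀ g x, f g (Additive.ofMul (QuotientGroup.mk x)) =
      Additive.ofMul (QuotientGroup.mk (subConj C (g : G) (hΓC g.2) x)) := fun g x => rfl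
  let L : Γ' →* Module.End (ZMod r) (Additive (C ⧸ N)) :=
    { toFun := fun g => (f g).toZModLinearMap r
      map_one' := LinearMap.ext fun a => by
        obtain ⟨x, rfl⟩ : ∃ x : C, Additive.ofMul (QuotientGroup.mk x) = a :=
          QuotientGroup.mk_surjective (Additive.toMul a)
        show f 1 _ = _
        rw [hf]
        exact congrArg (fun t : C => Additive.ofMul (QuotientGroup.mk t : C ⧸ N))
          (Subtype.ext (by show (1 : G) * x * (1 : G)⁻¹ = x; group))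
      map_mul' := fun g h => LinearMap.ext fun a => by
        obtain ⟨x, rfl⟩ : ∃ x : C, Additive.ofMul (QuotientGroup.mk x) = a :=
          QuotientGroup.mk_surjective (Additive.toMul a)
        show f (g * h) _ = f g (f h _)
        rw [hf, hf, hf]
        exact congrArg (fun t : C => Additive.ofMul (QuotientGroup.mk t : C ⧸ N)) (Subtype.ext (by
          show ((g : G) * h) * x * ((g : G) * h)⁻¹ = (g : G) * ((h : G) * x * (h : G)⁻¹) * (g : G)⁻¹
          group)) }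
  refine ⟨_, e.conjRingEquiv.toMonoidHom.comp L,
    fun x => e (Additive.ofMul (QuotientGroup.mk x)), ?_, fun x y => ?_, fun x => ?_, fun g x => ?_⟩
  · exact e.surjective.comp (Additive.ofMul.surjective.comp QuotientGroup.mk_surjective)
  · rw [← map_add]; rfl
  · rw [LinearEquiv.map_eq_zero_iff, ofMul_eq_zero, QuotientGroup.eq_one_iff, hN,
      Subgroup.mem_subgroupOf]
  · show e (L g (e.symm (e _))) = _
    rw [LinearEquiv.symm_apply_apply]
    rfl

variable {K : Type v} [Field K] [CharP K 2] [IsAlgClosed K]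
variable {W : Type w} [AddCommGroup W] [Module K W] [FiniteDimensional K W]

/-- The section of `C` attached to a system of eigenvalues `μ` on `Z`, with its operators `Γ`. -/
structure Setting (C Z : Subgroup G) (z : G) (m : ℕ) (r : ℕ) [Fact r.Prime] (μ : G → K) where
  M : Subgroup G
  Γ : Subgroup G
  n : ℕ
  act : Γ →* Module.End (ZMod r) (Fin n → ZMod r)
  d : C → Fin n → ZMod r
  M_le : M ≤ C
  mem_M : ∀ x ∈ C, x ∈ M ↔ ∀ y ∈ C, μ ⁅x, y⁆ = 1
  mem_Γ : ∀ g, g ∈ Γ ↔ g ∈ Subgroup.normalizer (C : Set G) ∧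
    g ∈ Subgroup.normalizer (Z : Set G) ∧ ∀ c ∈ Z, μ (g * c * g⁻¹) = μ c
  d_surj : Function.Surjective d
  d_mul : ∀ x y, d (x * y) = d x + d y
  d_zero : ∀ x, d x = 0 ↔ (x : G) ∈ M
  act_d : ∀ (g : Γ) (x : C), act g (d x) =
    d ⟨(g : G) * x * (g : G)⁻¹, conj_mem ((mem_Γ g).mp g.2).1 x.2⟩
  tau_mem : z ^ 2 ^ m ∈ Γ
  invol : act ⟨_, tau_mem⟩ * act ⟨_, tau_mem⟩ = 1
  cases' : act ⟨_, tau_mem⟩ = 1 ∨
    ∃ j k : ℕ, 2 ≤ k ∧ r + 1 = 2 ^ k ∧ j + (k - 1) = m ∧ z ^ 2 ^ j ∈ Γ ∧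
      finrank (ZMod r) (LinearMap.ker (act ⟨_, tau_mem⟩ + 1)) = 2

theorem nonempty_setting (ρ : G →* Module.End K W) {r : ℕ} [Fact r.Prime] (hr2 : r ≠ 2)
    (C Z : Subgroup G) (hC : IsPGroup r C) (z : G) (m : ℕ) (hz : z ^ 2 ^ (m + 1) = 1)
    (hzC : z ∈ Subgroup.normalizer (C : Set G)) (hzZ : z ∈ Subgroup.normalizer (Z : Set G))
    (hdef : ∑ i ∈ Finset.range (2 ^ (m + 1)), ρ z ^ i = 0)
    (hcom : ∀ x ∈ C, ∀ y ∈ C, ⁅x, y⁆ ∈ Z) (hZc : Z ≤ Subgroup.centralizer (C : Set G))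
    (hpow : ∀ x ∈ C, x ^ r ∈ Z) (hτZ : ∀ c ∈ Z, z ^ 2 ^ m * c * (z ^ 2 ^ m)⁻¹ = c)
    (μ : G → K) {v : W} (hv : v ≠ 0) (hμ : ∀ c ∈ Z, ρ c v = μ c • v) :
    Nonempty (Setting C Z z m r μ) := by
  classical
  have hcent : ∀ c ∈ Z, ∀ x ∈ C, Commute (ρ c) (ρ x) := fun c hc x hx =>
    (show Commute c x from (Subgroup.mem_centralizer_iff.mp (hZc hc) x hx).symm).map ρ
  obtain ⟨M, hMC, hMmem, hpl⟩ := exists_plane ρ Fact.out hr2 C Z hC z m hz hzC hzZ hdef hcom
    hcent μ hv hμ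
  have hμ1 : μ 1 = 1 := by
    apply smul_left_injective K hv
    show μ 1 • v = (1 : K) • v
    rw [← hμ 1 (one_mem Z), map_one, one_smul]; rfl
  have hcM : ∀ c ∈ Z, c ∈ C → c ∈ M := fun c hc hcC => (hMmem c hcC).mpr fun y hy => by
    rw [show ⁅c, y⁆ = 1 from commutatorElement_eq_one_iff_commute.mpr
      (Subgroup.mem_centralizer_iff.mp (hZc hc) y hy).symm, hμ1]
  let Γ' : Subgroup G :=
    { carrier := {g | g ∈ Subgroup.normalizer (C : Set G) ∧ g ∈ Subgroup.normalizer (Z : Set G) ∧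
        ∀ c ∈ Z, μ (g * c * g⁻¹) = μ c}
      one_mem' := ⟨one_mem _, one_mem _, fun c _ => by rw [one_mul, inv_one, mul_one]⟩
      mul_mem' := fun {a b} ha hb => ⟨mul_mem ha.1 hb.1, mul_mem ha.2.1 hb.2.1, fun c hc => by
        rw [show a * b * c * (a * b)⁻¹ = a * (b * c * b⁻¹) * a⁻¹ by group,
          ha.2.2 _ (conj_mem hb.2.1 hc), hb.2.2 c hc]⟩
      inv_mem' := fun {a} ha => ⟨inv_mem ha.1, inv_mem ha.2.1, fun c hc => by
        have h := ha.2.2 _ (conj_mem (inv_mem ha.2.1) hc)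
        rw [show a * (a⁻¹ * c * a⁻¹⁻¹) * a⁻¹ = c by group] at h
        exact h.symm⟩ }
  have hΓM : Γ' ≤ Subgroup.normalizer (M : Set G) := fun g hg => mem_norm fun x hx => by
    have hxC := hMC hx
    rw [hMmem _ (conj_mem hg.1 hxC)]
    intro y hy
    have hy' : g⁻¹ * y * g⁻¹⁻¹ ∈ C := conj_mem (inv_mem hg.1) hy
    rw [show ⁅g * x * g⁻¹, y⁆ = g * ⁅x, g⁻¹ * y * g⁻¹⁻¹⁆ * g⁻¹ by
      simp only [commutatorElement_def]; group, hg.2.2 _ (hcom x hxC _ hy')]
    exact (hMmem x hxC).mp hx _ hy'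
  have hΓC : Γ' ≤ Subgroup.normalizer (C : Set G) := fun g hg => hg.1
  obtain ⟨n, act, d, hsurj, hdmul, hd0, hact⟩ := exists_section C M Γ' (r := r)
    (fun x hx y hy => hcM _ (hcom x hx y hy) (by
      rw [commutatorElement_def]
      exact mul_mem (mul_mem (mul_mem hx hy) (inv_mem hx)) (inv_mem hy)))
    hMC (fun x hx => hcM _ (hpow x hx) (pow_mem hx r)) hΓC hΓM
  have hτ : z ^ 2 ^ m ∈ Γ' := ⟨pow_mem hzC _, pow_mem hzZ _, fun c hc => by rw [hτZ c hc]⟩
  have hinv : act ⟨_, hτ⟩ * act ⟨_, hτ⟩ = 1 := by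
    rw [← map_mul, ← map_one act]
    congr 1
    apply Subtype.ext
    show z ^ 2 ^ m * z ^ 2 ^ m = 1
    rw [← pow_add, ← two_mul, ← pow_succ', hz]
  have hd1 : d 1 = 0 := (hd0 1).mpr (one_mem M)
  have hdinv : ∀ x, d x⁻¹ = - d x := fun x => by
    rw [eq_neg_iff_add_eq_zero, ← hdmul, inv_mul_cancel, hd1]
  refine ⟨⟨M, Γ', n, act, d, hMC, hMmem, fun g => Iff.rfl, hsurj, hdmul, hd0, hact, hτ, hinv, ?_⟩⟩
  rcases hpl with hl | ⟨j, k, R₂, hk, hrk, hjk, hμj, hR₂C, hR₂, hidx⟩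
  · refine Or.inl (LinearMap.ext fun a => ?_)
    obtain ⟨x, rfl⟩ := hsurj a
    rw [hact, Module.End.one_apply, ← sub_eq_zero, sub_eq_add_neg, ← hdinv, add_comm, ← hdmul, hd0]
    exact hl x x.2
  · refine Or.inr ⟨j, k, hk, hrk, hjk, ⟨pow_mem hzC _, pow_mem hzZ _, hμj⟩, ?_⟩
    set T := act ⟨_, hτ⟩ with hT
    let R' : Subgroup C := R₂.subgroupOf C
    have hker : ∀ x : C, d x ∈ LinearMap.ker (T + 1) ↔ x ∈ R' := by
      intro x
      rw [LinearMap.mem_ker, LinearMap.add_apply, Module.End.one_apply, hT, hact, add_comm,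
        ← hdmul, hd0]
      exact (hR₂ x x.2).symm
    let ψ : R' →* Multiplicative (LinearMap.ker (T + 1)) :=
      MonoidHom.mk' (fun x => Multiplicative.ofAdd ⟨d (x : C), (hker _).mpr x.2⟩) fun x y => by
        rw [← ofAdd_add]
        exact congrArg Multiplicative.ofAdd (Subtype.ext (hdmul _ _))
    have hψ : Function.Surjective ψ := by
      intro a
      obtain ⟨x, hx⟩ := hsurj (Multiplicative.toAdd a : LinearMap.ker (T + 1))
      exact ⟨⟨x, (hker x).mp (hx ▸ (Multiplicative.toAdd a : LinearMap.ker (T + 1)).2)⟩,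
        congrArg Multiplicative.ofAdd (Subtype.ext hx)⟩
    have hψker : ψ.ker = (M.subgroupOf C).subgroupOf R' := by
      ext x
      rw [MonoidHom.mem_ker, Subgroup.mem_subgroupOf, Subgroup.mem_subgroupOf, ← hd0]
      exact Iff.intro (fun h => congrArg (fun a : LinearMap.ker (T + 1) => (a : Fin n → ZMod r))
        (congrArg Multiplicative.toAdd h)) fun h => congrArg Multiplicative.ofAdd (Subtype.ext h)
    have hcard : Nat.card (LinearMap.ker (T + 1)) = r ^ 2 := by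
      rw [← hidx, ← Subgroup.relIndex_subgroupOf (H := M) hR₂C]
      show _ = ((M.subgroupOf C).subgroupOf R').index
      rw [← hψker, Subgroup.index_ker, MonoidHom.range_eq_top.mpr hψ, Subgroup.card_top]
      exact Nat.card_congr Multiplicative.ofAdd
    rw [Module.natCard_eq_pow_finrank (K := ZMod r), Nat.card_zmod] at hcard
    exact Nat.pow_right_injective (Fact.out : r.Prime).two_le hcard

end H28.TwoLength
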