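import Cfsg.Agent.H28.TwoLength.Data
import Cfsg.Agent.H28.TwoLength.Setting
import Cfsg.Agent.H28.TwoLength.LinNe
import Cfsg.Agent.H28.TwoLength.LinEq

/-!
The moved `q`-group centralises the other cores, and its `2`-group the `q`-core.
-/

set_option autoImplicit false
set_option linter.style.haveILetI false

namespace H28.TwoLength

open Module H28.SG
open scoped commutatorElement

universe u v w

variable {G : Type u} [Group G] [Finite G]
variable {K : Type v} [Field K] [CharP K 2] [IsAlgClosed K]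
variable {W : Type w} [AddCommGroup W] [Module K W] [FiniteDimensional K W]

theorem norm_centralizer {S : Subgroup G} {g : G} (hg : g ∈ Subgroup.normalizer (S : Set G)) :
    g ∈ Subgroup.normalizer ((Subgroup.centralizer (S : Set G) : Subgroup G) : Set G) :=
  mem_norm fun x hx => by
    rw [Subgroup.mem_centralizer_iff] at hx ⊢
    intro s hs
    have h := hx _ (conj_mem (inv_mem hg) hs)
    calc s * (g * x * g⁻¹) = g * ((g⁻¹ * s * g⁻¹⁻¹) * x) * g⁻¹ := by group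
      _ = g * (x * (g⁻¹ * s * g⁻¹⁻¹)) * g⁻¹ := by rw [h]
      _ = g * x * g⁻¹ * s := by group

theorem norm_inf {S T : Subgroup G} {g : G} (hS : g ∈ Subgroup.normalizer (S : Set G))
    (hT : g ∈ Subgroup.normalizer (T : Set G)) :
    g ∈ Subgroup.normalizer ((S ⊓ T : Subgroup G) : Set G) :=
  mem_norm fun _ hx => ⟨conj_mem hS hx.1, conj_mem hT hx.2⟩

theorem odd_card {r : ℕ} [Fact r.Prime] (hr2 : r ≠ 2) {S : Subgroup G} (hS : IsPGroup r S) :
    Odd (Nat.card S) := by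
  obtain ⟨t, ht⟩ := hS.exists_card_eq
  rw [ht]
  exact ((Fact.out : r.Prime).odd_of_ne_two hr2).pow

/-- The involution of a deficient element fixes invariant abelian subgroups of odd order. -/
theorem tau_fix (ρ : G →* Module.End K W) (hρ : Function.Injective ρ) {z : G} {m : ℕ}
    (hz : z ^ 2 ^ (m + 1) = 1) (hdef : ∑ i ∈ Finset.range (2 ^ (m + 1)), ρ z ^ i = 0)
    (Z : Subgroup G) (hzZ : z ∈ Subgroup.normalizer (Z : Set G))
    (hcomm : ∀ a ∈ Z, ∀ b ∈ Z, Commute a b) (hodd : Odd (Nat.card Z)) :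
    ∀ c ∈ Z, z ^ 2 ^ m * c * (z ^ 2 ^ m)⁻¹ = c := by
  intro c hc
  have h := abelian_fix (ρ.comp Z.subtype) (fun a b => (hcomm a a.2 b b.2).map ρ) hodd
    (subConj Z z hzZ) (fun a => rep_intertwine ρ z a) m (subConj_pow_eq_one Z hzZ hz) hdef ⟨c, hc⟩
  rw [MonoidHom.comp_apply, MonoidHom.comp_apply, Subgroup.coe_subtype, subConj_pow] at h
  exact hρ h

omit [Finite G] in
theorem exists_system [Finite G] (ρ : G →* Module.End K W) (hρ : Function.Injective ρ)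
    (Z : Subgroup G) (hcomm : ∀ a ∈ Z, ∀ b ∈ Z, Commute a b) (hodd : Odd (Nat.card Z)) {c : G}
    (hc : c ∈ Z) (hc1 : c ≠ 1) :
    ∃ (μ : G → K) (v : W), v ≠ 0 ∧ (∀ a ∈ Z, ρ a v = μ a • v) ∧ μ c ≠ 1 := by
  classical
  obtain ⟨μ, v, hv, hEig, hne⟩ := exists_nontrivial_eig (ρ.comp Z.subtype)
    (fun a b => (hcomm a a.2 b b.2).map ρ) ⟨c, hc⟩
    (fun h => hc1 (hρ (h.trans (map_one ρ).symm))) _ pow_card_eq_one' (natCast_ne_zero_of_odd hodd)
  refine ⟨fun g => if h : g ∈ Z then μ ⟨g, h⟩ else 0, v, hv, fun a ha => ?_, ?_⟩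
  · simp only [dif_pos ha]; exact hEig ⟨a, ha⟩
  · simp only [dif_pos hc]; exact hne

/-- Trivial operators put the commutators with them in the radical. -/
theorem Setting.comm_le {C Z : Subgroup G} {z : G} {m r : ℕ} [Fact r.Prime] {μ : G → K}
    (S : Setting C Z z m r μ) (N : Subgroup G) (hN : N ≤ S.Γ)
    (h : ∀ g (hg : g ∈ N), S.act ⟨g, hN hg⟩ = 1) : ⁅C, N⁆ ≤ S.M := by
  refine Subgroup.commutator_le.mpr fun x hx g hg => ?_
  have hgC := ((S.mem_Γ g).mp (hN hg)).1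
  have h1 := LinearMap.congr_fun (h g hg) (S.d ⟨x, hx⟩⁻¹)
  rw [S.act_d, Module.End.one_apply] at h1
  have h2 : S.d (⟨x, hx⟩ * ⟨g * x⁻¹ * g⁻¹, conj_mem hgC (inv_mem hx)⟩) = 0 := by
    rw [S.d_mul, show S.d ⟨g * x⁻¹ * g⁻¹, conj_mem hgC (inv_mem hx)⟩ = S.d ⟨x, hx⟩⁻¹ from h1,
      ← S.d_mul, mul_inv_cancel]
    exact (S.d_zero 1).mpr (one_mem _)
  have h3 := (S.d_zero _).mp h2
  rw [commutatorElement_def]
  rwa [Subgroup.coe_mul, show x * (g * x⁻¹ * g⁻¹) = x * g * x⁻¹ * g⁻¹ by group] at h3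

/-- A moved `q`-group centralises normal `r`-subgroups, `r ≠ q`. -/
theorem centralize_ne (ρ : G →* Module.End K W) (hρ : Function.Injective ρ) (z : G) (m : ℕ)
    (hz : z ^ 2 ^ (m + 1) = 1) (hdef : ∑ i ∈ Finset.range (2 ^ (m + 1)), ρ z ^ i = 0)
    {q : ℕ} [Fact q.Prime] (hq4 : q % 4 = 3) {r : ℕ} [Fact r.Prime] (hr2 : r ≠ 2) (hqr : q ≠ r)
    (Q B : Subgroup G) [B.Normal] (hQ : IsPGroup q Q) (hB : IsPGroup r B)
    (hzQ : z ∈ Subgroup.normalizer (Q : Set G))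
    (hgen : Q ≤ Subgroup.closure {x | ∃ g ∈ Q, ⁅g, z ^ 2 ^ m⁆ = x}) :
    Q ≤ Subgroup.centralizer (B : Set G) := by
  classical
  set τ := z ^ 2 ^ m with hτ
  by_contra hne
  have hco : (Nat.card Q).Coprime r := by
    obtain ⟨t, ht⟩ := hQ.exists_card_eq
    rw [ht]
    exact ((Nat.coprime_primes (Fact.out : q.Prime) Fact.out).mpr hqr).pow_left t
  obtain ⟨C, hCB, hΓC, hCcom, hCmoved, hCc, hCp⟩ := exists_min (p := r) (Q ⊔ Subgroup.zpowers z) Q B
    (sup_le Subgroup.le_normalizer (Subgroup.zpowers_le.mpr hzQ)) le_sup_left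
    (fun g _ => by rw [Subgroup.normalizer_eq_top]; trivial) hB hco hne
  have hzC : z ∈ Subgroup.normalizer (C : Set G) :=
    hΓC (Subgroup.mem_sup_right (Subgroup.mem_zpowers z))
  have hQC : Q ≤ Subgroup.normalizer (C : Set G) := le_sup_left.trans hΓC
  have hC : IsPGroup r C := hB.to_le hCB
  set Z := C ⊓ (Subgroup.centralizer (C : Set G) ⊓ Subgroup.centralizer (Q : Set G)) with hZ
  have hzZ : z ∈ Subgroup.normalizer (Z : Set G) :=
    norm_inf hzC (norm_inf (norm_centralizer hzC) (norm_centralizer hzQ))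
  have hZc : Z ≤ Subgroup.centralizer (C : Set G) := inf_le_right.trans inf_le_left
  have hZcomm : ∀ a ∈ Z, ∀ b ∈ Z, Commute a b := fun a ha b hb =>
    (Subgroup.mem_centralizer_iff.mp (hZc hb) a ha.1)
  have hcom : ∀ x ∈ C, ∀ y ∈ C, ⁅x, y⁆ ∈ Z := fun x hx y hy =>
    ⟨by
      show ⁅x, y⁆ ∈ C
      rw [commutatorElement_def]
      exact mul_mem (mul_mem (mul_mem hx hy) (inv_mem hx)) (inv_mem hy), hCc x hx y hy⟩
  have hpow : ∀ x ∈ C, x ^ r ∈ Z := fun x hx => ⟨pow_mem hx r, hCp x hx⟩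
  have hτZ := tau_fix ρ hρ hz hdef Z hzZ hZcomm (odd_card hr2 (hC.to_le inf_le_left))
  obtain ⟨x₀, hx₀, y₀, hy₀, hne₀⟩ : ∃ x ∈ C, ∃ y ∈ C, ⁅x, y⁆ ≠ 1 := by
    by_contra hab
    push Not at hab
    exact hCmoved (le_centralizer_of_gen Q C τ hQC hgen (tau_fix ρ hρ hz hdef C hzC
      (fun a ha b hb => commutatorElement_eq_one_iff_commute.mp (hab a ha b hb))
      (odd_card hr2 hC)))
  obtain ⟨μ, v, hv, hμ, hμne⟩ := exists_system ρ hρ Z hZcomm
    (odd_card hr2 (hC.to_le inf_le_left)) (hcom x₀ hx₀ y₀ hy₀) hne₀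
  obtain ⟨S⟩ := nonempty_setting ρ hr2 C Z hC z m hz hzC hzZ hdef hcom hZc hpow hτZ μ hv hμ
  have hQΓ : Q ≤ S.Γ := fun g hg => (S.mem_Γ g).mpr
    ⟨hQC hg, mem_norm fun c hc => by
      have hcg : g * c = c * g := Subgroup.mem_centralizer_iff.mp hc.2.2 g hg
      rw [hcg, mul_inv_cancel_right]; exact hc,
     fun c hc => by
      have hcg : g * c = c * g := Subgroup.mem_centralizer_iff.mp hc.2.2 g hg
      rw [hcg, mul_inv_cancel_right]⟩
  set Q' := Q.subgroupOf S.Γ with hQ'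
  have hgen' : Q' ≤ Subgroup.closure {x | ∃ g ∈ Q', ⁅g, (⟨τ, S.tau_mem⟩ : S.Γ)⁆ = x} := by
    refine (le_closure_subgroupOf Q S.Γ _ hgen ?_).trans (Subgroup.closure_mono ?_)
    · rintro _ ⟨g, hg, rfl⟩
      exact mul_mem (mul_mem (mul_mem (hQΓ hg) S.tau_mem) (inv_mem (hQΓ hg))) (inv_mem S.tau_mem)
    · rintro x ⟨g, hg, hgx⟩
      exact ⟨⟨g, hQΓ hg⟩, hg, Subtype.ext hgx⟩
  suffices htriv : ∀ g ∈ Q', S.act g = 1 by
    apply hμne
    have hle := S.comm_le Q hQΓ fun g hg => htriv ⟨g, hQΓ hg⟩ hg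
    rw [hCcom] at hle
    exact (S.mem_M x₀ hx₀).mp (hle hx₀) y₀ hy₀
  rcases S.cases' with hT | ⟨j, k, hk, hrk, hjk, hju, hrank⟩
  · intro g hg
    refine LinearMap.ext fun x => ?_
    exact trivial_of_gen S.act Q' ⟨τ, S.tau_mem⟩ hgen' ⊤ (fun _ _ _ _ => trivial)
      (fun y _ => LinearMap.congr_fun hT y) g hg x trivial
  -- the form
  have hμmul : ∀ a ∈ Z, ∀ b ∈ Z, μ (a * b) = μ a * μ b := fun a ha b hb => by
    apply smul_left_injective K hv
    show μ (a * b) • v = (μ a * μ b) • v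
    rw [← hμ _ (mul_mem ha hb), map_mul, Module.End.mul_apply, hμ b hb, map_smul, hμ a ha,
      smul_smul, mul_comm]
  have hμ1 : μ 1 = 1 := by
    apply smul_left_injective K hv
    show μ 1 • v = (1 : K) • v
    rw [← hμ 1 (one_mem Z), map_one, one_smul]; rfl
  have hcz : ∀ {c : G}, c ∈ Z → ∀ x ∈ C, x * c * x⁻¹ = c := fun {c} hc x hx => by
    rw [Subgroup.mem_centralizer_iff.mp (hZc hc) x hx, mul_inv_cancel_right]
  have hl : ∀ x x' y : C,
      μ ⁅((x * x' : C) : G), (y : G)⁆ = μ ⁅(x : G), (y : G)⁆ * μ ⁅(x' : G), (y : G)⁆ := by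
    intro x x' y
    rw [Subgroup.coe_mul, show ⁅(x : G) * x', (y : G)⁆ = x * ⁅(x' : G), (y : G)⁆ * (x : G)⁻¹ *
      ⁅(x : G), (y : G)⁆ by simp only [commutatorElement_def]; group,
      hcz (hcom _ x'.2 _ y.2) _ x.2, hμmul _ (hcom _ x'.2 _ y.2) _ (hcom _ x.2 _ y.2), mul_comm]
  have hskew : ∀ x y : C, μ ⁅(y : G), (x : G)⁆ * μ ⁅(x : G), (y : G)⁆ = 1 := fun x y => by
    rw [← hμmul _ (hcom _ y.2 _ x.2) _ (hcom _ x.2 _ y.2), ← commutatorElement_inv (x : G) (y : G),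
      inv_mul_cancel, hμ1]
  have hwd : ∀ x x' y : C, S.d x = S.d x' → μ ⁅(x : G), (y : G)⁆ = μ ⁅(x' : G), (y : G)⁆ := by
    intro x x' y h
    have hM : ((x⁻¹ * x' : C) : G) ∈ S.M := by
      rw [← S.d_zero, S.d_mul, ← h, ← S.d_mul, inv_mul_cancel]
      exact (S.d_zero 1).mpr (one_mem _)
    have h1 := hl x (x⁻¹ * x') y
    rw [mul_inv_cancel_left, (S.mem_M _ (x⁻¹ * x').2).mp hM y y.2, mul_one] at h1
    exact h1.symm
  have hwdr : ∀ x x' y : C, S.d x = S.d x' → μ ⁅(y : G), (x : G)⁆ = μ ⁅(y : G), (x' : G)⁆ := by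
    intro x x' y h
    have h1 := hskew x y
    rw [hwd x x' y h] at h1
    have h2 := hskew x' y
    exact mul_right_cancel₀ (right_ne_zero_of_mul_eq_one h2) (h1.trans h2.symm)
  let si := Function.surjInv S.d_surj
  have hsi : ∀ a, S.d (si a) = a := Function.surjInv_eq S.d_surj
  let b : (Fin S.n → ZMod r) → (Fin S.n → ZMod r) → K := fun a a' => μ ⁅(si a : G), (si a' : G)⁆
  have hb : ∀ x y : C, b (S.d x) (S.d y) = μ ⁅(x : G), (y : G)⁆ := fun x y => by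
    show μ ⁅(si (S.d x) : G), (si (S.d y) : G)⁆ = _
    rw [hwd _ x _ (hsi _), hwdr _ y x (hsi _)]
  have hbl : ∀ x x' y, b (x + x') y = b x y * b x' y := by
    intro a a' a''
    rw [← hsi a, ← hsi a', ← hsi a'', ← S.d_mul, hb, hb, hb, hl]
  have hbr : ∀ x y y', b x (y + y') = b x y * b x y' := by
    intro a a' a''
    rw [← hsi a, ← hsi a', ← hsi a'', ← S.d_mul, hb, hb, hb]
    have h1 := hskew (si a' * si a'') (si a)
    rw [hl] at h1
    have h2 := hskew (si a') (si a)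
    have h3 := hskew (si a'') (si a)
    calc μ ⁅(si a : G), ((si a' * si a'' : C) : G)⁆
        = μ ⁅(si a : G), ((si a' * si a'' : C) : G)⁆ *
          ((μ ⁅(si a : G), (si a' : G)⁆ * μ ⁅(si a' : G), (si a : G)⁆) *
          (μ ⁅(si a : G), (si a'' : G)⁆ * μ ⁅(si a'' : G), (si a : G)⁆)) := by
          rw [h2, h3, mul_one, mul_one]
      _ = (μ ⁅(si a : G), ((si a' * si a'' : C) : G)⁆ *
          (μ ⁅(si a' : G), (si a : G)⁆ * μ ⁅(si a'' : G), (si a : G)⁆)) *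
          (μ ⁅(si a : G), (si a' : G)⁆ * μ ⁅(si a : G), (si a'' : G)⁆) := by ring
      _ = _ := by rw [h1, one_mul]
  have hbord : ∀ x y, b x y ^ r = 1 := by
    intro a a'
    rw [← hsi a, ← hsi a', hb]
    have key : ∀ i : ℕ, μ ⁅((si a ^ i : C) : G), (si a' : G)⁆ =
        μ ⁅(si a : G), (si a' : G)⁆ ^ i := by
      intro i
      induction i with
      | zero => rw [pow_zero, pow_zero, Subgroup.coe_one, commutatorElement_one_left, hμ1]
      | succ i ih => rw [pow_succ, hl, ih, pow_succ]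
    rw [← key, Subgroup.coe_pow,
      commutatorElement_eq_one_iff_commute.mpr
        (Subgroup.mem_centralizer_iff.mp (hZc (hpow _ (si a).2)) _ (si a').2).symm, hμ1]
  have hbΓ : ∀ g : S.Γ, ∀ x y, b (S.act g x) (S.act g y) = b x y := by
    intro g a a'
    rw [← hsi a, ← hsi a', S.act_d, S.act_d, hb, hb]
    rw [show ⁅(g : G) * (si a : G) * (g : G)⁻¹, (g : G) * (si a' : G) * (g : G)⁻¹⁆ =
      (g : G) * ⁅(si a : G), (si a' : G)⁆ * (g : G)⁻¹ by simp only [commutatorElement_def]; group]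
    exact ((S.mem_Γ g).mp g.2).2.2 _ (hcom _ (si a).2 _ (si a').2)
  have hjτ : (⟨z ^ 2 ^ j, hju⟩ : S.Γ) ^ 2 ^ (k - 1) = ⟨τ, S.tau_mem⟩ :=
    Subtype.ext (by rw [SubmonoidClass.coe_pow]; show (z ^ 2 ^ j) ^ 2 ^ (k - 1) = τ
                    rw [← pow_mul, ← pow_add, hjk])
  have hT2 := S.invol
  refine no_action_ne hk hrk (Fact.out : q.Prime) hqr hq4 S.act ⟨z ^ 2 ^ j, hju⟩ Q'
    (hQ.comap_of_injective S.Γ.subtype S.Γ.subtype_injective)
    (mem_norm fun x hx => by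
      rw [hQ', Subgroup.mem_subgroupOf] at hx ⊢
      exact conj_mem (pow_mem hzQ _) hx)
    (by rwa [hjτ]) (by rw [hjτ]; exact hT2) (by rw [hjτ]; exact hrank) b hbl hbr hbord ?_
    (fun g _ => hbΓ g)
  rw [hjτ]
  intro x hx hx0
  set T := S.act ⟨τ, S.tau_mem⟩ with hT
  have hTT : ∀ a, T (T a) = a := fun a => LinearMap.congr_fun hT2 a
  obtain ⟨y, hy, hyne⟩ : ∃ y ∈ C, μ ⁅(si x : G), y⁆ ≠ 1 := by
    by_contra hcon
    push Not at hcon
    apply hx0
    rw [← hsi x, S.d_zero]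
    exact (S.mem_M _ (si x).2).mpr hcon
  have hbne : b x (S.d ⟨y, hy⟩) ≠ 1 := by
    rw [← hsi x, hb]; exact hyne
  set a := S.d ⟨y, hy⟩
  refine ⟨a - T a, by rw [map_sub, hTT, neg_sub], fun h1 => hbne ?_⟩
  have hsq1 : ∀ c : K, c ^ r = 1 → c ^ 2 = 1 → c = 1 := fun c hc hc2 => by
    obtain ⟨t, ht⟩ := (Fact.out : r.Prime).odd_of_ne_two hr2
    rwa [ht, pow_succ, pow_mul, hc2, one_pow, one_mul] at hc
  have hb0 : ∀ y, b 0 y = 1 := fun y => by
    have h := hbl 0 0 y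
    rw [add_zero] at h
    exact mul_left_cancel₀ (left_ne_zero_of_mul_eq_one (a := b 0 y) (b := b 0 y ^ (r - 1))
      (by rw [← pow_succ', Nat.sub_add_cancel (Fact.out : r.Prime).one_le, hbord]))
      (h.symm.trans (mul_one _).symm)
  have h2 : b x (a + T a) = 1 := by
    refine hsq1 _ (hbord _ _) ?_
    have h3 := hbΓ ⟨τ, S.tau_mem⟩ x (a + T a)
    rw [← hT, hx, map_add, hTT, add_comm (T a) a] at h3
    have h4 := hbl (-x) x (a + T a)
    rw [neg_add_cancel, hb0, h3] at h4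
    rw [sq]
    exact h4.symm
  refine hsq1 _ (hbord _ _) ?_
  rw [sq, ← hbr, show a + a = (a + T a) + (a - T a) by abel, hbr, h2, h1, one_mul]

/-- The moved `2`-group centralises normal `q`-subgroups. -/
theorem centralize_eq (ρ : G →* Module.End K W) (hρ : Function.Injective ρ) (z : G) (m : ℕ)
    (hz : z ^ 2 ^ (m + 1) = 1) (hdef : ∑ i ∈ Finset.range (2 ^ (m + 1)), ρ z ^ i = 0)
    {q : ℕ} [Fact q.Prime] (hq2 : q ≠ 2) {Q Q₁ Q₀ A : Subgroup G}
    (D : MoveData z (z ^ 2 ^ m) q Q Q₁ Q₀ A) (B : Subgroup G) [B.Normal] (hB : IsPGroup q B) :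
    A ≤ Subgroup.centralizer (B : Set G) := by
  classical
  set τ := z ^ 2 ^ m with hτ
  by_contra hne
  have hco : (Nat.card A).Coprime q := by
    obtain ⟨t, ht⟩ := D.twoA.exists_card_eq
    rw [ht]
    exact ((Nat.coprime_primes Nat.prime_two (Fact.out : q.Prime)).mpr (Ne.symm hq2)).pow_left t
  obtain ⟨C, hCB, hΓC, hCcom, hCmoved, hCc, hCp⟩ := exists_min (p := q)
    (A ⊔ Q ⊔ Subgroup.zpowers z) A B
    (sup_le (sup_le Subgroup.le_normalizer D.QA) (Subgroup.zpowers_le.mpr D.zA))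
    (le_sup_left.trans le_sup_left)
    (fun g _ => by rw [Subgroup.normalizer_eq_top]; trivial) hB hco hne
  have hzC : z ∈ Subgroup.normalizer (C : Set G) :=
    hΓC (Subgroup.mem_sup_right (Subgroup.mem_zpowers z))
  have hAC : A ≤ Subgroup.normalizer (C : Set G) := (le_sup_left.trans le_sup_left).trans hΓC
  have hQC : Q ≤ Subgroup.normalizer (C : Set G) := (le_sup_right.trans le_sup_left).trans hΓC
  have hC : IsPGroup q C := hB.to_le hCB
  set Z := C ⊓ (Subgroup.centralizer (C : Set G) ⊓ Subgroup.centralizer (A : Set G)) with hZ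
  have hzZ : z ∈ Subgroup.normalizer (Z : Set G) :=
    norm_inf hzC (norm_inf (norm_centralizer hzC) (norm_centralizer D.zA))
  have hQZ : Q ≤ Subgroup.normalizer (Z : Set G) := fun g hg =>
    norm_inf (hQC hg) (norm_inf (norm_centralizer (hQC hg)) (norm_centralizer (D.QA hg)))
  have hZc : Z ≤ Subgroup.centralizer (C : Set G) := inf_le_right.trans inf_le_left
  have hZcomm : ∀ a ∈ Z, ∀ b ∈ Z, Commute a b := fun a ha b hb =>
    (Subgroup.mem_centralizer_iff.mp (hZc hb) a ha.1)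
  have hcom : ∀ x ∈ C, ∀ y ∈ C, ⁅x, y⁆ ∈ Z := fun x hx y hy =>
    ⟨by
      show ⁅x, y⁆ ∈ C
      rw [commutatorElement_def]
      exact mul_mem (mul_mem (mul_mem hx hy) (inv_mem hx)) (inv_mem hy), hCc x hx y hy⟩
  have hpow : ∀ x ∈ C, x ^ q ∈ Z := fun x hx => ⟨pow_mem hx q, hCp x hx⟩
  have hτZ := tau_fix ρ hρ hz hdef Z hzZ hZcomm (odd_card hq2 (hC.to_le inf_le_left))
  have hQcZ : Q ≤ Subgroup.centralizer (Z : Set G) := le_centralizer_of_gen Q Z τ hQZ D.gen hτZ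
  obtain ⟨x₀, hx₀, y₀, hy₀, hne₀⟩ : ∃ x ∈ C, ∃ y ∈ C, ⁅x, y⁆ ≠ 1 := by
    by_contra hab
    push Not at hab
    have hQc := le_centralizer_of_gen Q C τ hQC D.gen (tau_fix ρ hρ hz hdef C hzC
      (fun a ha b hb => commutatorElement_eq_one_iff_commute.mp (hab a ha b hb))
      (odd_card hq2 hC))
    refine hCmoved ?_
    calc A = ⁅A, Q₁⁆ := D.comA.symm
      _ ≤ _ := Subgroup.commutator_le.mpr fun a ha g hg => by
          rw [commutatorElement_def]
          exact mul_mem (conj_mem (norm_centralizer (hAC ha)) (hQc (D.leQ₁ hg)))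
            (inv_mem (hQc (D.leQ₁ hg)))
  obtain ⟨μ, v, hv, hμ, hμne⟩ := exists_system ρ hρ Z hZcomm
    (odd_card hq2 (hC.to_le inf_le_left)) (hcom x₀ hx₀ y₀ hy₀) hne₀
  obtain ⟨S⟩ := nonempty_setting ρ hq2 C Z hC z m hz hzC hzZ hdef hcom hZc hpow hτZ μ hv hμ
  have hAΓ : A ≤ S.Γ := fun g hg => (S.mem_Γ g).mpr
    ⟨hAC hg, mem_norm fun c hc => by
      have hcg : g * c = c * g := Subgroup.mem_centralizer_iff.mp hc.2.2 g hg
      rw [hcg, mul_inv_cancel_right]; exact hc,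
     fun c hc => by
      have hcg : g * c = c * g := Subgroup.mem_centralizer_iff.mp hc.2.2 g hg
      rw [hcg, mul_inv_cancel_right]⟩
  have hQΓ : Q ≤ S.Γ := fun g hg => (S.mem_Γ g).mpr
    ⟨hQC hg, hQZ hg, fun c hc => by
      have hcg : c * g = g * c := Subgroup.mem_centralizer_iff.mp (hQcZ hg) c hc
      rw [← hcg, mul_inv_cancel_right]⟩
  set Q' := Q.subgroupOf S.Γ with hQ'
  set A' := A.subgroupOf S.Γ with hA'
  have hgen' : Q' ≤ Subgroup.closure {x | ∃ g ∈ Q', ⁅g, (⟨τ, S.tau_mem⟩ : S.Γ)⁆ = x} := by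
    refine (le_closure_subgroupOf Q S.Γ _ D.gen ?_).trans (Subgroup.closure_mono ?_)
    · rintro _ ⟨g, hg, rfl⟩
      exact mul_mem (mul_mem (mul_mem (hQΓ hg) S.tau_mem) (inv_mem (hQΓ hg))) (inv_mem S.tau_mem)
    · rintro x ⟨g, hg, hgx⟩
      exact ⟨⟨g, hQΓ hg⟩, hg, Subtype.ext hgx⟩
  have hAgen' : A' ≤ Subgroup.closure
      {x | ∃ a ∈ A', ∃ g ∈ Q₁.subgroupOf S.Γ, ⁅a, g⁆ = x} := by
    refine (le_closure_subgroupOf A S.Γ {x | ∃ a ∈ A, ∃ g ∈ Q₁, ⁅a, g⁆ = x}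
      (le_of_eq_of_le D.comA.symm le_rfl) ?_).trans (Subgroup.closure_mono ?_)
    · rintro _ ⟨a, ha, g, hg, rfl⟩
      exact mul_mem (mul_mem (mul_mem (hAΓ ha) (hQΓ (D.leQ₁ hg))) (inv_mem (hAΓ ha)))
        (inv_mem (hQΓ (D.leQ₁ hg)))
    · rintro x ⟨a, ha, g, hg, hgx⟩
      exact ⟨⟨a, hAΓ ha⟩, ha, ⟨g, hQΓ (D.leQ₁ hg)⟩, hg, Subtype.ext hgx⟩
  suffices htriv : ∀ g ∈ A', S.act g = 1 by
    apply hμne
    have hle := S.comm_le A hAΓ fun g hg => htriv ⟨g, hAΓ hg⟩ hg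
    rw [hCcom] at hle
    exact (S.mem_M x₀ hx₀).mp (hle hx₀) y₀ hy₀
  rcases S.cases' with hT | ⟨j, k, hk, hrk, hjk, hju, hrank⟩
  · have hQtriv : ∀ g ∈ Q', S.act g = 1 := fun g hg => LinearMap.ext fun x =>
      trivial_of_gen S.act Q' ⟨τ, S.tau_mem⟩ hgen' ⊤ (fun _ _ _ _ => trivial)
        (fun y _ => LinearMap.congr_fun hT y) g hg x trivial
    intro a ha
    let Kr : Subgroup S.Γ :=
      { carrier := {g | S.act g = 1}
        one_mem' := map_one _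
        mul_mem' := fun {a b} (ha : S.act a = 1) (hb : S.act b = 1) => by
          show S.act (a * b) = 1; rw [map_mul, ha, hb, one_mul]
        inv_mem' := fun {a} (ha : S.act a = 1) => by
          show S.act a⁻¹ = 1
          have h := map_mul S.act a a⁻¹
          rw [mul_inv_cancel, map_one, ha, one_mul] at h
          exact h.symm }
    refine (show A' ≤ Kr from hAgen'.trans ((Subgroup.closure_le Kr).mpr ?_)) ha
    rintro _ ⟨b, -, g, hg, rfl⟩
    show S.act ⁅b, g⁆ = 1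
    have hg1 : S.act g = 1 := hQtriv g (D.leQ₁ hg)
    have hg2 : S.act g⁻¹ = 1 := hQtriv _ (inv_mem (D.leQ₁ hg))
    rw [commutatorElement_def, map_mul, hg2, mul_one, map_mul, map_mul, hg1, mul_one, ← map_mul,
      mul_inv_cancel, map_one]
  have hjτ : (⟨z ^ 2 ^ j, hju⟩ : S.Γ) ^ 2 ^ (k - 1) = ⟨τ, S.tau_mem⟩ :=
    Subtype.ext (by rw [SubmonoidClass.coe_pow]; show (z ^ 2 ^ j) ^ 2 ^ (k - 1) = τ
                    rw [← pow_mul, ← pow_add, hjk])
  have hn : ∀ (H : Subgroup G) (g : S.Γ), (g : G) ∈ Subgroup.normalizer (H : Set G) →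
      g ∈ Subgroup.normalizer ((H.subgroupOf S.Γ : Subgroup S.Γ) : Set S.Γ) := fun H g hg =>
    mem_norm fun x hx => by
      rw [Subgroup.mem_subgroupOf] at hx ⊢
      exact conj_mem hg hx
  refine no_action_eq hk hrk S.act ⟨z ^ 2 ^ j, hju⟩ A' Q' (Q₁.subgroupOf S.Γ) (Q₀.subgroupOf S.Γ)
    (D.qgroup.comap_of_injective S.Γ.subtype S.Γ.subtype_injective)
    (D.twoA.comap_of_injective S.Γ.subtype S.Γ.subtype_injective)
    (Subgroup.comap_mono D.leQ₀) (Subgroup.comap_mono D.leQ₁)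
    (hn _ _ (pow_mem D.zQ _)) (hn _ _ (pow_mem D.zA _)) (hn _ _ (pow_mem D.zQ₀ _))
    (fun g hg => hn _ _ (D.QA hg)) (fun g hg => hn _ _ (D.QQ₀ hg))
    (by rwa [hjτ]) hAgen' ?_ (fun x hx g hg => D.modQ₀ _ hx _ hg)
    (fun g hg => by rw [hjτ]; exact D.fixQ₁ _ hg) ?_ ?_ ?_ ?_
    (by rw [hjτ]; exact S.invol) (by rw [hjτ]; exact hrank.le)
  · exact fun x hx a ha =>
      Subtype.ext ((Subgroup.mem_centralizer_iff.mp (D.centA hx) _ ha).symm)
  · exact fun a ha b hb c hc => Subtype.ext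
      ((Subgroup.mem_centralizer_iff.mp (D.commA _ ha _ hb).1 _ hc).symm)
  · intro a ha c hc
    refine Subtype.ext ?_
    have h := (Subgroup.mem_centralizer_iff.mp (D.sqA _ ha).1 _ hc).symm
    rw [sq] at h
    exact h
  · exact fun g hg a ha b hb => Subtype.ext
      (Subgroup.mem_centralizer_iff.mp (D.commA _ ha _ hb).2 _ hg)
  · intro g hg a ha
    refine Subtype.ext ?_
    have h := Subgroup.mem_centralizer_iff.mp (D.sqA _ ha).2 _ hg
    rw [sq] at h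
    exact h

end H28.TwoLength
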