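import Cfsg.Agent.H6.Basic

/-!
Minimal subgroups of a `p`-group moved by operators of coprime order, and lifting of `2`-elements.
-/

set_option autoImplicit false
set_option linter.style.haveILetI false

namespace H28.TwoLength

open scoped commutatorElement

universe u

variable {G : Type u} [Group G]

theorem mem_norm [Finite G] {S : Subgroup G} {g : G} (h : ∀ x ∈ S, g * x * g⁻¹ ∈ S) :
    g ∈ Subgroup.normalizer (S : Set G) := by
  rw [Subgroup.mem_normalizer_iff]
  have e : S.map (MulAut.conj g).toMonoidHom = S :=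
    Subgroup.eq_of_le_of_card_ge (by rintro _ ⟨x, hx, rfl⟩; exact h x hx)
      (le_of_eq (Subgroup.card_map_of_injective (MulAut.conj g).injective).symm)
  intro x
  refine ⟨fun hx => h x hx, fun hx => ?_⟩
  have hx' : g * x * g⁻¹ ∈ S.map (MulAut.conj g).toMonoidHom := e.symm ▸ hx
  obtain ⟨y, hy, hyx⟩ := hx'
  have hy' : g * y * g⁻¹ = g * x * g⁻¹ := hyx
  rw [mul_left_inj, mul_right_inj] at hy'
  exact hy' ▸ hy

theorem conj_mem {S : Subgroup G} {g x : G} (hg : g ∈ Subgroup.normalizer (S : Set G))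
    (hx : x ∈ S) : g * x * g⁻¹ ∈ S :=
  (Subgroup.mem_normalizer_iff.mp hg x).mp hx

/-- An element fixing the displacement it produces, of coprime order, produces none. -/
theorem disp_eq_one {n c d : G} (h1 : n * c * n⁻¹ = c * d) (h2 : n * d * n⁻¹ = d)
    (hco : (orderOf n).Coprime (orderOf d)) : d = 1 := by
  have key : ∀ i : ℕ, n ^ i * c * (n ^ i)⁻¹ = c * d ^ i := by
    intro i
    induction i with
    | zero => simp
    | succ i ih =>
      have h3 : n * d ^ i * n⁻¹ = d ^ i := by rw [← conj_pow, h2]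
      calc n ^ (i + 1) * c * (n ^ (i + 1))⁻¹ = n * (n ^ i * c * (n ^ i)⁻¹) * n⁻¹ := by
            rw [pow_succ']; group
        _ = n * (c * d ^ i) * n⁻¹ := by rw [ih]
        _ = n * c * n⁻¹ * (n * d ^ i * n⁻¹) := by group
        _ = c * d ^ (i + 1) := by rw [h1, h3, pow_succ', mul_assoc]
  have h4 := key (orderOf n)
  rw [pow_orderOf_eq_one, one_mul, inv_one, mul_one, left_eq_mul] at h4
  exact orderOf_eq_one_iff.mp (Nat.eq_one_of_dvd_coprimes hco (orderOf_dvd_of_pow_eq_one h4) dvd_rfl)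

/-- If `n` fixes `d` and `c d c⁻¹` then `⁅c⁻¹, n⁆` centralises `d`. -/
theorem commute_comm_of_fix {c n d : G} (h1 : n * d * n⁻¹ = d)
    (h2 : n * (c * d * c⁻¹) * n⁻¹ = c * d * c⁻¹) : Commute ⁅c⁻¹, n⁆ d := by
  have h1' : n⁻¹ * d * n = d := by
    calc n⁻¹ * d * n = n⁻¹ * (n * d * n⁻¹) * n := by rw [h1]
      _ = d := by group
  have h : ⁅c⁻¹, n⁆ * d * ⁅c⁻¹, n⁆⁻¹ = d := by
    calc ⁅c⁻¹, n⁆ * d * ⁅c⁻¹, n⁆⁻¹ = c⁻¹ * (n * (c * (n⁻¹ * d * n) * c⁻¹) * n⁻¹) * c := by
          rw [commutatorElement_def]; group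
      _ = c⁻¹ * (c * d * c⁻¹) * c := by rw [h1', h2]
      _ = d := by group
  exact mul_inv_eq_iff_eq_mul.mp h

variable [Finite G] {p : ℕ} [Fact p.Prime]

/-- A `p`-subgroup moved by coprime operators contains a minimal invariant one, of class two. -/
theorem exists_min (Γ N B : Subgroup G) (hNΓ : Γ ≤ Subgroup.normalizer (N : Set G)) (hNle : N ≤ Γ)
    (hΓB : Γ ≤ Subgroup.normalizer (B : Set G)) (hB : IsPGroup p B)
    (hco : (Nat.card N).Coprime p) (hne : ¬ N ≤ Subgroup.centralizer (B : Set G)) :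
    ∃ C : Subgroup G, C ≤ B ∧ Γ ≤ Subgroup.normalizer (C : Set G) ∧ ⁅C, N⁆ = C ∧
      ¬ N ≤ Subgroup.centralizer (C : Set G) ∧
      (∀ x ∈ C, ∀ y ∈ C, ⁅x, y⁆ ∈ Subgroup.centralizer (C : Set G) ⊓
        Subgroup.centralizer (N : Set G)) ∧
      ∀ x ∈ C, x ^ p ∈ Subgroup.centralizer (C : Set G) ⊓ Subgroup.centralizer (N : Set G) := by
  obtain ⟨C, ⟨hCB, hΓC, hCne⟩, hmin⟩ := wellFounded_lt.has_min
    {C : Subgroup G | C ≤ B ∧ Γ ≤ Subgroup.normalizer (C : Set G) ∧
      ¬ N ≤ Subgroup.centralizer (C : Set G)} ⟨B, le_rfl, hΓB, hne⟩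
  have hprop : ∀ D : Subgroup G, D < C → Γ ≤ Subgroup.normalizer (D : Set G) →
      N ≤ Subgroup.centralizer (D : Set G) := fun D hD hΓD => by
    by_contra hn
    exact hmin D ⟨hD.le.trans hCB, hΓD, hn⟩ hD
  have hcomle : ⁅C, N⁆ ≤ C := Subgroup.commutator_le.mpr fun c hc n hn => by
    rw [commutatorElement_def, show c * n * c⁻¹ * n⁻¹ = c * (n * c⁻¹ * n⁻¹) by group]
    exact mul_mem hc (conj_mem (hΓC (hNle hn)) (inv_mem hc))
  have hCp : IsPGroup p C := hB.to_le hCB
  have hcomeq : ⁅C, N⁆ = C := by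
    by_contra hne'
    have hlt : ⁅C, N⁆ < C := lt_of_le_of_ne hcomle hne'
    have hΓD : Γ ≤ Subgroup.normalizer ((⁅C, N⁆ : Subgroup G) : Set G) := fun g hg => by
      refine mem_norm fun x hx => ?_
      have h : x ∈ (⁅C, N⁆ : Subgroup G).comap (MulAut.conj g).toMonoidHom := by
        revert x
        show ⁅C, N⁆ ≤ _
        refine Subgroup.commutator_le.mpr fun c hc n hn => ?_
        show (MulAut.conj g) ⁅c, n⁆ ∈ ⁅C, N⁆
        rw [map_commutatorElement]
        exact Subgroup.commutator_mem_commutator (conj_mem (hΓC hg) hc) (conj_mem (hNΓ hg) hn)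
      exact h
    have hfix := hprop _ hlt hΓD
    refine hCne fun n hn => Subgroup.mem_centralizer_iff.mpr fun c hc => ?_
    have hd : c⁻¹ * (n * c * n⁻¹) ∈ (⁅C, N⁆ : Subgroup G) := by
      rw [show c⁻¹ * (n * c * n⁻¹) = ⁅c⁻¹, n⁆ by rw [commutatorElement_def]; group]
      exact Subgroup.commutator_mem_commutator (inv_mem hc) hn
    have hd1 : c⁻¹ * (n * c * n⁻¹) = 1 := by
      refine disp_eq_one (n := n) (c := c) (by group) ?_ ?_
      · rw [← Subgroup.mem_centralizer_iff.mp (hfix hn) _ hd, mul_inv_cancel_right]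
      · obtain ⟨k, hk⟩ := hCp ⟨_, hcomle hd⟩
        have hk' : (c⁻¹ * (n * c * n⁻¹)) ^ p ^ k = 1 := congrArg Subtype.val hk
        refine Nat.Coprime.coprime_dvd_left ?_ (Nat.Coprime.coprime_dvd_right
          (orderOf_dvd_of_pow_eq_one hk') (hco.pow_right k))
        exact Subgroup.orderOf_dvd_natCard N hn
    rw [inv_mul_eq_one, eq_mul_inv_iff_mul_eq] at hd1
    exact hd1
  refine ⟨C, hCB, hΓC, hcomeq, hCne, ?_⟩
  set D : Subgroup G := ⁅C, C⁆ ⊔ Subgroup.closure ((fun x => x ^ p) '' (C : Set G)) with hD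
  have hDn : ∀ g ∈ Subgroup.normalizer (C : Set G), ∀ x ∈ D, g * x * g⁻¹ ∈ D := by
    intro g hg
    show D ≤ D.comap (MulAut.conj g).toMonoidHom
    refine sup_le (Subgroup.commutator_le.mpr fun a ha b hb => ?_)
      ((Subgroup.closure_le _).mpr ?_)
    · show (MulAut.conj g) ⁅a, b⁆ ∈ D
      rw [map_commutatorElement]
      exact Subgroup.mem_sup_left
        (Subgroup.commutator_mem_commutator (conj_mem hg ha) (conj_mem hg hb))
    · rintro _ ⟨a, ha, rfl⟩
      show (MulAut.conj g) (a ^ p) ∈ D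
      rw [map_pow]
      exact Subgroup.mem_sup_right (Subgroup.subset_closure ⟨_, conj_mem hg ha, rfl⟩)
  have hDC : D < C := by
    have hle : D ≤ (frattini C).map C.subtype := by
      refine sup_le (Subgroup.commutator_le.mpr fun a ha b hb => ?_)
        ((Subgroup.closure_le _).mpr ?_)
      · exact ⟨⁅(⟨a, ha⟩ : C), ⟨b, hb⟩⁆, H6.commutator_le_frattini hCp
          (Subgroup.commutator_mem_commutator trivial trivial), rfl⟩
      · rintro _ ⟨a, ha, rfl⟩
        exact ⟨(⟨a, ha⟩ : C) ^ p, H6.pow_prime_mem_frattini hCp _, rfl⟩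
    refine lt_of_le_of_lt hle (lt_of_le_of_ne (Subgroup.map_subtype_le _) fun h => ?_)
    haveI : Nontrivial C := by
      rw [Subgroup.nontrivial_iff_ne_bot]
      intro hb
      exact hCne fun n _ => Subgroup.mem_centralizer_iff.mpr fun c hc => by
        rw [hb] at hc
        rw [Subgroup.mem_bot.mp hc, one_mul, mul_one]
    obtain hM | ⟨M, hM, -⟩ := eq_top_or_exists_le_coatom (⊥ : Subgroup C)
    · exact bot_ne_top hM
    · refine hM.1 ((Subgroup.eq_top_iff' M).mpr fun x => ?_)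
      have hx : (x : G) ∈ (frattini C).map C.subtype := h.symm ▸ x.2
      obtain ⟨y, hy, hyx⟩ := hx
      exact Subtype.ext hyx ▸ H6.mem_frattini_iff.mp hy M hM
  have hfix := hprop D hDC fun g hg => mem_norm (hDn g (hΓC hg))
  have hcen : D ≤ Subgroup.centralizer (C : Set G) := by
    intro d hd
    rw [Subgroup.mem_centralizer_iff]
    intro x hx
    suffices (⁅C, N⁆ : Subgroup G) ≤ Subgroup.centralizer {d} from
      (Subgroup.mem_centralizer_iff.mp (this (hcomeq.symm ▸ hx)) d rfl).symm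
    refine Subgroup.commutator_le.mpr fun c hc n hn => ?_
    rw [Subgroup.mem_centralizer_iff]
    rintro _ rfl
    have hf : ∀ y ∈ D, n * y * n⁻¹ = y := fun y hy => by
      rw [← Subgroup.mem_centralizer_iff.mp (hfix hn) y hy, mul_inv_cancel_right]
    have := commute_comm_of_fix (c := c⁻¹) (hf _ hd)
      (hf _ (hDn _ (Subgroup.le_normalizer (inv_mem hc)) _ hd))
    rw [inv_inv] at this
    exact this.eq.symm
  have hmem : ∀ d ∈ D, d ∈ Subgroup.centralizer (C : Set G) ⊓ Subgroup.centralizer (N : Set G) :=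
    fun d hd => Subgroup.mem_inf.mpr ⟨hcen hd, Subgroup.mem_centralizer_iff.mpr fun n hn =>
      (Subgroup.mem_centralizer_iff.mp (hfix hn) d hd).symm⟩
  exact ⟨fun x hx y hy => hmem _ (Subgroup.mem_sup_left (Subgroup.commutator_mem_commutator hx hy)),
    fun x hx => hmem _ (Subgroup.mem_sup_right (Subgroup.subset_closure ⟨x, hx, rfl⟩))⟩

omit [Fact p.Prime] in
/-- A `2`-element is congruent to a `2`-element of a supplement. -/
theorem exists_two_lift (N L : Subgroup G) [N.Normal] (h : N ⊔ L = ⊤) {z : G} {a : ℕ}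
    (hz : z ^ 2 ^ a = 1) : ∃ z' ∈ L, z'⁻¹ * z ∈ N ∧ ∃ b, z' ^ 2 ^ b = 1 := by
  obtain ⟨n, hn, y, hy, hzy⟩ : ∃ n ∈ N, ∃ y ∈ L, n * y = z :=
    Subgroup.mem_sup_of_normal_left.mp (h ▸ Subgroup.mem_top z)
  obtain ⟨b, o, ho, hord⟩ := Nat.exists_eq_two_pow_mul_odd (orderOf_pos y).ne'
  have hco : Nat.Coprime o (2 ^ a) := (Nat.coprime_two_right.mpr ho).pow_right a
  obtain ⟨o', -, hmod⟩ :=
    Nat.exists_mul_mod_eq_of_coprime 1 hco (pow_ne_zero a two_ne_zero)
  have hz' : z ^ (o * o') = z := by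
    have h1 : o * o' ≡ 1 [MOD orderOf z] :=
      Nat.ModEq.of_dvd (orderOf_dvd_of_pow_eq_one hz) hmod
    exact (pow_eq_pow_iff_modEq.mpr h1).trans (pow_one z)
  refine ⟨y ^ (o * o'), pow_mem hy _, ?_, b, ?_⟩
  · rw [← QuotientGroup.eq, QuotientGroup.mk_pow]
    have hq : (y : G ⧸ N) = (z : G ⧸ N) := by
      rw [← hzy, QuotientGroup.mk_mul, (QuotientGroup.eq_one_iff n).mpr hn, one_mul]
    rw [hq, ← QuotientGroup.mk_pow, hz']
  · rw [← pow_mul, show o * o' * 2 ^ b = 2 ^ b * o * o' by ring, ← hord, pow_mul, pow_orderOf_eq_one,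
      one_pow]

end H28.TwoLength
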