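import Cfsg.Agent.H32.HHSection
import Cfsg.Agent.H6.Basic

/-!
The deficient representation on the Frattini quotient of a normal `2`-subgroup.
-/

set_option autoImplicit false
set_option linter.style.haveILetI false

namespace H28.TwoLength

open scoped commutatorElement

universe u

/-- `2`-elements act deficiently on the Frattini quotient of a normal `2`-subgroup. -/
theorem exists_deficient_rep {G : Type u} [Group G] [Finite G] (S : Subgroup G) [S.Normal]
    (hS : IsPGroup 2 S) (m : ℕ)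
    (hexp : ∀ (z : G) (b : ℕ), z ^ 2 ^ b = 1 → z ^ 2 ^ (m + 1) = 1) :
    ∃ (n : ℕ) (ρ : G →* Module.End (AlgebraicClosure (ZMod 2))
        (Fin n → AlgebraicClosure (ZMod 2))),
      (∀ g ∈ S, ρ g = 1) ∧ (∀ g ∈ Subgroup.centralizer (S : Set G), ρ g = 1) ∧
      (∀ g, ρ g = 1 → Odd (orderOf g) → g ∈ Subgroup.centralizer (S : Set G)) ∧
      ∀ (z : G) (b : ℕ), z ^ 2 ^ b = 1 → ∑ i ∈ Finset.range (2 ^ (m + 1)), ρ z ^ i = 0 := by
  classical
  haveI := Fact.mk Nat.prime_two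
  set Φ := (frattini S).map S.subtype with hΦ
  haveI : Φ.Normal := H10.map_frattini_subtype_normal inferInstance
  set π := QuotientGroup.mk' Φ with hπ
  set V := S.map π with hV
  haveI : V.Normal := (inferInstance : S.Normal).map π (QuotientGroup.mk'_surjective _)
  have hcomm : ∀ a ∈ S, ∀ b ∈ S, Commute (π a) (π b) := fun a ha b hb => by
    show π a * π b = π b * π a
    rw [← map_mul, ← map_mul]
    apply QuotientGroup.eq.mpr
    refine ⟨⁅(⟨b, hb⟩ : S)⁻¹, (⟨a, ha⟩ : S)⁻¹⁆, H6.commutator_le_frattini hS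
      (Subgroup.commutator_mem_commutator trivial trivial), ?_⟩
    show ⁅b⁻¹, a⁻¹⁆ = (a * b)⁻¹ * (b * a)
    rw [commutatorElement_def]; group
  have hVe : Cfsg.IsElementaryAbelian 2 V := by
    refine ⟨⟨⟨?_⟩⟩, ?_⟩
    · rintro ⟨_, a, ha, rfl⟩ ⟨_, b, hb, rfl⟩
      exact Subtype.ext (hcomm a ha b hb).eq
    · rintro _ ⟨a, ha, rfl⟩
      rw [← map_pow]
      exact (QuotientGroup.eq_one_iff _).mpr
        ⟨(⟨a, ha⟩ : S) ^ 2, H6.pow_prime_mem_frattini hS _, rfl⟩
  obtain ⟨n, ρ₀, hinj, hsum⟩ := H32.HHS.exists_rep_sum V hVe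
  let ρ : G →* Module.End (AlgebraicClosure (ZMod 2)) (Fin n → AlgebraicClosure (ZMod 2)) :=
    ρ₀.comp ((QuotientGroup.mk' (Subgroup.centralizer (V : Set (G ⧸ Φ)))).comp π)
  have hker : ∀ g, ρ g = 1 ↔ π g ∈ Subgroup.centralizer (V : Set (G ⧸ Φ)) := fun g => by
    rw [← QuotientGroup.eq_one_iff]
    exact map_eq_one_iff ρ₀ hinj
  refine ⟨n, ρ, fun g hg => ?_, fun g hg => ?_, fun g hg hodd => ?_, fun z b hz => ?_⟩
  · rw [hker, Subgroup.mem_centralizer_iff]
    rintro _ ⟨a, ha, rfl⟩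
    exact (hcomm a ha g hg).eq
  · rw [hker, Subgroup.mem_centralizer_iff]
    rintro _ ⟨a, ha, rfl⟩
    rw [← map_mul, ← map_mul, Subgroup.mem_centralizer_iff.mp hg a ha]
  · obtain ⟨t, ht⟩ := (hS.to_subgroup (frattini S)).exists_card_eq
    refine H1.le_centralizer_of_frattini ?_ ?_ (fun y hy k hk => ?_) (Subgroup.mem_zpowers g)
    · rw [Subgroup.normalizer_eq_top]; exact le_top
    · rw [Nat.card_zpowers, ht]
      exact (Nat.coprime_two_right.mpr hodd).pow_right t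
    · have hyK : π y ∈ Subgroup.centralizer (V : Set (G ⧸ Φ)) := by
        obtain ⟨i, rfl⟩ := Subgroup.mem_zpowers_iff.mp hy
        rw [map_zpow]
        exact zpow_mem ((hker g).mp hg) i
      show y * k * y⁻¹ * k⁻¹ ∈ Φ
      refine (QuotientGroup.eq_one_iff _).mp ?_
      show π (y * k * y⁻¹ * k⁻¹) = 1
      rw [map_mul, map_mul, map_mul, map_inv, map_inv,
        ← Subgroup.mem_centralizer_iff.mp hyK (π k) ⟨k, hk, rfl⟩]
      group
  · by_contra hne
    obtain ⟨v, ⟨v', hv', rfl⟩, hvne⟩ := hsum (π z) _ hne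
    apply hvne
    rw [← map_mul, ← map_pow, ← map_pow, hexp z b hz]
    have hmem : (v' * z) ^ 2 ^ b ∈ S := by
      rw [← QuotientGroup.eq_one_iff, QuotientGroup.mk_pow, QuotientGroup.mk_mul,
        (QuotientGroup.eq_one_iff v').mpr hv', one_mul, ← QuotientGroup.mk_pow, hz]
      rfl
    obtain ⟨c, hc⟩ := hS ⟨_, hmem⟩
    have hc' : ((v' * z) ^ 2 ^ b) ^ 2 ^ c = 1 := congrArg Subtype.val hc
    rw [← pow_mul, ← pow_add] at hc'
    rw [hexp _ _ hc']

end H28.TwoLength
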