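import Cfsg.Agent.H28.TwoLength.Plane
import Cfsg.Agent.H28.TwoLength.Rep

/-!
The data attached to a `2`-element whose involution moves a Sylow subgroup modulo a `2`-group.
-/

set_option autoImplicit false
set_option linter.style.haveILetI false

namespace H28.TwoLength

open Module H28.SG
open scoped commutatorElement

universe u

/-- A minimal moved `q`-group `Q`, its central part `Q₁` and the `2`-group `A` moved by `Q₁`. -/
structure MoveData {G : Type u} [Group G] (z τ : G) (q : ℕ) (Q Q₁ Q₀ A : Subgroup G) : Prop where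
  qgroup : IsPGroup q Q
  zQ : z ∈ Subgroup.normalizer (Q : Set G)
  zQ₁ : z ∈ Subgroup.normalizer (Q₁ : Set G)
  zQ₀ : z ∈ Subgroup.normalizer (Q₀ : Set G)
  zA : z ∈ Subgroup.normalizer (A : Set G)
  QQ₀ : Q ≤ Subgroup.normalizer (Q₀ : Set G)
  QA : Q ≤ Subgroup.normalizer (A : Set G)
  leQ₀ : Q₀ ≤ Q
  leQ₁ : Q₁ ≤ Q
  gen : Q ≤ Subgroup.closure {x | ∃ g ∈ Q, ⁅g, τ⁆ = x}
  modQ₀ : ∀ x ∈ Q, ∀ g ∈ Q₁, ⁅x, g⁆ ∈ Q₀
  fixQ₁ : ∀ g ∈ Q₁, ⁅τ, g⁆ ∈ Q₀
  twoA : IsPGroup 2 A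
  comA : ⁅A, Q₁⁆ = A
  moved : ¬ Q₁ ≤ Subgroup.centralizer (A : Set G)
  centA : Q₀ ≤ Subgroup.centralizer (A : Set G)
  commA : ∀ a ∈ A, ∀ b ∈ A,
    ⁅a, b⁆ ∈ Subgroup.centralizer (A : Set G) ⊓ Subgroup.centralizer (Q₁ : Set G)
  sqA : ∀ a ∈ A, a ^ 2 ∈ Subgroup.centralizer (A : Set G) ⊓ Subgroup.centralizer (Q₁ : Set G)

theorem odd_orderOf {G : Type u} [Group G] [Finite G] {q : ℕ} [Fact q.Prime] (hq2 : q ≠ 2)
    {S : Subgroup G} (hS : IsPGroup q S) {x : G} (hx : x ∈ S) : Odd (orderOf x) := by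
  obtain ⟨n, hn⟩ := hS ⟨x, hx⟩
  exact Odd.of_dvd_nat (((Fact.out : q.Prime).odd_of_ne_two hq2).pow)
    (orderOf_dvd_of_pow_eq_one (congrArg Subtype.val hn))

variable {G : Type u} [Group G] [Finite G]

theorem exists_data (S : Subgroup G) [S.Normal] (hS : IsPGroup 2 S) (m : ℕ)
    (hexp : ∀ (z : G) (b : ℕ), z ^ 2 ^ b = 1 → z ^ 2 ^ (m + 1) = 1) {q : ℕ} [Fact q.Prime]
    (hq2 : q ≠ 2) (Qs : Subgroup G) (hQs : IsPGroup q Qs) (z : G)
    (hz : z ^ 2 ^ (m + 1) = 1) (hzQs : z ∈ Subgroup.normalizer (Qs : Set G))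
    (hmove : ∃ g ∈ Qs, ⁅g, z ^ 2 ^ m⁆ ∉ Subgroup.centralizer (S : Set G)) :
    q % 4 = 3 ∧ ∃ Q Q₁ Q₀ A : Subgroup G, MoveData z (z ^ 2 ^ m) q Q Q₁ Q₀ A := by
  classical
  haveI := Fact.mk Nat.prime_two
  set τ := z ^ 2 ^ m with hτ
  have hττ : τ * τ = 1 := by rw [hτ, ← pow_add, ← two_mul, ← pow_succ', hz]
  have hττ' : τ⁻¹ = τ := inv_eq_of_mul_eq_one_right hττ
  set Kc := Subgroup.centralizer (S : Set G) with hKc
  haveI : Kc.Normal := Subgroup.normal_centralizer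
  obtain ⟨n, ρ, -, hρcent, hρker, hρdef⟩ := exists_deficient_rep S hS m hexp
  have hdef := hρdef z (m + 1) hz
  -- the minimal moved subgroup
  obtain ⟨Q, ⟨hQle, hzQ, g₀, hg₀, hg₀n⟩, hQmin⟩ := wellFounded_lt.has_min
    {Q : Subgroup G | Q ≤ Qs ∧ z ∈ Subgroup.normalizer (Q : Set G) ∧
      ∃ g ∈ Q, ⁅g, τ⁆ ∉ Kc} ⟨Qs, le_rfl, hzQs, hmove⟩
  have hQ : IsPGroup q Q := hQs.to_le hQle
  have hτQ : τ ∈ Subgroup.normalizer (Q : Set G) := pow_mem hzQ _
  have hprop : ∀ D : Subgroup G, D < Q → z ∈ Subgroup.normalizer (D : Set G) →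
      ∀ g ∈ D, ⁅g, τ⁆ ∈ Kc := by
    intro D hD hzD g hg
    by_contra hn
    exact hQmin D ⟨hD.le.trans hQle, hzD, g, hg, hn⟩ hD
  have hzτ : z * τ * z⁻¹ = τ := by
    rw [((Commute.refl z).pow_right (2 ^ m)).eq, mul_inv_cancel_right]
  have hcomQ : ∀ g ∈ Q, ⁅g, τ⁆ ∈ Q := fun g hg => by
    rw [commutatorElement_def, show g * τ * g⁻¹ * τ⁻¹ = g * (τ * g⁻¹ * τ⁻¹) by group]
    exact mul_mem hg (conj_mem hτQ (inv_mem hg))
  set D := Subgroup.closure {x | ∃ g ∈ Q, ⁅g, τ⁆ = x} with hD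
  have hgen : Q ≤ D := by
    have hle : D ≤ Q := (Subgroup.closure_le Q).mpr (by rintro _ ⟨g, hg, rfl⟩; exact hcomQ g hg)
    by_contra hne
    have hlt : D < Q := lt_of_le_of_ne hle fun h => hne h.ge
    have hzD : z ∈ Subgroup.normalizer (D : Set G) := mem_norm fun x hx => by
      have h : D ≤ D.comap (MulAut.conj z).toMonoidHom := (Subgroup.closure_le _).mpr (by
        rintro _ ⟨g, hg, rfl⟩
        show z * ⁅g, τ⁆ * z⁻¹ ∈ D
        rw [show z * ⁅g, τ⁆ * z⁻¹ = ⁅z * g * z⁻¹, z * τ * z⁻¹⁆ by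
          simp only [commutatorElement_def]; group, hzτ]
        exact Subgroup.subset_closure ⟨_, conj_mem hzQ hg, rfl⟩)
      exact h hx
    apply hg₀n
    set d := ⁅g₀, τ⁆ with hd
    have hdD : d ∈ D := Subgroup.subset_closure ⟨g₀, hg₀, rfl⟩
    have hτd : τ * d * τ⁻¹ = d⁻¹ := by
      rw [hd, commutatorElement_def, mul_inv_rev, mul_inv_rev, mul_inv_rev, inv_inv, inv_inv]
      simp only [hττ', mul_assoc, hττ, mul_one]
    have h2 : d * d ∈ Kc := by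
      have := hprop D hlt hzD d hdD
      rwa [commutatorElement_def, show d * τ * d⁻¹ * τ⁻¹ = d * (τ * d * τ⁻¹)⁻¹ by group, hτd,
        inv_inv] at this
    obtain ⟨t, ht⟩ := odd_orderOf hq2 hQ (hcomQ g₀ hg₀)
    change orderOf d = _ at ht
    have h3 : d = (d * d) ^ (t + 1) := by
      rw [← sq, ← pow_mul, show 2 * (t + 1) = orderOf d + 1 by omega, pow_succ, pow_orderOf_eq_one,
        one_mul]
    rw [h3]
    exact pow_mem h2 _
  -- the part central modulo the centraliser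
  set π := QuotientGroup.mk' Kc with hπ
  set Q₀ := Q ⊓ Kc with hQ₀
  set Q₁ := Q ⊓ (Subgroup.centralizer (Q.map π : Set (G ⧸ Kc))).comap π with hQ₁
  have hπcomm : ∀ x g : G, π x * π g = π g * π x ↔ ⁅x, g⁆ ∈ Kc := fun x g => by
    rw [← QuotientGroup.eq_one_iff, show ((⁅x, g⁆ : G) : G ⧸ Kc) = π ⁅x, g⁆ from rfl,
      map_commutatorElement, commutatorElement_eq_one_iff_commute]
    rfl
  have hQ₁mem : ∀ g, g ∈ Q₁ ↔ g ∈ Q ∧ ∀ x ∈ Q, ⁅x, g⁆ ∈ Kc := fun g => by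
    rw [hQ₁, Subgroup.mem_inf, Subgroup.mem_comap, Subgroup.mem_centralizer_iff]
    refine and_congr_right fun _ => ⟨fun h x hx => (hπcomm x g).mp (h _ ⟨x, hx, rfl⟩), ?_⟩
    rintro h _ ⟨x, hx, rfl⟩
    exact (hπcomm x g).mpr (h x hx)
  have hzQ₁ : z ∈ Subgroup.normalizer (Q₁ : Set G) := mem_norm fun g hg => by
    rw [hQ₁mem] at hg ⊢
    refine ⟨conj_mem hzQ hg.1, fun x hx => ?_⟩
    have hx' : z⁻¹ * x * z⁻¹⁻¹ ∈ Q := conj_mem (inv_mem hzQ) hx
    rw [show ⁅x, z * g * z⁻¹⁆ = z * ⁅z⁻¹ * x * z⁻¹⁻¹, g⁆ * z⁻¹ by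
      simp only [commutatorElement_def]; group]
    exact Subgroup.Normal.conj_mem inferInstance _ (hg.2 _ hx') z
  have hzQ₀ : z ∈ Subgroup.normalizer (Q₀ : Set G) := mem_norm fun g hg =>
    ⟨conj_mem hzQ hg.1, Subgroup.Normal.conj_mem inferInstance _ hg.2 z⟩
  have hQQ₀ : Q ≤ Subgroup.normalizer (Q₀ : Set G) := fun x hx => mem_norm fun g hg =>
    ⟨conj_mem (Subgroup.le_normalizer hx) hg.1, Subgroup.Normal.conj_mem inferInstance _ hg.2 x⟩
  have hQ₁Q : Q₁ ≤ Q := inf_le_left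
  have hmod : ∀ x ∈ Q, ∀ g ∈ Q₁, ⁅x, g⁆ ∈ Q₀ := fun x hx g hg => by
    refine ⟨?_, ((hQ₁mem g).mp hg).2 x hx⟩
    show ⁅x, g⁆ ∈ Q
    rw [commutatorElement_def]
    exact mul_mem (mul_mem (mul_mem hx (hQ₁Q hg)) (inv_mem hx)) (inv_mem (hQ₁Q hg))
  -- kernel elements in `Q`
  have hkerQ : ∀ g ∈ Q, ρ g = 1 → g ∈ Kc := fun g hg h => hρker g h (odd_orderOf hq2 hQ hg)
  have hρone : ∀ g ∈ Q₁, ∀ x ∈ Q, Commute (ρ g) (ρ x) := fun g hg x hx =>
    (commute_of_map_commutator (hρcent _ (hmod x hx g hg).2)).symm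
  have hzρ : ∀ g, ρ z * ρ g = ρ (z * g * z⁻¹) * ρ z := fun g => rep_intertwine ρ z g
  -- the involution fixes the central part
  have hfixK : ∀ g ∈ Q₁, ⁅τ, g⁆ ∈ Q₀ := by
    intro g hg
    have hin : τ * g * τ⁻¹ * g⁻¹ ∈ Q := mul_mem (conj_mem hτQ (hQ₁Q hg)) (inv_mem (hQ₁Q hg))
    refine ⟨hin, hkerQ _ hin ?_⟩
    have hcardQ : Odd (Nat.card Q₁) := by
      obtain ⟨t, ht⟩ := (hQ.to_le hQ₁Q).exists_card_eq
      rw [ht]
      exact ((Fact.out : q.Prime).odd_of_ne_two hq2).pow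
    have h := abelian_fix (ρ.comp Q₁.subtype) (fun a b => hρone a a.2 b (hQ₁Q b.2)) hcardQ
      (subConj Q₁ z hzQ₁) (fun a => hzρ a) m (subConj_pow_eq_one Q₁ hzQ₁ hz) hdef ⟨g, hg⟩
    rw [MonoidHom.comp_apply, MonoidHom.comp_apply, Subgroup.coe_subtype, subConj_pow] at h
    change ρ (τ * g * τ⁻¹) = ρ g at h
    rw [commutatorElement_def, map_mul, h, ← map_mul, mul_inv_cancel, map_one]
  -- `Q₁` moves `S`
  have hmoved : ¬ Q₁ ≤ Kc := by
    intro h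
    have hne : g₀ ∉ Kc := fun hK => hg₀n (by
      rw [commutatorElement_def, show g₀ * τ * g₀⁻¹ * τ⁻¹ = g₀ * (τ * g₀⁻¹ * τ⁻¹) by group]
      exact mul_mem hK (Subgroup.Normal.conj_mem inferInstance _ (inv_mem hK) τ))
    haveI : Nontrivial (Q.map π) := by
      rw [Subgroup.nontrivial_iff_ne_bot]
      intro hb
      apply hne
      have h1 : π g₀ ∈ Q.map π := ⟨g₀, hg₀, rfl⟩
      rw [hb, Subgroup.mem_bot] at h1
      exact (QuotientGroup.eq_one_iff g₀).mp h1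
    haveI := (hQ.map π).center_nontrivial
    obtain ⟨⟨⟨w, g, hg, hgw⟩, hw⟩, hwne⟩ := exists_ne (1 : Subgroup.center (Q.map π))
    apply hwne
    have hgQ₁ : g ∈ Q₁ := (hQ₁mem g).mpr ⟨hg, fun x hx => (hπcomm x g).mp (by
      have h2 := congrArg Subtype.val (Subgroup.mem_center_iff.mp hw ⟨π x, x, hx, rfl⟩)
      simp only [Subgroup.coe_mul] at h2
      rwa [hgw])⟩
    refine Subtype.ext (Subtype.ext ?_)
    show w = 1
    rw [← hgw]
    exact (QuotientGroup.eq_one_iff g).mpr (h hgQ₁)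
  -- class two
  have hclass : ∀ x ∈ Q, ∀ y ∈ Q, ⁅x, y⁆ ∈ Q₁ := by
    have hDQ : (⁅Q, Q⁆ : Subgroup G) < Q := by
      have hle : (⁅Q, Q⁆ : Subgroup G) ≤ (frattini Q).map Q.subtype :=
        Subgroup.commutator_le.mpr fun a ha b hb => ⟨⁅(⟨a, ha⟩ : Q), ⟨b, hb⟩⁆,
          H6.commutator_le_frattini hQ (Subgroup.commutator_mem_commutator trivial trivial), rfl⟩
      refine lt_of_le_of_lt hle (lt_of_le_of_ne (Subgroup.map_subtype_le _) fun h => ?_)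
      haveI : Nontrivial Q := by
        rw [Subgroup.nontrivial_iff_ne_bot]
        intro hb
        apply hg₀n
        rw [hb, Subgroup.mem_bot] at hg₀
        rw [hg₀, commutatorElement_one_left]
        exact one_mem _
      obtain hM | ⟨M, hM, -⟩ := eq_top_or_exists_le_coatom (⊥ : Subgroup Q)
      · exact bot_ne_top hM
      · refine hM.1 ((Subgroup.eq_top_iff' M).mpr fun x => ?_)
        have hx : (x : G) ∈ (frattini Q).map Q.subtype := h.symm ▸ x.2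
        obtain ⟨y, hy, hyx⟩ := hx
        exact Subtype.ext hyx ▸ H6.mem_frattini_iff.mp hy M hM
    have hconjD : ∀ g ∈ Subgroup.normalizer (Q : Set G), ∀ d ∈ (⁅Q, Q⁆ : Subgroup G),
        g * d * g⁻¹ ∈ (⁅Q, Q⁆ : Subgroup G) := by
      intro g hg
      show (⁅Q, Q⁆ : Subgroup G) ≤ (⁅Q, Q⁆ : Subgroup G).comap (MulAut.conj g).toMonoidHom
      refine Subgroup.commutator_le.mpr fun a ha b hb => ?_
      show (MulAut.conj g) ⁅a, b⁆ ∈ (⁅Q, Q⁆ : Subgroup G)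
      rw [map_commutatorElement]
      exact Subgroup.commutator_mem_commutator (conj_mem hg ha) (conj_mem hg hb)
    have hfix := hprop _ hDQ (mem_norm (hconjD z hzQ))
    have hfixπ : ∀ d ∈ (⁅Q, Q⁆ : Subgroup G), π τ * π d * (π τ)⁻¹ = π d := fun d hd => by
      rw [← (hπcomm d τ).mpr (hfix d hd), mul_inv_cancel_right]
    intro x hx y hy
    have hd := Subgroup.commutator_mem_commutator hx hy
    rw [hQ₁mem]
    refine ⟨hDQ.le hd, fun w hw => ?_⟩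
    rw [← hπcomm]
    have hle : Q ≤ (Subgroup.centralizer {π ⁅x, y⁆}).comap π := by
      refine hgen.trans ((Subgroup.closure_le _).mpr ?_)
      rintro _ ⟨g, hg, rfl⟩
      rw [SetLike.mem_coe, Subgroup.mem_comap, Subgroup.mem_centralizer_iff]
      rintro _ rfl
      have h1 := commute_comm_of_fix (c := π g⁻¹) (n := π τ) (hfixπ _ hd) (by
        rw [← map_inv, ← map_mul, ← map_mul]
        exact hfixπ _ (hconjD _ (Subgroup.le_normalizer (inv_mem hg)) _ hd))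
      rw [← map_inv, inv_inv, ← map_commutatorElement] at h1
      exact h1.eq.symm
    exact (Subgroup.mem_centralizer_iff.mp (hle hw) _ rfl).symm
  refine ⟨?_, ?_⟩
  · -- `q` is a Mersenne prime
    by_contra hq4
    refine hmoved ?_
    suffices hall : ∀ x ∈ Q, ∀ y ∈ Q, ⁅x, y⁆ ∈ Kc by
      have hQQ₁ : Q ≤ Q₁ := fun g hg => (hQ₁mem g).mpr ⟨hg, fun x hx => hall x hx g hg⟩
      exfalso
      apply hg₀n
      have h := (hfixK g₀ (hQQ₁ hg₀)).2
      rw [← commutatorElement_inv]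
      exact inv_mem h
    have hcommut : ∀ x ∈ Q, ∀ y ∈ Q, ρ ⁅⁅x, τ⁆, y⁆ = 1 := by
      intro x hx y hy
      by_contra hne
      have hcardQ : Odd (Nat.card Q₁) := by
        obtain ⟨t, ht⟩ := (hQ.to_le hQ₁Q).exists_card_eq
        rw [ht]
        exact ((Fact.out : q.Prime).odd_of_ne_two hq2).pow
      have hc : ⁅⁅x, τ⁆, y⁆ ∈ Q₁ := hclass _ (hcomQ x hx) y hy
      obtain ⟨μ', v, hv, hEig, hμne⟩ := exists_nontrivial_eig (ρ.comp Q₁.subtype)
        (fun a b => hρone a a.2 b (hQ₁Q b.2)) ⟨_, hc⟩ hne _ pow_card_eq_one'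
        (natCast_ne_zero_of_odd hcardQ)
      let μ : G → AlgebraicClosure (ZMod 2) := fun g => if h : g ∈ Q₁ then μ' ⟨g, h⟩ else 0
      obtain ⟨M, -, hMmem, hpl⟩ := exists_plane ρ (Fact.out : q.Prime) hq2 Q Q₁ hQ z m hz hzQ hzQ₁
        hdef hclass hρone μ hv (fun c hc' => by
          simp only [μ, dif_pos hc']; exact hEig ⟨c, hc'⟩)
      rcases hpl with hl | ⟨j, k, R₂, hk, hqk, -⟩
      · have h1 := hl x⁻¹ (inv_mem hx)
        rw [inv_inv] at h1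
        have h2 : x * (τ * x⁻¹ * τ⁻¹) = ⁅x, τ⁆ := by rw [commutatorElement_def]; group
        rw [h2] at h1
        have h3 := (hMmem _ (hcomQ x hx)).mp h1 y hy
        simp only [μ, dif_pos hc] at h3
        exact hμne h3
      · apply hq4
        obtain ⟨k', rfl⟩ : ∃ k', k = k' + 2 := ⟨k - 2, by omega⟩
        have : 2 ^ (k' + 2) = 4 * 2 ^ k' := by ring
        omega
    intro x hx y hy
    have hle : Q ≤ (Subgroup.centralizer {π y}).comap π := by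
      refine hgen.trans ((Subgroup.closure_le _).mpr ?_)
      rintro _ ⟨g, hg, rfl⟩
      rw [SetLike.mem_coe, Subgroup.mem_comap, Subgroup.mem_centralizer_iff]
      rintro _ rfl
      exact ((hπcomm _ _).mpr (hkerQ _ (hQ₁Q (hclass _ (hcomQ g hg) y hy)) (hcommut g hg y hy))).symm
    exact (hπcomm x y).mp (Subgroup.mem_centralizer_iff.mp (hle hx) _ rfl).symm
  · -- the `2`-group
    have hΓ : Q ⊔ Subgroup.zpowers z ≤ Subgroup.normalizer (Q₁ : Set G) := by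
      refine sup_le (fun x hx => mem_norm fun g hg => ?_) (Subgroup.zpowers_le.mpr hzQ₁)
      rw [show x * g * x⁻¹ = ⁅x, g⁆ * g by rw [commutatorElement_def]; group]
      refine mul_mem ?_ hg
      rw [hQ₁mem]
      refine ⟨(hmod x hx g hg).1, fun y _ => ?_⟩
      rw [commutatorElement_def]
      have hk := (hmod x hx g hg).2
      rw [mul_assoc (y * _)]
      rw [show y * ⁅x, g⁆ * (y⁻¹ * ⁅x, g⁆⁻¹) = (y * ⁅x, g⁆ * y⁻¹) * ⁅x, g⁆⁻¹ by group]
      exact mul_mem (Subgroup.Normal.conj_mem inferInstance _ hk y) (inv_mem hk)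
    obtain ⟨A, hAS, hΓA, hAcom, hAmoved, hAcomm, hAsq⟩ := exists_min (p := 2)
      (Q ⊔ Subgroup.zpowers z) Q₁ S hΓ (hQ₁Q.trans le_sup_left)
      (fun g _ => by rw [Subgroup.normalizer_eq_top]; trivial) hS (by
        obtain ⟨t, ht⟩ := (hQ.to_le hQ₁Q).exists_card_eq
        rw [ht]
        exact ((Nat.coprime_primes (Fact.out : q.Prime) Nat.prime_two).mpr hq2).pow_left t) hmoved
    exact ⟨Q, Q₁, Q₀, A, hQ, hzQ, hzQ₁, hzQ₀, hΓA (Subgroup.mem_sup_right (Subgroup.mem_zpowers z)),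
      hQQ₀, le_sup_left.trans hΓA, inf_le_left, hQ₁Q, hgen, hmod, hfixK, hS.to_le hAS, hAcom,
      hAmoved, inf_le_right.trans (Subgroup.centralizer_le hAS), hAcomm, hAsq⟩

end H28.TwoLength
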