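import Cfsg.Agent.H28.TwoLength.Norm
import Cfsg.Agent.H28.ShultGross.Core

/-!
Deficient `2`-elements: orbits of eigenvalue systems and the plane in the symplectic section.
-/

set_option autoImplicit false
set_option linter.style.haveILetI false

namespace H28.TwoLength

open Module H28.SG
open scoped commutatorElement

universe u v w

/-- A Mersenne prime power is a prime. -/
theorem mersenne_exp {r f k : ℕ} (hk : 2 ≤ k) (h : r ^ f + 1 = 2 ^ k) (hr : 2 ≤ r) : f = 1 := by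
  obtain ⟨k', rfl⟩ : ∃ k', k = k' + 2 := ⟨k - 2, by omega⟩
  have h4 : r ^ f % 4 = 3 := by
    have : 2 ^ (k' + 2) = 4 * 2 ^ k' := by ring
    omega
  rcases Nat.even_or_odd f with ⟨g, hg⟩ | ⟨g, hg⟩
  · exfalso
    rw [hg, ← two_mul, mul_comm, pow_mul, Nat.pow_mod] at h4
    have := Nat.mod_lt (r ^ g) (show 4 > 0 by norm_num)
    interval_cases hh : r ^ g % 4 <;> norm_num at h4
  subst hg
  have hdvd : r + 1 ∣ 2 ^ (k' + 2) := by
    rw [← h]
    have := Odd.nat_add_dvd_pow_add_pow r 1 (odd_two_mul_add_one g)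
    simpa using this
  obtain ⟨l, -, hl⟩ := (Nat.dvd_prime_pow Nat.prime_two).mp hdvd
  have hl1 : 1 ≤ l := by
    rcases Nat.eq_zero_or_pos l with h0 | h0
    · rw [h0, pow_zero] at hl; omega
    · exact h0
  have hsq : r ^ 2 ≡ 1 [MOD 2 ^ (l + 1)] := by
    obtain ⟨l', rfl⟩ : ∃ l', l = l' + 1 := ⟨l - 1, by omega⟩
    refine (Nat.modEq_iff_dvd' (Nat.one_le_pow _ _ (by omega))).mpr ⟨2 ^ l' - 1, ?_⟩ |>.symm
    have hr' : r = 2 ^ (l' + 1) - 1 := by omega
    have h1 : 1 ≤ 2 ^ l' := Nat.one_le_two_pow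
    subst hr'
    obtain ⟨t, ht⟩ : ∃ t, 2 ^ l' = t + 1 := ⟨2 ^ l' - 1, by omega⟩
    have e1 : 2 ^ (l' + 1) = 2 * (t + 1) := by rw [pow_succ, ht]; ring
    have e2 : 2 ^ (l' + 1 + 1) = 4 * (t + 1) := by rw [pow_succ, e1]; ring
    rw [e1, e2, ht, show 2 * (t + 1) - 1 = 2 * t + 1 by omega, Nat.add_sub_cancel]
    have : (2 * t + 1) ^ 2 = 4 * (t + 1) * t + 1 := by ring
    omega
  have hmod : r ^ (2 * g + 1) + 1 ≡ r + 1 [MOD 2 ^ (l + 1)] := by
    refine Nat.ModEq.add_right _ ?_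
    calc r ^ (2 * g + 1) = (r ^ 2) ^ g * r := by rw [pow_succ, pow_mul]
      _ ≡ 1 ^ g * r [MOD 2 ^ (l + 1)] := (hsq.pow g).mul_right r
      _ = r := by rw [one_pow, one_mul]
  rw [h, hl] at hmod
  have hkl : k' + 2 = l := by
    by_contra hne
    have hge : l ≤ k' + 2 := (Nat.pow_dvd_pow_iff_le_right (by norm_num : 1 < 2)).mp (hl ▸ hdvd)
    have h0 : 2 ^ (k' + 2) ≡ 0 [MOD 2 ^ (l + 1)] :=
      Nat.modEq_zero_iff_dvd.mpr (pow_dvd_pow 2 (show l + 1 ≤ k' + 2 by omega))
    have h2 := Nat.modEq_zero_iff_dvd.mp (hmod.symm.trans h0)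
    have := (Nat.pow_dvd_pow_iff_le_right (by norm_num : 1 < 2)).mp h2
    omega
  rw [hkl, ← hl] at h
  exact (Nat.pow_eq_self_iff (show 1 < r by omega)).mp (by omega)

variable {K : Type v} [Field K] [CharP K 2] {W : Type w} [AddCommGroup W] [Module K W]

theorem sum_range_mul' {M : Type*} [AddCommMonoid M] (f : ℕ → M) (L N : ℕ) :
    ∑ t ∈ Finset.range (L * N), f t =
      ∑ l ∈ Finset.range N, ∑ j ∈ Finset.range L, f (L * l + j) := by
  induction N with
  | zero => simp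
  | succ N ih => rw [Nat.mul_succ, Finset.sum_range_add, ih, Finset.sum_range_succ]

omit [CharP K 2] in
/-- A deficient twist moves eigenvalue systems in short orbits, deficiently. -/
theorem exists_period {A : Type u} {F : A → Module.End K W} {θ : A ≃ A} {s : Module.End K W}
    (hs : ∀ a, s * F a = F (θ a) * s) (m : ℕ) (hθ : ∀ a, (⇑θ)^[2 ^ (m + 1)] a = a)
    (hdef : ∑ i ∈ Finset.range (2 ^ (m + 1)), s ^ i = 0) {μ : A → K} {v : W} (h : Eig F μ v)
    (hv : v ≠ 0) :
    ∃ i ≤ m, (tw θ)^[2 ^ i] μ = μ ∧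
      ∀ x, Eig F μ x → ∑ l ∈ Finset.range (2 ^ (m + 1 - i)), ((s ^ 2 ^ i) ^ l) x = 0 := by
  have hP : Function.IsPeriodicPt (tw θ) (2 ^ (m + 1)) μ := tw_iterate_of_period hθ μ
  obtain ⟨i, hi, hiL⟩ := (Nat.dvd_prime_pow Nat.prime_two).mp hP.minimalPeriod_dvd
  have hfix : (tw θ)^[2 ^ i] μ = μ := hiL ▸ Function.isPeriodicPt_minimalPeriod (tw θ) μ
  have key : ∀ x, Eig F μ x →
      ∑ l ∈ Finset.range (2 ^ (m + 1 - i)), ((s ^ 2 ^ i) ^ l) x = 0 := by
    intro x hx
    let w : ℕ → W := fun j =>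
      ∑ l ∈ Finset.range (2 ^ (m + 1 - i)), (s ^ (2 ^ i * l + j)) x
    have hw : ∀ j ∈ Finset.range (2 ^ i), Eig F ((tw θ)^[j] μ) (w j) := by
      intro j _ a
      simp only [w, map_sum, Finset.smul_sum]
      refine Finset.sum_congr rfl fun l _ => ?_
      have h1 := hx.twist_pow hs (2 ^ i * l + j)
      rw [show (tw θ)^[2 ^ i * l + j] μ = (tw θ)^[j] μ by
        rw [add_comm, Function.iterate_add_apply,
          ((show Function.IsPeriodicPt (tw θ) (2 ^ i) μ from hfix).mul_const l).eq]] at h1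
      exact h1 a
    have hsum : ∑ j ∈ Finset.range (2 ^ i), w j = 0 := by
      simp only [w]
      rw [Finset.sum_comm, ← sum_range_mul' (fun t => (s ^ t) x) (2 ^ i),
        ← pow_add, show i + (m + 1 - i) = m + 1 by omega, ← LinearMap.sum_apply, hdef,
        LinearMap.zero_apply]
    have hinj : Set.InjOn (fun j => (tw θ)^[j] μ) ↑(Finset.range (2 ^ i)) := by
      rw [Finset.coe_range, ← hiL]
      exact Function.iterate_injOn_Iio_minimalPeriod
    have h0 := eig_indep F (fun j => (tw θ)^[j] μ) _ hinj w hw hsum 0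
      (Finset.mem_range.mpr (by positivity))
    simpa [w, ← pow_mul] using h0
  refine ⟨i, ?_, hfix, key⟩
  by_contra him
  have h0 := key v h
  rw [show m + 1 - i = 0 by omega, pow_zero, Finset.sum_range_one, pow_zero,
    Module.End.one_apply] at h0
  exact hv h0

omit [CharP K 2] in
/-- Eigenvalue systems are fixed by the involution of a deficient twist. -/
theorem eig_fix {A : Type u} [Group A] {F : A → Module.End K W} (θ : MulAut A) {s : Module.End K W}
    (hs : ∀ a, s * F a = F (θ a) * s) (m : ℕ) (hθ : θ ^ 2 ^ (m + 1) = 1)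
    (hdef : ∑ i ∈ Finset.range (2 ^ (m + 1)), s ^ i = 0) {μ : A → K} {v : W} (h : Eig F μ v)
    (hv : v ≠ 0) (a : A) : μ ((θ ^ 2 ^ m) a) = μ a := by
  obtain ⟨i, hi, hfix, -⟩ := exists_period (θ := θ.toEquiv) hs m
    (fun x => by show (⇑θ)^[_] x = x; rw [aut_iterate, hθ]; rfl) hdef h hv
  have hp : (tw θ.toEquiv)^[2 ^ m] μ = μ :=
    (show Function.IsPeriodicPt (tw θ.toEquiv) (2 ^ i) μ from hfix).trans_dvd (pow_dvd_pow 2 hi)
  have h1 := tw_iterate_apply θ.toEquiv (2 ^ m) μ a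
  rw [hp] at h1
  rw [← aut_iterate]
  exact h1

theorem natCast_ne_zero_of_odd {n : ℕ} (hn : Odd n) : (n : K) ≠ 0 := by
  rw [Ne, CharP.cast_eq_zero_iff K 2, ← even_iff_two_dvd, Nat.not_even_iff_odd]
  exact hn

/-- The involution of a deficient twist centralises abelian images of odd order. -/
theorem abelian_fix [IsAlgClosed K] [FiniteDimensional K W] {A : Type u} [Group A] [Finite A]
    (F : A →* Module.End K W) (hcomm : ∀ a b, Commute (F a) (F b)) (hodd : Odd (Nat.card A))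
    (θ : MulAut A) {s : Module.End K W} (hs : ∀ a, s * F a = F (θ a) * s) (m : ℕ)
    (hθ : θ ^ 2 ^ (m + 1) = 1) (hdef : ∑ i ∈ Finset.range (2 ^ (m + 1)), s ^ i = 0) (a : A) :
    F ((θ ^ 2 ^ m) a) = F a := by
  by_contra hne
  have hb : F (a⁻¹ * (θ ^ 2 ^ m) a) ≠ 1 := fun h => hne (by
    calc F ((θ ^ 2 ^ m) a) = F a * F (a⁻¹ * (θ ^ 2 ^ m) a) := by
          rw [← map_mul, mul_inv_cancel_left]
      _ = F a := by rw [h, mul_one])
  obtain ⟨μ, v, hv, hμ, hne1⟩ :=
    exists_nontrivial_eig F hcomm _ hb _ pow_card_eq_one' (natCast_ne_zero_of_odd hodd)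
  apply hne1
  rw [eig_mul hμ hv, eig_fix θ hs m hθ hdef hμ hv, ← eig_mul hμ hv, inv_mul_cancel, eig_one hμ hv]

/-- Either the involution is trivial on the symplectic section, or it inverts a plane of it. -/
theorem plane [IsAlgClosed K] [FiniteDimensional K W] [Nontrivial W] {C : Type u} [Group C]
    [Finite C] {r : ℕ} (hr : r.Prime) (hr2 : r ≠ 2) (hC : IsPGroup r C) (θ : MulAut C)
    (ρ : C →* Module.End K W) (s : Module.End K W) (hs : ∀ a, s * ρ a = ρ (θ a) * s) (m : ℕ)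
    (hθ : θ ^ 2 ^ (m + 1) = 1) (hs1 : s ^ 2 ^ (m + 1) = 1)
    (hdef : ∑ i ∈ Finset.range (2 ^ (m + 1)), s ^ i = 0)
    (hscal : ∀ x y : C, ∃ c : K, ρ ⁅x, y⁆ = c • (1 : Module.End K W))
    (hθcom : ∀ x y : C, ρ (θ ⁅x, y⁆) = ρ ⁅x, y⁆) :
    (∀ x, x⁻¹ * (θ ^ 2 ^ m) x ∈ radical ρ) ∨
      ∃ (j k f : ℕ) (R₂ : Subgroup C), 2 ≤ k ∧ r ^ f + 1 = 2 ^ k ∧
        j + (k - 1) = m ∧
        (∀ x, x ∈ R₂ ↔ x * (θ ^ 2 ^ m) x ∈ radical ρ) ∧
        (radical ρ).relIndex R₂ = (r ^ f) ^ 2 := by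
  classical
  rw [or_iff_not_imp_left]
  intro hmove
  push Not at hmove
  haveI := Fact.mk hr
  set M := radical ρ with hM
  set τ := θ ^ 2 ^ m with hτ
  have hττ : ∀ x, τ (τ x) = x := fun x => by
    rw [← MulAut.mul_apply, hτ, ← pow_add, ← two_mul, ← pow_succ', hθ]; rfl
  -- the pairing
  choose c hc using hscal
  have hscalar : ∀ x y a, ρ a * ρ ⁅x, y⁆ = ρ ⁅x, y⁆ * ρ a := fun x y a => by
    rw [hc, mul_smul_comm, smul_mul_assoc, mul_one, one_mul]
  have hcomM : ∀ x y, ⁅x, y⁆ ∈ M := fun x y => mem_radical.mpr (hscalar x y)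
  haveI hMn : M.Normal := ⟨fun x hx g => by
    rw [show g * x * g⁻¹ = ⁅g, x⁆ * x by rw [commutatorElement_def]; group]
    exact mul_mem (hcomM g x) hx⟩
  have hne1 : (1 : Module.End K W) ≠ 0 := one_ne_zero
  have hceq : ∀ {a : K} {x y : C}, ρ ⁅x, y⁆ = a • (1 : Module.End K W) → c x y = a :=
    fun h => smul_left_injective K hne1 ((hc _ _).symm.trans h)
  have hcl : ∀ x x' y : C, c (x * x') y = c x y * c x' y := fun x x' y => hceq (by
    rw [show ⁅x * x', y⁆ = x * ⁅x', y⁆ * x⁻¹ * ⁅x, y⁆ by simp only [commutatorElement_def]; group,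
      map_mul, map_mul, map_mul, hscalar, mul_assoc (ρ ⁅x', y⁆), ← map_mul, mul_inv_cancel,
      map_one, mul_one, hc, hc, smul_mul_assoc, one_mul, smul_smul, mul_comm])
  have hcM : ∀ x : C, x ∈ M ↔ ∀ y, c x y = 1 := fun x => by
    rw [hM, mem_radical]
    refine forall_congr' fun y => ⟨fun h => hceq ?_, fun h => ?_⟩
    · rw [map_commutator_eq_one h.symm, one_smul]
    · exact (commute_of_map_commutator (by rw [hc, h, one_smul])).symm
  have hcinv : ∀ x y : C, c y x * c x y = 1 := fun x y => by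
    apply smul_left_injective K hne1
    show (c y x * c x y) • (1 : Module.End K W) = (1 : K) • 1
    rw [← smul_smul, ← hc x y, ← one_mul (ρ ⁅x, y⁆), ← smul_mul_assoc, ← hc y x, ← map_mul,
      ← commutatorElement_inv x y, inv_mul_cancel, map_one, one_smul]
  have hcr : ∀ x y : C, x * x ∈ M ∨ c x y ^ 2 = 1 → c x y = 1 := by
    intro x y h
    have h2 : c x y ^ 2 = 1 := h.elim (fun h => by rw [sq, ← hcl, (hcM _).mp h y]) id
    obtain ⟨n, hn⟩ := hC x
    have hk : ∀ l : ℕ, c (x ^ l) y = c x y ^ l := by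
      intro l
      induction l with
      | zero =>
        rw [pow_zero, pow_zero]
        exact hceq (by rw [commutatorElement_one_left, map_one, one_smul])
      | succ l ih => rw [pow_succ, hcl, ih, pow_succ]
    have h3 : c x y ^ r ^ n = 1 := by
      rw [← hk, hn]
      exact hceq (by rw [commutatorElement_one_left, map_one, one_smul])
    obtain ⟨t, ht⟩ := (hr.odd_of_ne_two hr2).pow (n := n)
    rwa [ht, pow_succ, pow_mul, h2, one_pow, one_mul] at h3
  have hMsq : ∀ x, x * x ∈ M → x ∈ M := fun x h => (hcM x).mpr fun y => hcr x y (Or.inl h)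
  have hθM : ∀ x ∈ M, θ x ∈ M := by
    intro x hx
    rw [hM, mem_radical] at hx ⊢
    intro y
    obtain ⟨y', rfl⟩ := θ.surjective y
    have hu : IsUnit s := IsUnit.of_pow_eq_one hs1 (by positivity)
    refine hu.mul_right_cancel ?_
    calc ρ (θ y') * ρ (θ x) * s = s * (ρ y' * ρ x) := by
          rw [mul_assoc, ← hs, ← mul_assoc, ← hs, mul_assoc]
      _ = s * (ρ x * ρ y') := by rw [hx]
      _ = ρ (θ x) * ρ (θ y') * s := by rw [← mul_assoc, hs, mul_assoc, hs, ← mul_assoc]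
  have hpowM : ∀ l : ℕ, ∀ x ∈ M, (θ ^ l) x ∈ M := fun l => by
    induction l with
    | zero => exact fun x hx => hx
    | succ l ih => exact fun x hx => by rw [pow_succ, MulAut.mul_apply]; exact ih _ (hθM x hx)
  have hcτ : ∀ x y, c (τ x) (τ y) = c x y := by
    have h1 : ∀ l x y, c ((θ ^ l) x) ((θ ^ l) y) = c x y := by
      intro l
      induction l with
      | zero => intro x y; rfl
      | succ l ih =>
        intro x y
        rw [pow_succ', MulAut.mul_apply, MulAut.mul_apply]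
        rw [← ih x y]
        exact hceq (by rw [← map_commutatorElement, hθcom, hc])
    exact h1 _
  -- the moved part
  have hcomq : ∀ a b : C ⧸ M, a * b = b * a := by
    intro a b
    obtain ⟨x, rfl⟩ := QuotientGroup.mk_surjective a
    obtain ⟨y, rfl⟩ := QuotientGroup.mk_surjective b
    rw [← QuotientGroup.mk_mul, ← QuotientGroup.mk_mul, QuotientGroup.eq,
      show (x * y)⁻¹ * (y * x) = ⁅y⁻¹, x⁻¹⁆ by rw [commutatorElement_def]; group]
    exact hcomM _ _
  let π : C →* C ⧸ M :=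
    { toFun := fun x => (x : C ⧸ M) * ((τ x : C) : C ⧸ M)
      map_one' := by simp
      map_mul' := fun x y => by
        rw [map_mul, QuotientGroup.mk_mul, QuotientGroup.mk_mul, mul_assoc (x : C ⧸ M),
          ← mul_assoc (y : C ⧸ M), hcomq (y : C ⧸ M) ((τ x : C) : C ⧸ M)]
        simp only [mul_assoc] }
  set R₂ := π.ker with hR₂
  have hR₂mem : ∀ x, x ∈ R₂ ↔ x * τ x ∈ M := fun x => by
    rw [hR₂, MonoidHom.mem_ker, ← QuotientGroup.eq_one_iff, QuotientGroup.mk_mul]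
    rfl
  have hMR₂ : M ≤ R₂ := fun x hx => (hR₂mem x).mpr (mul_mem hx (hpowM _ x hx))
  have hθR₂ : ∀ l : ℕ, ∀ x ∈ R₂, (θ ^ l) x ∈ R₂ := fun l x hx => by
    rw [hR₂mem] at hx ⊢
    rw [← MulAut.mul_apply, hτ, ← pow_add, add_comm, pow_add, MulAut.mul_apply, ← map_mul]
    exact hpowM l _ hx
  -- an eigenspace of the radical
  obtain ⟨β, v, -, hv, hβ⟩ := exists_eig_mem (fun c : M => ρ c)
    (fun a b => (mem_radical.mp b.2 a).trans rfl) ⊤ top_ne_bot (fun _ _ _ => trivial)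
  have hθMi : ∀ x, θ x ∈ M ↔ x ∈ M := fun x => ⟨fun h => by
    have h1 := hpowM (2 ^ (m + 1) - 1) _ h
    rwa [← MulAut.mul_apply, ← pow_succ, Nat.sub_add_cancel Nat.one_le_two_pow, hθ] at h1,
    hθM x⟩
  let θM : M ≃ M := θ.toEquiv.subtypeEquiv fun x => (hθMi x).symm
  have hθMit : ∀ (l : ℕ) (x : M), (((⇑θM)^[l] x : M) : C) = (θ ^ l) x := by
    intro l
    induction l with
    | zero => intro x; rfl
    | succ l ih =>
      intro x
      rw [Function.iterate_succ_apply', pow_succ', MulAut.mul_apply, ← ih]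
      rfl
  obtain ⟨i, him, hfix, hdefβ⟩ := exists_period (F := fun c : M => ρ c) (θ := θM)
    (fun a => hs a) m (fun a => Subtype.ext (by rw [hθMit, hθ]; rfl)) hdef hβ hv
  let U := eigSpace (fun c : M => ρ c) β
  haveI : Nontrivial U := Submodule.nontrivial_iff_ne_bot.mpr
    (Submodule.ne_bot_iff _ |>.mpr ⟨v, mem_eigSpace.mpr hβ, hv⟩)
  have hUinv : ∀ a : R₂, ∀ x ∈ U, ρ a x ∈ U := by
    intro a x hx
    rw [mem_eigSpace] at hx ⊢
    intro b
    show ρ (b : C) (ρ (a : C) x) = β b • ρ (a : C) x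
    rw [← Module.End.mul_apply, ← mem_radical.mp b.2 (a : C), Module.End.mul_apply, hx b,
      map_smul]
  have hUs : ∀ x ∈ U, (s ^ 2 ^ i) x ∈ U := by
    intro x hx
    rw [mem_eigSpace] at hx ⊢
    have h1 := hx.twist_pow (θ := θM) (fun a => hs a) (2 ^ i)
    rwa [hfix] at h1
  let ρU : R₂ →* Module.End K U := subRep (ρ.comp R₂.subtype) U hUinv
  let sU : Module.End K U := (s ^ 2 ^ i).restrict hUs
  have hsU : ∀ (l : ℕ) (x : U), ((sU ^ l) x : W) = ((s ^ 2 ^ i) ^ l) x := by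
    intro l
    induction l with
    | zero => intro x; rfl
    | succ l ih =>
      intro x
      rw [pow_succ', pow_succ', Module.End.mul_apply, Module.End.mul_apply, ← ih]
      rfl
  let θU : MulAut R₂ :=
    { toFun := fun x => ⟨(θ ^ 2 ^ i) x, hθR₂ _ x x.2⟩
      invFun := fun x => ⟨(θ ^ (2 ^ (m + 1) - 2 ^ i)) x, hθR₂ _ x x.2⟩
      left_inv := fun x => Subtype.ext (by
        show (θ ^ (2 ^ (m + 1) - 2 ^ i)) ((θ ^ 2 ^ i) (x : C)) = x
        rw [← MulAut.mul_apply, ← pow_add,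
          Nat.sub_add_cancel (Nat.pow_le_pow_right two_pos (by omega)), hθ]
        rfl)
      right_inv := fun x => Subtype.ext (by
        show (θ ^ 2 ^ i) ((θ ^ (2 ^ (m + 1) - 2 ^ i)) (x : C)) = x
        rw [← MulAut.mul_apply, ← pow_add,
          Nat.add_sub_cancel' (Nat.pow_le_pow_right two_pos (by omega)), hθ]
        rfl)
      map_mul' := fun a b => Subtype.ext (map_mul _ _ _) }
  have hθU : ∀ (l : ℕ) (x : R₂), (((θU ^ l) x : R₂) : C) = ((θ ^ 2 ^ i) ^ l) x := by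
    intro l
    induction l with
    | zero => intro x; rfl
    | succ l ih =>
      intro x
      rw [pow_succ', pow_succ', MulAut.mul_apply, MulAut.mul_apply, ← ih]
      rfl
  set M₂ := M.subgroupOf R₂ with hM₂
  have hscalU : ∀ x : R₂, (x : C) ∈ M → ∃ e : K, (∀ y : U, ρ x (y : W) = e • (y : W)) ∧
      ρU x = e • (1 : Module.End K U) := fun x hx =>
    ⟨β ⟨x, hx⟩, fun y => mem_eigSpace.mp y.2 ⟨(x : C), hx⟩,
      LinearMap.ext fun y => Subtype.ext (mem_eigSpace.mp y.2 ⟨(x : C), hx⟩)⟩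
  have hnd : ∀ w : R₂, (∀ y : R₂, ρU ⁅y, w⁆ = 1) → w ∈ M₂ := by
    intro w hw
    have hwR : ∀ y ∈ R₂, c y (w : C) = 1 := by
      intro y hy
      obtain ⟨x, hx⟩ := exists_ne (0 : U)
      have h1 : ρ ⁅y, (w : C)⁆ (x : W) = (x : W) :=
        congrArg Subtype.val (LinearMap.congr_fun (hw ⟨y, hy⟩) x)
      rw [hc, LinearMap.smul_apply, Module.End.one_apply] at h1
      exact smul_left_injective K (fun h0 => hx (Subtype.ext h0))
        (h1.trans (one_smul K (x : W)).symm)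
    have hwR' : ∀ y ∈ R₂, c (w : C) y = 1 := fun y hy => by
      simpa [hwR y hy] using hcinv y (w : C)
    rw [hM₂, Subgroup.mem_subgroupOf]
    refine (hcM _).mpr fun x => ?_
    have h1 : c (x * τ x) w = 1 := by
      refine hcr _ _ (Or.inr ?_)
      have hw1 : c (x * τ x) (w : C) = c (τ (x * τ x)) (τ w) := (hcτ _ _).symm
      have hw2 : c (τ (x * τ x)) ((w : C) * τ w) = 1 := by
        have := hcinv ((w : C) * τ w) (τ (x * τ x))
        rwa [(hcM _).mp ((hR₂mem _).mp w.2), mul_one] at this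
      have hfl : c (τ (x * τ x)) (w : C) = c (x * τ x) w := by
        rw [map_mul τ x, hττ, hcl, hcl, mul_comm]
      have hcr2 : c (τ (x * τ x)) ((w : C) * τ w) =
          c (τ (x * τ x)) w * c (τ (x * τ x)) (τ w) := by
        have e1 := hcinv ((w : C) * τ w) (τ (x * τ x))
        have e2 := hcinv (w : C) (τ (x * τ x))
        have e3 := hcinv (τ w) (τ (x * τ x))
        rw [hcl] at e1
        calc c (τ (x * τ x)) ((w : C) * τ w)
            = c (τ (x * τ x)) ((w : C) * τ w) * ((c (τ (x * τ x)) w * c w (τ (x * τ x))) *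
              (c (τ (x * τ x)) (τ w) * c (τ w) (τ (x * τ x)))) := by rw [e2, e3, mul_one, mul_one]
          _ = c (τ (x * τ x)) ((w : C) * τ w) * (c w (τ (x * τ x)) * c (τ w) (τ (x * τ x))) *
              (c (τ (x * τ x)) w * c (τ (x * τ x)) (τ w)) := by ring
          _ = _ := by rw [e1, one_mul]
      rw [sq]
      calc c (x * τ x) w * c (x * τ x) w = c (τ (x * τ x)) w * c (τ (x * τ x)) (τ w) := by
            rw [hfl, ← hw1]
        _ = 1 := by rw [← hcr2, hw2]
    have h2 : c (x * (τ x)⁻¹) w = 1 := by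
      refine hwR _ ((hR₂mem _).mpr ?_)
      rw [map_mul, map_inv, hττ, show x * (τ x)⁻¹ * (τ x * x⁻¹) = 1 by group]
      exact one_mem _
    have h3 : c (x * x) w = 1 := by
      have h4 : c (x * x) w * c ((τ x) * (τ x)⁻¹) w = c (x * τ x) w * c (x * (τ x)⁻¹) w := by
        simp only [hcl]; ring
      rw [h1, h2, mul_one, mul_inv_cancel] at h4
      rwa [show c 1 (w : C) = 1 from hceq (by rw [commutatorElement_one_left, map_one, one_smul]),
        mul_one] at h4
    have h5 : c x w = 1 := hcr _ _ (Or.inr (by rw [sq, ← hcl, h3]))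
    simpa [h5] using hcinv x (w : C)
  have hn1 : 1 ≤ m + 1 - i := by omega
  have hτU : ∀ x : R₂, (((θU ^ 2 ^ (m - i)) x : R₂) : C) = τ x := fun x => by
    rw [hθU, ← pow_mul, ← pow_add, show i + (m - i) = m by omega]
  have hM₂top : M₂ ≠ ⊤ := by
    obtain ⟨x, hx⟩ := hmove
    intro h
    have hd : x⁻¹ * τ x ∈ R₂ := by
      rw [hR₂mem, map_mul, map_inv, hττ, show x⁻¹ * τ x * ((τ x)⁻¹ * x) = 1 by group]
      exact one_mem _
    exact hx (Subgroup.subgroupOf_eq_top.mp h hd)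
  have hdefU : ∑ l ∈ Finset.range (2 ^ (m + 1 - i)), sU ^ l = 0 := by
    refine LinearMap.ext fun x => Subtype.ext ?_
    rw [LinearMap.sum_apply, Submodule.coe_sum]
    simp only [hsU]
    exact hdefβ x (mem_eigSpace.mp x.2)
  have hcommU : ∀ a, sU * ρU a = ρU (θU a) * sU := fun a =>
    LinearMap.ext fun x => Subtype.ext (by
      show (s ^ 2 ^ i) (ρ (a : C) x) = ρ ((θ ^ 2 ^ i) (a : C)) ((s ^ 2 ^ i) x)
      rw [← Module.End.mul_apply, pow_intertwine hs, Module.End.mul_apply])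
  have hθρU : ∀ x ∈ M₂, ρU (θU x) = ρU x := by
    intro x hx
    refine LinearMap.ext fun y => Subtype.ext ?_
    show ρ ((θ ^ 2 ^ i) (x : C)) (y : W) = ρ (x : C) (y : W)
    have e1 := mem_eigSpace.mp y.2 ⟨(θ ^ 2 ^ i) (x : C), hpowM _ _ hx⟩
    have e2 := mem_eigSpace.mp y.2 ⟨(x : C), hx⟩
    refine e1.trans (Eq.trans ?_ e2.symm)
    congr 1
    have h1 := tw_iterate_apply θM (2 ^ i) β ⟨(x : C), hx⟩
    rw [hfix] at h1
    rw [← h1]
    congr 1
    exact Subtype.ext (hθMit (2 ^ i) ⟨(x : C), hx⟩).symm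
  have hn2 : 2 < 2 ^ (m + 1 - i) := by
    by_contra hle
    have hi : i = m := by
      by_contra hne
      exact hle (lt_of_lt_of_le (by norm_num : 2 < 2 ^ 2) (Nat.pow_le_pow_right two_pos (by omega)))
    subst hi
    apply hM₂top
    rw [eq_top_iff]
    intro x _
    rw [show i + 1 - i = 1 by omega, pow_one, Finset.sum_range_succ, Finset.sum_range_one,
      pow_zero, pow_one] at hdefU
    have hsU1 : sU = 1 := by
      haveI : CharP (Module.End K U) 2 := charP_of_injective_algebraMap' K 2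
      rw [← CharTwo.add_eq_zero, add_comm]
      exact hdefU
    refine hnd x fun y => ?_
    have h1 := hcommU x
    rw [hsU1, one_mul, mul_one] at h1
    have h2 : ((θU x : R₂) : C) = τ x := rfl
    have hxx : ((x * θU x : R₂) : C) ∈ M := by
      rw [Subgroup.coe_mul, h2]
      exact (hR₂mem _).mp x.2
    obtain ⟨e, -, he⟩ := hscalU _ hxx
    rw [map_mul, ← h1] at he
    obtain ⟨v', hv'⟩ := exists_ne (0 : U)
    have h4 : ρU ⁅y, x * x⁆ = 1 := by
      refine map_commutator_eq_one ?_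
      rw [map_mul, he, mul_smul_comm, smul_mul_assoc, mul_one, one_mul]
    have h5 : c (y : C) ((x : C) * (x : C)) = 1 := by
      have h6 : ρ ⁅(y : C), (x : C) * (x : C)⁆ (v' : W) = (v' : W) :=
        congrArg Subtype.val (LinearMap.congr_fun h4 v')
      rw [hc, LinearMap.smul_apply, Module.End.one_apply] at h6
      exact smul_left_injective K (fun h0 => hv' (Subtype.ext h0))
        (h6.trans (one_smul K (v' : W)).symm)
    have h7 : c (x : C) (y : C) = 1 := by
      refine hcr _ _ (Or.inr ?_)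
      rw [sq, ← hcl]
      simpa [h5] using hcinv ((x : C) * x) (y : C)
    have h8 : c (y : C) (x : C) = 1 := by simpa [h7] using hcinv (x : C) (y : C)
    refine LinearMap.ext fun z => Subtype.ext ?_
    show ρ ⁅(y : C), (x : C)⁆ (z : W) = (z : W)
    rw [hc, h8, one_smul]; rfl
  have hindex : M₂.index = (2 ^ (m + 1 - i) - 1) ^ 2 := by
    have hCc : ∀ n : ℕ, n ∣ Nat.card C → (n : K) ≠ 0 := fun n hn => by
      obtain ⟨t, ht⟩ := hC.exists_card_eq
      exact natCast_ne_zero_of_odd ((((hr.odd_of_ne_two hr2).pow (n := t))).of_dvd_nat (ht ▸ hn))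
    refine norm_bound (p := 2) (n := m + 1 - i) rfl hn2 M₂ hM₂top
      (hCc _ ((M₂.index_dvd_card).trans (Subgroup.card_subgroup_dvd_card R₂))) θU ?_ ?_ ?_ ρU
      (fun x hx => (hscalU x hx).imp fun e he => he.2) hθρU (fun x y => hcomM _ _) hnd sU
      ?_ ?_ hcommU
    · refine MulEquiv.ext fun x => Subtype.ext ?_
      rw [hθU, ← pow_mul, ← pow_add, show i + (m + 1 - i) = m + 1 by omega, hθ]
      rfl
    · exact fun x hx => hpowM _ _ hx
    · intro k hk hkP x hx
      rw [hM₂, Subgroup.mem_subgroupOf]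
      let q : Equiv.Perm (C ⧸ M) := (quotAut θ M hθM).toEquiv
      have hq : ∀ l : ℕ, (⇑q)^[l] ((x : C) : C ⧸ M) = (((θ ^ l) (x : C) : C) : C ⧸ M) := fun l => by
        show (⇑(quotAut θ M hθM))^[l] _ = _
        rw [aut_iterate, quotAut_pow_mk]
      have hk' : Function.IsPeriodicPt q (2 ^ i * k) ((x : C) : C ⧸ M) := by
        show (⇑q)^[2 ^ i * k] _ = _
        rw [hq, pow_mul]
        refine (QuotientGroup.eq.mpr ?_).symm
        rw [← hθU]
        exact hx
      have hP' : Function.IsPeriodicPt q (2 ^ (m + 1)) ((x : C) : C ⧸ M) := by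
        show (⇑q)^[2 ^ (m + 1)] _ = _
        rw [hq, hθ]; rfl
      obtain ⟨a, -, haL⟩ := (Nat.dvd_prime_pow Nat.prime_two).mp hP'.minimalPeriod_dvd
      have ham : a ≤ m := by
        by_contra hgt
        have h1 := hk'.minimalPeriod_dvd
        rw [haL] at h1
        have h2 : 2 ^ (m + 1) ≤ 2 ^ a := Nat.pow_le_pow_right two_pos (by omega)
        have h3 : 2 ^ i * k < 2 ^ (m + 1) := by
          calc 2 ^ i * k < 2 ^ i * 2 ^ (m + 1 - i) := (Nat.mul_lt_mul_left (by positivity)).mpr hkP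
            _ = 2 ^ (m + 1) := by rw [← pow_add, show i + (m + 1 - i) = m + 1 by omega]
        have h4 := Nat.le_of_dvd (by positivity) h1
        omega
      have hτx : (⇑q)^[2 ^ m] ((x : C) : C ⧸ M) = ((x : C) : C ⧸ M) :=
        (Function.isPeriodicPt_minimalPeriod _ _).trans_dvd (haL ▸ pow_dvd_pow 2 ham)
      rw [hq] at hτx
      refine hMsq _ ?_
      have h5 : (x : C)⁻¹ * τ x ∈ M := QuotientGroup.eq.mp hτx.symm
      have h6 := mul_mem ((hR₂mem _).mp x.2) (inv_mem h5)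
      rwa [show (x : C) * τ x * ((x : C)⁻¹ * τ x)⁻¹ = (x : C) * x by group] at h6
    · refine LinearMap.ext fun x => Subtype.ext ?_
      rw [hsU, ← pow_mul, ← pow_add, show i + (m + 1 - i) = m + 1 by omega, hs1]
      rfl
    · rw [← H11.HB.geom_sum_eq_sub_one_pow (K := K)]
      exact hdefU
  obtain ⟨t, ht⟩ := (hC.to_subgroup R₂).exists_card_eq
  obtain ⟨t', -, ht'⟩ := (Nat.dvd_prime_pow hr).mp (ht ▸ M₂.index_dvd_card)
  rw [ht'] at hindex
  obtain ⟨f, -, hf⟩ := (Nat.dvd_prime_pow hr).mp (hindex ▸ dvd_pow_self _ two_ne_zero :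
    2 ^ (m + 1 - i) - 1 ∣ r ^ t')
  refine ⟨i, m + 1 - i, f, R₂, ?_, by omega, ?_, hR₂mem, ?_⟩
  · by_contra hk
    rw [show m + 1 - i = 1 by omega] at hn2
    norm_num at hn2
  · omega
  · rw [Subgroup.relIndex, ← hM₂, ht', hindex, hf]

end H28.TwoLength
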