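import Cfsg.Agent.H28.TwoLength.Coprime
import Cfsg.Agent.H28.ShultGross.Eigen

/-!
Basic linear algebra over a prime field with an element squaring to a fixed-point free involution.
-/

set_option autoImplicit false
set_option linter.style.haveILetI false

namespace H28.TwoLength

open Module
open scoped commutatorElement LinearAlgebra.Projectivization

universe u v w

variable {r : ℕ} [Fact r.Prime] {X : Type v} [AddCommGroup X] [Module (ZMod r) X]

theorem two_ne_zero' (hr2 : r ≠ 2) : (2 : ZMod r) ≠ 0 := fun h => hr2 (by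
  have h' : ((2 : ℕ) : ZMod r) = 0 := by exact_mod_cast h
  rw [CharP.cast_eq_zero_iff (ZMod r) r] at h'
  exact (Nat.prime_dvd_prime_iff_eq Fact.out Nat.prime_two).mp h')

theorem neg_one_no_sqrt {k : ℕ} (hk : 2 ≤ k) (hrk : r + 1 = 2 ^ k) (d : ZMod r) :
    d * d ≠ -1 := by
  intro h
  obtain ⟨k', rfl⟩ : ∃ k', k = k' + 2 := ⟨k - 2, by omega⟩
  have h2 : r % 4 = 3 := by
    have : 2 ^ (k' + 2) = 4 * 2 ^ k' := by ring
    omega
  exact ZMod.exists_sq_eq_neg_one_iff.mp ⟨d, h.symm⟩ h2

/-- Lines are moved by every proper power of an element with `U ^ 2 ^ (k-1) = -1`. -/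
theorem no_eigen {k : ℕ} (hk : 2 ≤ k) (hrk : r + 1 = 2 ^ k) (U : Module.End (ZMod r) X) {v : X}
    (hv : v ≠ 0) (hU : (U ^ 2 ^ (k - 1)) v = -v) (c : ZMod r) :
    (U ^ 2 ^ (k - 2)) v ≠ c • v := by
  intro h
  obtain ⟨k', rfl⟩ : ∃ k', k = k' + 2 := ⟨k - 2, by omega⟩
  rw [show k' + 2 - 1 = k' + 1 by omega, pow_succ, pow_mul, sq, Module.End.mul_apply] at hU
  rw [show k' + 2 - 2 = k' by omega] at h
  rw [h, map_smul, h, smul_smul] at hU
  refine neg_one_no_sqrt hk hrk c (smul_left_injective (ZMod r) hv ?_)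
  show (c * c) • v = (-1 : ZMod r) • v
  rw [neg_one_smul, hU]

theorem no_eigen' {k : ℕ} (hk : 2 ≤ k) (hrk : r + 1 = 2 ^ k) (U : Module.End (ZMod r) X) {v : X}
    (hv : v ≠ 0) (hU : (U ^ 2 ^ (k - 1)) v = -v) (c : ZMod r) : U v ≠ c • v := by
  intro h
  refine no_eigen hk hrk U hv hU (c ^ 2 ^ (k - 2)) ?_
  generalize 2 ^ (k - 2) = n
  induction n with
  | zero => simp
  | succ n ih => rw [pow_succ, Module.End.mul_apply, h, map_smul, ih, smul_smul, pow_succ']

/-- An endomorphism fixed by the Frobenius power has an eigenvalue on each invariant subspace. -/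
theorem exists_eigen [Finite X] (f : Module.End (ZMod r) X) (hf : f ^ r = f)
    (S : Submodule (ZMod r) X) (hS : S ≠ ⊥) (hinv : ∀ x ∈ S, f x ∈ S) :
    ∃ c : ZMod r, ∃ x ∈ S, x ≠ 0 ∧ f x = c • x := by
  by_contra hcon
  push Not at hcon
  let P : Polynomial (ZMod r) := Polynomial.X ^ r - Polynomial.X
  have hr1 : 1 < r := (Fact.out : r.Prime).one_lt
  have hm : P.Monic := Polynomial.monic_X_pow_sub (by
    rw [Polynomial.degree_X]; exact_mod_cast hr1)
  have hroots : P.roots = (Finset.univ : Finset (ZMod r)).val := by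
    have := FiniteField.roots_X_pow_card_sub_X (ZMod r)
    rwa [ZMod.card] at this
  have hprod := Polynomial.prod_multiset_X_sub_C_of_monic_of_roots_card_eq hm (by
    rw [hroots, ← Finset.card_def, Finset.card_univ, ZMod.card,
      FiniteField.X_pow_card_sub_X_natDegree_eq _ hr1])
  rw [hroots] at hprod
  have hev : Polynomial.aeval f P = 0 := by simp [P, hf]
  obtain ⟨x, hxS, hx⟩ := (Submodule.ne_bot_iff S).mp hS
  suffices H : ∀ m : Multiset (ZMod r), (∀ y ∈ S, Polynomial.aeval f
      (m.map fun a => Polynomial.X - Polynomial.C a).prod y ∈ S) ∧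
      Polynomial.aeval f (m.map fun a => Polynomial.X - Polynomial.C a).prod x ≠ 0 by
    apply (H Finset.univ.val).2
    rw [hprod, hev, LinearMap.zero_apply]
  intro m
  induction m using Multiset.induction with
  | empty => simpa using hx
  | cons a m ih =>
    simp only [Multiset.map_cons, Multiset.prod_cons, map_mul, map_sub, Polynomial.aeval_X,
      Polynomial.aeval_C, Module.End.mul_apply, LinearMap.sub_apply, Module.algebraMap_end_apply]
    refine ⟨fun y hy => sub_mem (hinv _ (ih.1 y hy)) (S.smul_mem a (ih.1 y hy)), fun h => ?_⟩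
    exact hcon a _ (ih.1 x hxS) ih.2 (sub_eq_zero.mp h)

/-- A subspace with trivial involution is centralised by operators generated by displacements. -/
theorem trivial_of_gen {Γ : Type u} [Group Γ] (π : Γ →* Module.End (ZMod r) X) (Q : Subgroup Γ)
    (τ : Γ) (hgen : Q ≤ Subgroup.closure {x | ∃ g ∈ Q, ⁅g, τ⁆ = x})
    (R : Submodule (ZMod r) X) (hRQ : ∀ g ∈ Q, ∀ x ∈ R, π g x ∈ R)
    (hτ : ∀ x ∈ R, π τ x = x) : ∀ g ∈ Q, ∀ x ∈ R, π g x = x := by
  let S : Subgroup Γ :=
    { carrier := {g | ∀ x ∈ R, π g x = x}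
      one_mem' := fun x _ => by rw [map_one]; rfl
      mul_mem' := fun {a b} ha hb x hx => by rw [map_mul, Module.End.mul_apply, hb x hx, ha x hx]
      inv_mem' := fun {a} ha x hx => by
        conv_lhs => rw [← ha x hx]
        rw [← Module.End.mul_apply, ← map_mul, inv_mul_cancel, map_one]; rfl }
  have hle : Q ≤ S := by
    refine hgen.trans ((Subgroup.closure_le S).mpr ?_)
    rintro _ ⟨g, hg, rfl⟩ x hx
    have hy : π g⁻¹ x ∈ R := hRQ _ (inv_mem hg) x hx
    have h1 : π τ⁻¹ x = x := by
      conv_lhs => rw [← hτ x hx]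
      rw [← Module.End.mul_apply, ← map_mul, inv_mul_cancel, map_one]; rfl
    rw [commutatorElement_def, map_mul, map_mul, map_mul, Module.End.mul_apply,
      Module.End.mul_apply, Module.End.mul_apply, h1, hτ _ hy, ← Module.End.mul_apply, ← map_mul,
      mul_inv_cancel, map_one]
    rfl
  exact hle

/-- A quadratic element of order coprime to the characteristic is trivial. -/
theorem eq_one_of_quadratic {p n : ℕ} (hp : p.Prime) (hpr : p ≠ r) (f : Module.End (ZMod r) X)
    (hf : f ^ p ^ n = 1) {x : X} (hx : f (f x - x) = f x - x) : f x = x := by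
  have key : ∀ i : ℕ, (f ^ i) x = x + (i : ZMod r) • (f x - x) := by
    intro i
    induction i with
    | zero => simp
    | succ i ih =>
      rw [pow_succ', Module.End.mul_apply, ih, map_add, map_smul, hx, Nat.cast_succ, add_smul,
        one_smul]
      abel
  have h := key (p ^ n)
  rw [hf, Module.End.one_apply, left_eq_add, smul_eq_zero] at h
  refine sub_eq_zero.mp (h.resolve_left fun h0 => hpr ?_)
  rw [Nat.cast_pow, pow_eq_zero_iff'] at h0
  exact ((Nat.prime_dvd_prime_iff_eq Fact.out hp).mp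
    ((CharP.cast_eq_zero_iff (ZMod r) r p).mp h0.1)).symm

end H28.TwoLength
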