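import Cfsg.Agent.H28.TwoLength.Centralize
import Cfsg.Agent.H32.PSeries
import Cfsg.Agent.H32.Sylow
import Cfsg.Agent.H1.Fitting
import Cfsg.Agent.H10.PSolvable

/-!
Gross's bound on the `2`-length of a solvable group.
-/

set_option autoImplicit false
set_option linter.style.haveILetI false

namespace H28.TwoLength

open Cfsg
open scoped commutatorElement

universe u v w

variable {G : Type u} [Group G]

theorem MoveData.map {G' : Type v} [Group G'] [Finite G'] (f : G →* G') (hf : Function.Injective f)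
    {z τ : G} {q : ℕ} {Q Q₁ Q₀ A : Subgroup G} (D : MoveData z τ q Q Q₁ Q₀ A) :
    MoveData (f z) (f τ) q (Q.map f) (Q₁.map f) (Q₀.map f) (A.map f) := by
  have hn : ∀ (H : Subgroup G) (g : G), g ∈ Subgroup.normalizer (H : Set G) →
      f g ∈ Subgroup.normalizer ((H.map f : Subgroup G') : Set G') := fun H g hg =>
    mem_norm fun x hx => by
      obtain ⟨y, hy, rfl⟩ := hx
      exact ⟨g * y * g⁻¹, conj_mem hg hy, by rw [map_mul, map_mul, map_inv]⟩
  have hc : ∀ (H : Subgroup G) (g : G), g ∈ Subgroup.centralizer (H : Set G) →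
      f g ∈ Subgroup.centralizer ((H.map f : Subgroup G') : Set G') := fun H g hg => by
    rw [Subgroup.mem_centralizer_iff]
    rintro _ ⟨y, hy, rfl⟩
    rw [← map_mul, ← map_mul, Subgroup.mem_centralizer_iff.mp hg y hy]
  refine ⟨D.qgroup.map f, hn _ _ D.zQ, hn _ _ D.zQ₁, hn _ _ D.zQ₀, hn _ _ D.zA, ?_, ?_,
    Subgroup.map_mono D.leQ₀, Subgroup.map_mono D.leQ₁, ?_, ?_, ?_, D.twoA.map f,
    by rw [← Subgroup.map_commutator, D.comA], ?_, ?_, ?_, ?_⟩
  · rintro _ ⟨g, hg, rfl⟩; exact hn _ _ (D.QQ₀ hg)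
  · rintro _ ⟨g, hg, rfl⟩; exact hn _ _ (D.QA hg)
  · refine (Subgroup.map_mono D.gen).trans ?_
    rw [MonoidHom.map_closure]
    refine Subgroup.closure_mono ?_
    rintro _ ⟨_, ⟨g, hg, rfl⟩, rfl⟩
    exact ⟨f g, ⟨g, hg, rfl⟩, (map_commutatorElement f g τ).symm⟩
  · rintro _ ⟨x, hx, rfl⟩ _ ⟨g, hg, rfl⟩
    exact ⟨_, D.modQ₀ x hx g hg, map_commutatorElement f x g⟩
  · rintro _ ⟨g, hg, rfl⟩
    exact ⟨_, D.fixQ₁ g hg, map_commutatorElement f τ g⟩
  · intro h
    refine D.moved fun g hg => Subgroup.mem_centralizer_iff.mpr fun a ha => hf ?_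
    rw [map_mul, map_mul]
    exact Subgroup.mem_centralizer_iff.mp (h ⟨g, hg, rfl⟩) _ ⟨a, ha, rfl⟩
  · rintro _ ⟨g, hg, rfl⟩; exact hc _ _ (D.centA hg)
  · rintro _ ⟨a, ha, rfl⟩ _ ⟨b, hb, rfl⟩
    rw [← map_commutatorElement]
    exact ⟨hc _ _ (D.commA a ha b hb).1, hc _ _ (D.commA a ha b hb).2⟩
  · rintro _ ⟨a, ha, rfl⟩
    rw [← map_pow]
    exact ⟨hc _ _ (D.sqA a ha).1, hc _ _ (D.sqA a ha).2⟩

variable [Finite G]

/-- A `2`-element centralising every core of a solvable group without `2`-core is trivial. -/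
theorem eq_one_of_centralizes_cores (hG : Group.IsSolvable G) (hO : pCore 2 G = ⊥) {a : G} {n : ℕ}
    (ha : a ^ 2 ^ n = 1)
    (hc : ∀ r : ℕ, r.Prime → a ∈ Subgroup.centralizer (pCore r G : Set G)) : a = 1 := by
  haveI := hG
  haveI : (fittingSubgroup G).Normal := H1.fittingSubgroup_normal G
  set F := fittingSubgroup G
  have hle : F ≤ Subgroup.centralizer {a} := by
    rw [show F = ⨆ p : Nat.Primes, pCore (p : ℕ) G from H1.fittingSubgroup_eq_iSup_pCore]
    refine iSup_le fun p x hx => ?_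
    rw [Subgroup.mem_centralizer_iff]
    rintro _ rfl
    exact (Subgroup.mem_centralizer_iff.mp (hc _ p.2) x hx).symm
  have haC : a ∈ Subgroup.centralizer (F : Set G) := Subgroup.mem_centralizer_iff.mpr fun x hx =>
    (Subgroup.mem_centralizer_iff.mp (hle hx) a rfl).symm
  have haF : a ∈ F := H1.centralizer_fitting_le_of_isSolvable inferInstance haC
  haveI : (Subgroup.centralizer (F : Set G)).Normal := Subgroup.normal_centralizer
  let N : Subgroup G :=
    { carrier := {x | (x ∈ F ∧ x ∈ Subgroup.centralizer (F : Set G)) ∧ ∃ n, x ^ 2 ^ n = 1}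
      one_mem' := ⟨⟨one_mem _, one_mem _⟩, 0, one_pow _⟩
      mul_mem' := fun {x y} ⟨⟨hx, hxc⟩, i, hi⟩ ⟨⟨hy, hyc⟩, j, hj⟩ =>
        ⟨⟨mul_mem hx hy, mul_mem hxc hyc⟩, i + j, by
          have hcm : Commute x y := Subgroup.mem_centralizer_iff.mp hyc x hx
          rw [hcm.mul_pow, pow_add, pow_mul, hi, one_pow, one_mul, mul_comm, pow_mul, hj, one_pow]⟩
      inv_mem' := fun {x} ⟨⟨hx, hxc⟩, i, hi⟩ =>
        ⟨⟨inv_mem hx, inv_mem hxc⟩, i, by rw [inv_pow, hi, inv_one]⟩ }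
  have hNn : N.Normal := ⟨fun x ⟨⟨hx, hxc⟩, i, hi⟩ g =>
    ⟨⟨Subgroup.Normal.conj_mem inferInstance x hx g, Subgroup.Normal.conj_mem inferInstance x hxc g⟩,
      i, by rw [conj_pow, hi, mul_one, mul_inv_cancel]⟩⟩
  have hNp : IsPGroup 2 N := fun x => by
    obtain ⟨i, hi⟩ := x.2.2
    exact ⟨i, Subtype.ext hi⟩
  have h := H10.le_pCore hNn hNp (show a ∈ N from ⟨⟨haF, haC⟩, n, ha⟩)
  rwa [hO, Subgroup.mem_bot] at h

theorem exists_two_preimage {G' : Type v} [Group G'] (f : G →* G') (hf : Function.Surjective f)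
    {x : G'} {b : ℕ} (hx : x ^ 2 ^ b = 1) : ∃ (y : G) (c : ℕ), f y = x ∧ y ^ 2 ^ c = 1 := by
  obtain ⟨g, rfl⟩ := hf x
  have hker : g ^ 2 ^ b ∈ f.ker := by rw [MonoidHom.mem_ker, map_pow, hx]
  obtain ⟨c, o, ho, hord⟩ := Nat.exists_eq_two_pow_mul_odd (orderOf_pos g).ne'
  obtain ⟨o', -, hmod⟩ := Nat.exists_mul_mod_eq_of_coprime 1
    ((Nat.coprime_two_right.mpr ho).pow_right b) (pow_ne_zero b two_ne_zero)
  refine ⟨g ^ (o * o'), c, ?_, ?_⟩
  · rw [map_pow]
    have h1 : o * o' ≡ 1 [MOD orderOf (f g)] :=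
      Nat.ModEq.of_dvd (orderOf_dvd_of_pow_eq_one hx) hmod
    exact (pow_eq_pow_iff_modEq.mpr h1).trans (pow_one _)
  · rw [← pow_mul, show o * o' * 2 ^ c = 2 ^ c * o * o' by ring, ← hord, pow_mul, pow_orderOf_eq_one,
      one_pow]

omit [Finite G] in
theorem sylow_eq_top_of_isPGroup [Finite G] {p : ℕ} [Fact p.Prime] (h : IsPGroup p G)
    (P : Sylow p G) : (P : Subgroup G) = ⊤ :=
  (P.is_maximal' (h.to_subgroup ⊤) le_top).symm

theorem pCore_quotient_pPrimePCore [(pPrimePCore 2 G).Normal] :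
    pCore 2 (G ⧸ pPrimePCore 2 G) = ⊥ := by
  haveI := Fact.mk Nat.prime_two
  set N := pPrimePCore 2 G with hN
  set π := QuotientGroup.mk' N
  set π₀ := QuotientGroup.mk' (pPrimeCore 2 G)
  set Y := (pCore 2 (G ⧸ N)).comap π with hY
  haveI : Y.Normal := Subgroup.Normal.comap inferInstance π
  have hp : IsPGroup 2 (Y.map π₀) := by
    rintro ⟨_, y, hy, rfl⟩
    obtain ⟨i, hi⟩ := H10.pCore_isPGroup (G := G ⧸ N) (p := 2) ⟨π y, hy⟩
    have hi' : π₀ (y ^ 2 ^ i) ∈ pCore 2 (G ⧸ pPrimeCore 2 G) := by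
      have : y ^ 2 ^ i ∈ N := by
        rw [← QuotientGroup.eq_one_iff]
        exact (map_pow π y (2 ^ i)).trans (congrArg Subtype.val hi)
      exact this
    obtain ⟨j, hj⟩ := H10.pCore_isPGroup (G := G ⧸ pPrimeCore 2 G) (p := 2) ⟨_, hi'⟩
    refine ⟨i + j, Subtype.ext ?_⟩
    have hj' : π₀ (y ^ 2 ^ i) ^ 2 ^ j = 1 := congrArg Subtype.val hj
    rw [map_pow, ← pow_mul, ← pow_add] at hj'
    exact hj'
  have hle : Y ≤ N := fun y hy =>
    H10.le_pCore ((inferInstance : Y.Normal).map π₀ (QuotientGroup.mk'_surjective _)) hp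
      ⟨y, hy, rfl⟩
  rw [eq_bot_iff]
  intro x hx
  obtain ⟨y, rfl⟩ := QuotientGroup.mk'_surjective N x
  exact Subgroup.mem_bot.mpr ((QuotientGroup.eq_one_iff y).mpr (hle hx))

variable {K : Type v} [Field K] [CharP K 2] [IsAlgClosed K]
variable {W : Type w} [AddCommGroup W] [Module K W] [FiniteDimensional K W]

/-- The main step: the involution of a deficient `2`-element lies in `O_{2',2}`. -/
theorem pow_mem_pPrimePCore (hG : Group.IsSolvable G) (ρ : G →* Module.End K W)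
    (hρ : Function.Injective ρ) (hO : pCore 2 G = ⊥) (m : ℕ)
    (hexp : ∀ (z : G) (b : ℕ), z ^ 2 ^ b = 1 → z ^ 2 ^ (m + 1) = 1)
    (hdef : ∀ (z : G) (b : ℕ), z ^ 2 ^ b = 1 → ∑ i ∈ Finset.range (2 ^ (m + 1)), ρ z ^ i = 0)
    (z : G) (b : ℕ) (hz : z ^ 2 ^ b = 1) : z ^ 2 ^ m ∈ pPrimePCore 2 G := by
  classical
  haveI := Fact.mk Nat.prime_two
  haveI := hG
  set K₂ := pPrimePCore 2 G with hK₂
  haveI hK₂n : K₂.Normal := Subgroup.Normal.comap inferInstance _
  set R := pPrimeCore 2 G with hR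
  by_contra hτ
  set π := QuotientGroup.mk' K₂ with hπ
  -- a prime whose core is moved
  obtain ⟨q, hq, hqmove⟩ : ∃ q : ℕ, q.Prime ∧
      π (z ^ 2 ^ m) ∉ Subgroup.centralizer (pCore q (G ⧸ K₂) : Set (G ⧸ K₂)) := by
    by_contra hcon
    push Not at hcon
    refine hτ ((QuotientGroup.eq_one_iff _).mp
      (eq_one_of_centralizes_cores inferInstance pCore_quotient_pPrimePCore (n := b) ?_ hcon))
    show π (z ^ 2 ^ m) ^ 2 ^ b = 1
    rw [← map_pow, ← pow_mul, mul_comm, pow_mul, hz, one_pow, map_one]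
  haveI := Fact.mk hq
  have hq2 : q ≠ 2 := by
    rintro rfl
    apply hqmove
    rw [pCore_quotient_pPrimePCore, Subgroup.mem_centralizer_iff]
    intro x hx
    rw [Subgroup.coe_bot, Set.mem_singleton_iff] at hx
    rw [hx, one_mul, mul_one]
  set O := pCore q (G ⧸ K₂) with hO'
  -- Sylow subgroups
  obtain ⟨P, hP⟩ : ∃ P : Sylow 2 G, Subgroup.zpowers z ≤ P :=
    (IsPGroup.of_card (n := _) (Nat.card_zpowers z |>.trans
      ((Nat.dvd_prime_pow Nat.prime_two).mp (orderOf_dvd_of_pow_eq_one hz)).choose_spec.2)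
      ).exists_le_sylow
  set S₂ := (P : Subgroup G) ⊓ K₂ with hS₂
  set N₀ := Subgroup.normalizer (S₂ : Set G) with hN₀
  have hzN : z ∈ N₀ := H32.sylow_le_normalizer_inf P K₂ (hP (Subgroup.mem_zpowers z))
  have hfr : N₀ ⊔ K₂ = ⊤ := H32.frattini_inf P K₂
  have hS₂p : IsPGroup 2 S₂ := P.isPGroup'.to_le inf_le_left
  -- centralisers of `S₂` lie in `O_{2',2}`
  have hcentS : Subgroup.centralizer (S₂ : Set G) ≤ K₂ := by
    set π₀ := QuotientGroup.mk' R
    have hsol : IsPSolvable 2 (G ⧸ R) := H10.isPSolvable_of_isSolvable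
    intro g hg
    refine H10.centralizer_pCore_le hsol H10.pPrimeCore_quotient_pPrimeCore ?_
    rw [Subgroup.mem_centralizer_iff]
    intro x hx
    let f : K₂ →* pCore 2 (G ⧸ R) := (π₀.comp K₂.subtype).codRestrict _ fun k => k.2
    have hf : Function.Surjective f := fun y => by
      obtain ⟨k, hk⟩ := QuotientGroup.mk'_surjective R (y : G ⧸ R)
      exact ⟨⟨k, show π₀ k ∈ pCore 2 (G ⧸ R) from hk ▸ y.2⟩, Subtype.ext hk⟩
    have htop := sylow_eq_top_of_isPGroup H10.pCore_isPGroup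
      ((H32.sylowInf P K₂).mapSurjective hf)
    have hmem : (⟨x, hx⟩ : pCore 2 (G ⧸ R)) ∈
        (((H32.sylowInf P K₂).mapSurjective hf : Sylow 2 (pCore 2 (G ⧸ R))) :
          Subgroup (pCore 2 (G ⧸ R))) := by rw [htop]; trivial
    obtain ⟨s, hs, hsx⟩ := hmem
    have hsx' : π₀ (s : G) = x := congrArg Subtype.val hsx
    rw [← hsx', ← map_mul, ← map_mul, Subgroup.mem_centralizer_iff.mp hg (s : G) ⟨hs, s.2⟩]
  -- a Sylow subgroup of the preimage in the normaliser
  set L := (O.comap π).subgroupOf N₀ with hL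
  haveI : (O.comap π).Normal := Subgroup.Normal.comap inferInstance π
  haveI : L.Normal := Subgroup.Normal.comap inferInstance N₀.subtype
  obtain ⟨Qsyl⟩ : Nonempty (Sylow q L) := inferInstance
  set Qs : Subgroup N₀ := (Qsyl : Subgroup L).map L.subtype with hQs
  have hfrL : L ⊔ Subgroup.normalizer (Qs : Set N₀) = ⊤ := by
    rw [sup_comm]; exact Sylow.normalizer_sup_eq_top Qsyl
  obtain ⟨z', hz'Q, hz'L, b', hb'⟩ := exists_two_lift L (Subgroup.normalizer (Qs : Set N₀)) hfrL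
    (z := ⟨z, hzN⟩) (a := b) (Subtype.ext (by rw [SubmonoidClass.coe_pow]; exact hz))
  have hexpN : ∀ (y : N₀) (c : ℕ), y ^ 2 ^ c = 1 → y ^ 2 ^ (m + 1) = 1 := fun y c hy =>
    Subtype.ext (hexp (y : G) c (congrArg Subtype.val hy))
  have hz'P := hexpN z' b' hb'
  -- it still moves the core
  have hsurjQ : ∀ w ∈ O, ∃ g ∈ Qs, π (g : G) = w := by
    intro w hw
    let f : L →* O := (π.comp (N₀.subtype.comp L.subtype)).codRestrict _ fun l => l.2
    have hf : Function.Surjective f := fun y => by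
      obtain ⟨g, hg⟩ := QuotientGroup.mk'_surjective K₂ (y : G ⧸ K₂)
      obtain ⟨k, hk, n, hn, rfl⟩ : ∃ k ∈ K₂, ∃ n ∈ N₀, k * n = g :=
        Subgroup.mem_sup_of_normal_left.mp (by rw [sup_comm, hfr]; trivial)
      have hπn : π n = y := by
        rw [← hg, map_mul, show QuotientGroup.mk' K₂ k = 1 from (QuotientGroup.eq_one_iff k).mpr hk,
          one_mul]
      exact ⟨⟨⟨n, hn⟩, show π n ∈ O from hπn ▸ y.2⟩, Subtype.ext hπn⟩
    have htop := sylow_eq_top_of_isPGroup H10.pCore_isPGroup (Qsyl.mapSurjective hf)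
    have hmem : (⟨w, hw⟩ : O) ∈ ((Qsyl.mapSurjective hf : Sylow q O) : Subgroup O) := by
      rw [htop]; trivial
    obtain ⟨l, hl, hlw⟩ := hmem
    exact ⟨(l : N₀), ⟨l, hl, rfl⟩, congrArg Subtype.val hlw⟩
  have hQsq : IsPGroup q Qs := Qsyl.isPGroup'.map _
  haveI : (S₂.subgroupOf N₀).Normal := Subgroup.normal_in_normalizer
  have hmove : ∃ g ∈ Qs, ⁅g, z' ^ 2 ^ m⁆ ∉
      Subgroup.centralizer ((S₂.subgroupOf N₀ : Subgroup N₀) : Set N₀) := by
    by_contra hcon
    push Not at hcon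
    apply hqmove
    have hcomm : ∀ w ∈ O, Commute w (π ((z' ^ 2 ^ m : N₀) : G)) := by
      intro w hw
      obtain ⟨g, hg, rfl⟩ := hsurjQ w hw
      rw [← commutatorElement_eq_one_iff_commute, ← map_commutatorElement]
      refine (QuotientGroup.eq_one_iff _).mpr (hcentS ?_)
      rw [Subgroup.mem_centralizer_iff]
      intro s hs
      have hsN : s ∈ N₀ := Subgroup.le_normalizer hs
      exact congrArg Subtype.val (Subgroup.mem_centralizer_iff.mp (hcon g hg) ⟨s, hsN⟩ hs)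
    set τ' := π ((z' ^ 2 ^ m : N₀) : G) with hτ'
    set y := τ'⁻¹ * π (z ^ 2 ^ m) with hy
    have hyO : y ∈ O := by
      have h1 : π (z' : G)⁻¹ * π z ∈ O := by
        rw [← map_mul]; exact hz'L
      rw [map_inv] at h1
      haveI : O.Normal := by rw [hO']; infer_instance
      rw [hy, hτ', map_pow, SubmonoidClass.coe_pow, map_pow, ← QuotientGroup.eq,
        QuotientGroup.mk_pow, QuotientGroup.mk_pow, QuotientGroup.eq.mpr h1]
    have hτ'2 : τ' * τ' = 1 := by
      rw [hτ', ← map_mul, ← Subgroup.coe_mul, ← pow_add, ← two_mul, ← pow_succ', hz'P]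
      exact map_one π
    have hτ2 : π (z ^ 2 ^ m) * π (z ^ 2 ^ m) = 1 := by
      rw [← map_mul, ← pow_add, ← two_mul, ← pow_succ', hexp z b hz, map_one]
    have hy2 : y * y = 1 := by
      have e : π (z ^ 2 ^ m) = τ' * y := by rw [hy, mul_inv_cancel_left]
      rw [e] at hτ2
      calc y * y = τ' * τ' * (y * y) := by rw [hτ'2, one_mul]
        _ = τ' * (τ' * y) * y := by simp only [mul_assoc]
        _ = τ' * (y * τ') * y := by rw [(hcomm y hyO).eq]
        _ = τ' * y * (τ' * y) := by simp only [mul_assoc]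
        _ = 1 := hτ2
    have hy1 : y = 1 := by
      obtain ⟨i, hi⟩ := H10.pCore_isPGroup (G := G ⧸ K₂) (p := q) ⟨y, hyO⟩
      have hi' : y ^ q ^ i = 1 := congrArg Subtype.val hi
      obtain ⟨t, ht⟩ := (hq.odd_of_ne_two hq2).pow (n := i)
      rwa [ht, pow_succ, pow_mul, sq, hy2, one_pow, one_mul] at hi'
    rw [Subgroup.mem_centralizer_iff]
    intro w hw
    rw [show π (z ^ 2 ^ m) = τ' from (inv_mul_eq_one.mp hy1).symm]
    exact (hcomm w hw).eq
  -- the data
  obtain ⟨hq4, Q, Q₁, Q₀, A, D₀⟩ := exists_data (S₂.subgroupOf N₀) (hS₂p.comap_subtype) m hexpN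
    hq2 Qs hQsq z' hz'P hz'Q hmove
  have D := D₀.map N₀.subtype N₀.subtype_injective
  rw [map_pow, Subgroup.coe_subtype] at D
  have hzG : (z' : G) ^ 2 ^ (m + 1) = 1 := congrArg Subtype.val hz'P
  have hdefz := hdef (z' : G) (m + 1) hzG
  refine D.moved ?_
  have hA : ∀ a ∈ A.map N₀.subtype, a = 1 := by
    intro a ha
    obtain ⟨n, hn⟩ := D.twoA ⟨a, ha⟩
    refine eq_one_of_centralizes_cores inferInstance hO (n := n) (congrArg Subtype.val hn) ?_
    intro r hr
    haveI := Fact.mk hr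
    haveI : (pCore r G).Normal := H10.pCore_normal
    rcases eq_or_ne r 2 with rfl | hr2
    · rw [hO, Subgroup.mem_centralizer_iff]
      intro x hx
      rw [Subgroup.coe_bot, Set.mem_singleton_iff] at hx
      rw [hx, one_mul, mul_one]
    rcases eq_or_ne q r with rfl | hqr
    · exact centralize_eq ρ hρ (z' : G) m hzG hdefz hq2 D (pCore q G) H10.pCore_isPGroup ha
    · have hQc := centralize_ne ρ hρ (z' : G) m hzG hdefz hq4 hr2 hqr _ (pCore r G) D.qgroup
        H10.pCore_isPGroup D.zQ D.gen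
      haveI : (Subgroup.centralizer (pCore r G : Set G)).Normal := Subgroup.normal_centralizer
      exact (D.comA.symm.trans_le (Subgroup.commutator_le.mpr fun x _ g hg => by
        rw [commutatorElement_def]
        exact mul_mem (Subgroup.Normal.conj_mem inferInstance g (hQc (D.leQ₁ hg)) x)
          (inv_mem (hQc (D.leQ₁ hg))))) ha
  intro g _
  rw [Subgroup.mem_centralizer_iff]
  intro a ha
  rw [hA a ha, one_mul, mul_one]

end H28.TwoLength
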