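import Cfsg.Agent.H28.ShultGross.Regular
import Cfsg.Agent.H11.HallHigmanCore

/-!
The exceptional case of Hall and Higman's Theorem B: a unipotent automorphism of order `P` acting
freely on `Q/M` in a representation of degree `d` with `(u - 1) ^ (P - 1) = 0` has `P = d + 1`.
-/

set_option autoImplicit false
set_option linter.style.haveILetI false

namespace H28.TwoLength

open Module H28.SG
open Cfsg.Agent.H29 (subalgebra_eq_top_of_irreducible)
open scoped commutatorElement

universe u v w

variable {Q : Type u} [Group Q] [Finite Q] {K : Type v} [Field K] [IsAlgClosed K]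
variable {W : Type w} [AddCommGroup W] [Module K W] [FiniteDimensional K W]

theorem norm_bound {p n P : ℕ} [Fact p.Prime] [CharP K p] (hPn : P = p ^ n) (hP : 2 < P)
    (M : Subgroup Q) [M.Normal] (hMtop : M ≠ ⊤) (hQK : (M.index : K) ≠ 0) (θ : MulAut Q)
    (hθP : θ ^ P = 1) (hθM : ∀ c ∈ M, θ c ∈ M)
    (hfree : ∀ k, 0 < k → k < P → ∀ x, x⁻¹ * (θ ^ k) x ∈ M → x ∈ M)
    [Nontrivial W] (ρ : Q →* Module.End K W)
    (hscal : ∀ c ∈ M, ∃ k : K, ρ c = k • (1 : Module.End K W))
    (hθρ : ∀ c ∈ M, ρ (θ c) = ρ c) (hcom : ∀ x y : Q, ⁅x, y⁆ ∈ M)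
    (hnd : ∀ w : Q, (∀ y : Q, ρ ⁅y, w⁆ = 1) → w ∈ M)
    (u : Module.End K W) (hu : u ^ P = 1) (hdef : (u - 1) ^ (P - 1) = 0)
    (hcomm : ∀ a, u * ρ a = ρ (θ a) * u) :
    M.index = (P - 1) ^ 2 := by
  classical
  -- a minimal invariant subspace
  obtain ⟨S, ⟨hS0, hSinv⟩, hSmin⟩ := wellFounded_lt.has_min
    {U : Submodule K W | U ≠ ⊥ ∧ ∀ a : Q, ∀ v ∈ U, ρ a v ∈ U}
    ⟨⊤, top_ne_bot, fun _ _ _ => trivial⟩
  haveI : Nontrivial S := Submodule.nontrivial_iff_ne_bot.mpr hS0
  let ρS : Q →* Module.End K S :=
    { toFun := fun a => (ρ a).restrict (hSinv a)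
      map_one' := by
        refine LinearMap.ext fun v => Subtype.ext ?_
        show ρ 1 (v : W) = _
        rw [map_one]; rfl
      map_mul' := fun a b => by
        refine LinearMap.ext fun v => Subtype.ext ?_
        show ρ (a * b) (v : W) = _
        rw [map_mul]; rfl }
  have hirr : ∀ U : Submodule K S, (∀ a, ∀ v ∈ U, ρS a v ∈ U) → U = ⊥ ∨ U = ⊤ := by
    intro U hU
    by_cases h0 : U = ⊥
    · exact Or.inl h0
    right
    by_contra htop
    have hlt : U.map S.subtype < S := by
      refine lt_of_le_of_ne (Submodule.map_subtype_le S U) fun h => htop ?_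
      apply Submodule.map_injective_of_injective (f := S.subtype) Subtype.val_injective
      rw [h, Submodule.map_subtype_top]
    refine hSmin (U.map S.subtype) ⟨?_, ?_⟩ hlt
    · intro h
      exact h0 (Submodule.map_injective_of_injective (f := S.subtype) Subtype.val_injective
        (by rw [h, Submodule.map_bot]))
    · intro a v hv
      obtain ⟨w, hw, rfl⟩ := Submodule.mem_map.mp hv
      exact Submodule.mem_map.mpr ⟨ρS a w, hU a w hw, rfl⟩
  have hscalS : ∀ c ∈ M, ∃ k : K, ρS c = k • (1 : Module.End K S) := by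
    intro c hc
    obtain ⟨k, hk⟩ := hscal c hc
    exact ⟨k, LinearMap.ext fun v => Subtype.ext (LinearMap.congr_fun hk (v : W))⟩
  have hθS : ∀ c ∈ M, ρS (θ c) = ρS c := fun c hc =>
    LinearMap.ext fun v => Subtype.ext (LinearMap.congr_fun (hθρ c hc) (v : W))
  have hMone : ∀ c ∈ M, ρS c = 1 → ρ c = 1 := by
    intro c hc h
    obtain ⟨k, hk⟩ := hscal c hc
    obtain ⟨v, hv⟩ := exists_ne (0 : S)
    have h1 : ρ c (v : W) = (v : W) := congrArg Subtype.val (LinearMap.congr_fun h v)
    rw [hk, LinearMap.smul_apply, Module.End.one_apply] at h1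
    have hk1 : k = 1 :=
      smul_left_injective K (fun h0 => hv (Subtype.ext h0)) (h1.trans (one_smul K (v : W)).symm)
    rw [hk, hk1, one_smul]
  have hunit : ∀ a, IsUnit (ρS a) := fun a => IsUnit.map ρS (Group.isUnit a)
  -- the coset representatives
  let T := Q ⧸ M
  haveI : Fintype T := Fintype.ofFinite T
  let out : T → Q := fun t => Quotient.out t
  have hout : ∀ t : T, QuotientGroup.mk (out t) = t := fun t => Quotient.out_eq t
  let b : T → Module.End K S := fun t => ρS (out t)
  have hdecomp : ∀ a : Q, ∃ k : K, ρS a = k • b (QuotientGroup.mk a) := by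
    intro a
    obtain ⟨k, hk⟩ := hscalS _ (QuotientGroup.eq.mp (hout (QuotientGroup.mk a)))
    refine ⟨k, ?_⟩
    have : a = out (QuotientGroup.mk a) * ((out (QuotientGroup.mk a))⁻¹ * a) := by group
    conv_lhs => rw [this]
    rw [map_mul, hk, mul_smul_comm, mul_one]
  -- linear independence
  choose χ hχ using fun (y : Q) (t : T) => hscalS _ (hcom y (out t))
  have hconj : ∀ y t, ρS y * b t = χ y t • (b t * ρS y) := by
    intro y t
    show ρS y * ρS (out t) = _
    rw [← map_mul, show y * out t = ⁅y, out t⁆ * (out t * y) by rw [commutatorElement_def]; group,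
      map_mul, hχ, smul_mul_assoc, one_mul, map_mul]
  have hindep : ∀ s : Finset T, ∀ c : T → K, ∑ t ∈ s, c t • b t = 0 → ∀ t ∈ s, c t = 0 := by
    intro s
    induction s using Finset.induction with
    | empty => intro c _ t ht; exact absurd ht (Finset.notMem_empty t)
    | @insert t₁ s ht₁ ih =>
      intro c hc
      have hs : ∀ t ∈ s, c t = 0 := by
        intro t ht
        by_contra hct
        have hall : ∀ y, χ y t = χ y t₁ := by
          intro y
          have h1 : ∑ x ∈ insert t₁ s, (χ y x * c x) • b x = 0 := by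
            have h2 : (∑ x ∈ insert t₁ s, (χ y x * c x) • b x) * ρS y =
                ρS y * ∑ x ∈ insert t₁ s, c x • b x := by
              rw [Finset.sum_mul, Finset.mul_sum]
              refine Finset.sum_congr rfl fun x _ => ?_
              rw [mul_smul_comm, hconj, smul_smul, smul_mul_assoc, mul_comm (χ y x)]
            rw [hc, mul_zero] at h2
            exact (hunit y).mul_left_eq_zero.mp h2
          have h3 : ∑ x ∈ insert t₁ s, ((χ y x - χ y t₁) * c x) • b x = 0 := by
            have e0 : ∀ x, ((χ y x - χ y t₁) * c x) • b x =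
                (χ y x * c x) • b x - χ y t₁ • (c x • b x) := fun x => by
              rw [smul_smul, sub_mul]
              exact sub_smul (χ y x * c x) (χ y t₁ * c x) (b x)
            rw [Finset.sum_congr rfl (fun x _ => e0 x), Finset.sum_sub_distrib, h1,
              ← Finset.smul_sum, hc, smul_zero, sub_zero]
          rw [Finset.sum_insert ht₁, sub_self, zero_mul, zero_smul, zero_add] at h3
          rcases mul_eq_zero.mp (ih _ h3 t ht) with h | h
          · exact sub_eq_zero.mp h
          · exact absurd h hct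
        apply ht₁
        have hmem : (out t)⁻¹ * out t₁ ∈ M := by
          refine hnd _ fun y => hMone _ (hcom _ _) ?_
          set w := (out t)⁻¹ * out t₁ with hw
          have hb : b t₁ = b t * ρS w := by
            show ρS (out t₁) = ρS (out t) * ρS w
            rw [← map_mul, hw, mul_inv_cancel_left]
          have e1 : ρS (y * w) = ρS (w * y) := by
            rw [map_mul ρS y w, map_mul ρS w y]
            have hχ0 : χ y t ≠ 0 := fun h0 => ((hunit y).mul (hunit (out t))).ne_zero
              (by
                show ρS y * b t = 0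
                rw [hconj, h0, zero_smul])
            apply (hunit (out t)).mul_left_cancel
            apply smul_right_injective (Module.End K S) hχ0
            show χ y t • (b t * (ρS y * ρS w)) = χ y t • (b t * (ρS w * ρS y))
            conv_rhs => rw [hall, ← mul_assoc, ← hb, ← hconj]
            rw [← mul_assoc (b t), ← smul_mul_assoc, ← hconj, mul_assoc, ← hb]
          rw [commutatorElement_def, show y * w * y⁻¹ * w⁻¹ = (y * w) * (w * y)⁻¹ by group,
            map_mul, e1, ← map_mul, mul_inv_cancel, map_one]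
        have : t = t₁ := by
          rw [← hout t, ← hout t₁]; exact QuotientGroup.eq.mpr hmem
        exact this ▸ ht
      intro t ht
      rcases Finset.mem_insert.mp ht with rfl | ht'
      · rw [Finset.sum_insert ht₁, Finset.sum_eq_zero (fun x hx => by rw [hs x hx, zero_smul]),
          add_zero] at hc
        exact (smul_eq_zero.mp hc).resolve_right (hunit (out t)).ne_zero
      · exact hs t ht'
  have hli : LinearIndependent K b := by
    rw [Fintype.linearIndependent_iff]
    exact fun g hg t => hindep Finset.univ g hg t (Finset.mem_univ t)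
  -- spanning
  have hsmall : ∀ a, ρS a ∈ Submodule.span K (Set.range b) := fun a => by
    obtain ⟨k, hk⟩ := hdecomp a
    rw [hk]; exact Submodule.smul_mem _ _ (Submodule.subset_span ⟨_, rfl⟩)
  have hspan : ⊤ ≤ Submodule.span K (Set.range b) := by
    have hA : Algebra.adjoin K (Set.range ρS) = ⊤ := by
      apply subalgebra_eq_top_of_irreducible
      intro U hU
      exact hirr U fun a v hv => hU _ (Algebra.subset_adjoin ⟨a, rfl⟩) v hv
    have hB : Subalgebra.toSubmodule (Algebra.adjoin K (Set.range ρS)) =
        Submodule.span K (Set.range ρS) := by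
      rw [Algebra.adjoin_eq_span, ← MonoidHom.coe_mrange, Submonoid.closure_eq]
    rw [hA, Algebra.top_toSubmodule] at hB
    rw [hB, Submodule.span_le]
    rintro _ ⟨a, rfl⟩
    exact hsmall a
  let B : Basis T K (Module.End K S) := Basis.mk hli hspan
  have hB : ∀ t, B t = b t := fun t => Basis.mk_apply hli hspan t
  have hN : Nat.card T = Module.finrank K S ^ 2 := by
    rw [Nat.card_eq_fintype_card, ← Module.finrank_eq_card_basis B, Module.finrank_linearMap, sq]
  -- the induced permutation
  let σ : Equiv.Perm T := (quotAut θ M hθM).toEquiv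
  have hσmk : ∀ a : Q, σ (QuotientGroup.mk a) = QuotientGroup.mk (θ a) := fun a => rfl
  -- the algebra automorphism
  let L : Module.End K S →ₗ[K] Module.End K S := B.constr K fun t => ρS (θ (out t))
  have hL : ∀ a, L (ρS a) = ρS (θ a) := by
    intro a
    have hm : (out (QuotientGroup.mk a))⁻¹ * a ∈ M :=
      QuotientGroup.eq.mp (hout (QuotientGroup.mk a))
    obtain ⟨k, hk⟩ := hscalS _ hm
    have ha : a = out (QuotientGroup.mk a) * ((out (QuotientGroup.mk a))⁻¹ * a) := by group
    conv_rhs => rw [ha, map_mul θ, map_mul ρS, hθS _ hm, hk]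
    conv_lhs => rw [ha, map_mul, hk]
    rw [mul_smul_comm, mul_smul_comm, mul_one, mul_one, map_smul]
    congr 1
    show L (b (QuotientGroup.mk a)) = _
    rw [← hB, Basis.constr_basis]
  have hLmul : ∀ f g, L (f * g) = L f * L g := by
    intro f g
    have hf : f ∈ Submodule.span K (Set.range b) := hspan trivial
    have hg : g ∈ Submodule.span K (Set.range b) := hspan trivial
    induction hf using Submodule.span_induction with
    | zero => simp
    | add x y _ _ hx hy => rw [add_mul, map_add, map_add, add_mul, hx, hy]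
    | smul k x _ hx => rw [smul_mul_assoc, map_smul, map_smul, smul_mul_assoc, hx]
    | mem x hx =>
      obtain ⟨t, rfl⟩ := hx
      induction hg using Submodule.span_induction with
      | zero => simp
      | add x y _ _ hx hy => rw [mul_add, map_add, map_add, mul_add, hx, hy]
      | smul k x _ hx => rw [mul_smul_comm, map_smul, map_smul, mul_smul_comm, hx]
      | mem x hx =>
        obtain ⟨t', rfl⟩ := hx
        show L (ρS (out t) * ρS (out t')) = L (ρS _) * L (ρS _)
        rw [← map_mul ρS, hL, hL, hL, map_mul θ, map_mul ρS]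
  have hL1 : L 1 = 1 := by
    rw [← map_one ρS, hL, map_one θ]
  let Λ : Module.End K S →ₐ[K] Module.End K S := AlgHom.ofLinearMap L hL1 hLmul
  have hΛsurj : Function.Surjective L := by
    rw [← LinearMap.range_eq_top, eq_top_iff]
    refine hspan.trans (Submodule.span_le.mpr ?_)
    rintro _ ⟨t, rfl⟩
    refine ⟨ρS (θ.symm (out t)), ?_⟩
    rw [hL, MulEquiv.apply_symm_apply]
  have hΛbij : Function.Bijective Λ :=
    ⟨(LinearMap.injective_iff_surjective (f := L)).mpr hΛsurj, hΛsurj⟩
  obtain ⟨s, hs⟩ := LinearEquiv.conjAlgEquiv_surjective K S S (AlgEquiv.ofBijective Λ hΛbij)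
  have hsL : ∀ f v, s (f v) = L f (s v) := by
    intro f v
    have h1 := congrArg (fun e : Module.End K S ≃ₐ[K] Module.End K S => e f (s v)) hs
    simp only [LinearEquiv.conjAlgEquiv_apply, LinearMap.coe_comp, LinearEquiv.coe_coe,
      Function.comp_apply, LinearEquiv.symm_apply_apply] at h1
    exact h1
  -- correct the scalar
  let U : Submodule K (S →ₗ[K] W) :=
    { carrier := {φ | ∀ a v, ρ a (φ v) = φ (ρS a v)}
      add_mem' := fun {φ ψ} hφ hψ a v => by
        simp only [LinearMap.add_apply, map_add, hφ a v, hψ a v]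
      zero_mem' := fun a v => by simp
      smul_mem' := fun k φ hφ a v => by
        simp only [LinearMap.smul_apply, map_smul, hφ a v] }
  let Tφ : U →ₗ[K] U :=
    { toFun := fun φ => ⟨u ∘ₗ (φ : S →ₗ[K] W) ∘ₗ s.symm.toLinearMap, by
        intro a v
        obtain ⟨a', rfl⟩ := θ.surjective a
        show ρ (θ a') (u ((φ : S →ₗ[K] W) (s.symm v))) = u ((φ : S →ₗ[K] W) (s.symm (ρS (θ a') v)))
        rw [← Module.End.mul_apply, ← hcomm, Module.End.mul_apply, φ.2 a']
        congr 2
        apply s.injective
        rw [hsL, LinearEquiv.apply_symm_apply, LinearEquiv.apply_symm_apply, hL]⟩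
      map_add' := fun φ ψ => by
        apply Subtype.ext
        refine LinearMap.ext fun v => ?_
        simp
      map_smul' := fun k φ => by
        apply Subtype.ext
        refine LinearMap.ext fun v => ?_
        simp }
  haveI : Nontrivial U := by
    refine Submodule.nontrivial_iff_ne_bot.mpr ?_
    rw [Submodule.ne_bot_iff]
    refine ⟨S.subtype, fun a v => rfl, fun h => ?_⟩
    obtain ⟨v, hv⟩ := exists_ne (0 : S)
    exact hv (Subtype.ext (congrArg (fun f : S →ₗ[K] W => f v) h))
  obtain ⟨lam, hlam⟩ := Module.End.exists_eigenvalue Tφ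
  obtain ⟨φ, hφmem, hφ0⟩ := hlam.exists_hasEigenvector
  have hφinj : Function.Injective (φ : S →ₗ[K] W) := by
    rw [← LinearMap.ker_eq_bot]
    refine (hirr _ fun a v hv => ?_).resolve_right fun h => hφ0 (Subtype.ext ?_)
    · rw [LinearMap.mem_ker] at hv ⊢
      rw [← φ.2 a v, hv, map_zero]
    · exact LinearMap.ker_eq_top.mp h
  let u' : Module.End K S := lam • s.toLinearMap
  have hu' : ∀ v, u ((φ : S →ₗ[K] W) v) = (φ : S →ₗ[K] W) (u' v) := by
    intro v
    have h1 := congrArg (fun ψ : U => (ψ : S →ₗ[K] W) (s v))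
      (Module.End.mem_eigenspace_iff.mp hφmem)
    simpa [Tφ, u'] using h1
  have hu'pow : ∀ k : ℕ, ∀ v, (u ^ k) ((φ : S →ₗ[K] W) v) = (φ : S →ₗ[K] W) ((u' ^ k) v) := by
    intro k
    induction k with
    | zero => intro v; rfl
    | succ k ih =>
      intro v
      rw [pow_succ', pow_succ', Module.End.mul_apply, Module.End.mul_apply, ih, hu']
  have hu'r : u' ^ P = 1 := by
    refine LinearMap.ext fun v => hφinj ?_
    rw [← hu'pow, hu]; rfl
  have hu'def : (u' - 1) ^ (P - 1) = 0 := by
    have h : ∀ j : ℕ, ∀ v, ((u - 1) ^ j) ((φ : S →ₗ[K] W) v) = (φ : S →ₗ[K] W) (((u' - 1) ^ j) v) := by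
      intro j
      induction j with
      | zero => intro v; rfl
      | succ j ih =>
        intro v
        rw [pow_succ', pow_succ', Module.End.mul_apply, Module.End.mul_apply, ih,
          LinearMap.sub_apply, LinearMap.sub_apply, Module.End.one_apply, Module.End.one_apply, hu',
          map_sub]
    refine LinearMap.ext fun v => hφinj ?_
    rw [← h, hdef, LinearMap.zero_apply, LinearMap.zero_apply, map_zero]
  let C : Submodule K (Module.End K S) := LinearMap.ker (L - 1)
  have hcen : ∀ f ∈ C, L f = f := fun f hf => by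
    have h1 := LinearMap.mem_ker.mp hf
    rwa [LinearMap.sub_apply, Module.End.one_apply, sub_eq_zero] at h1
  let Ω := MulAction.orbitRel.Quotient (Subgroup.zpowers σ) T
  haveI : Fintype Ω := Fintype.ofFinite Ω
  let Ψ : C →ₗ[K] (Ω → K) :=
    { toFun := fun f o => B.repr (f : Module.End K S) (Quotient.out o)
      map_add' := fun f g => by funext o; simp
      map_smul' := fun k f => by funext o; simp }
  have hΨ : Function.Injective Ψ := by
    suffices H : ∀ f, Ψ f = 0 → f = 0 by
      intro f g hfg
      refine sub_eq_zero.mp (H (f - g) ?_)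
      funext o
      have h := congrFun hfg o
      simp only [Ψ, LinearMap.coe_mk, AddHom.coe_mk] at h ⊢
      simp [h]
    intro f hf
    have hrel : ∀ t, B.repr (f : Module.End K S) t = 0 ↔ B.repr (f : Module.End K S) (σ t) = 0 := by
      intro t
      obtain ⟨k, hk, hk0⟩ : ∃ k : K, L (B t) = k • B (σ t) ∧ k ≠ 0 := by
        obtain ⟨k, hk⟩ := hdecomp (θ (out t))
        have hσt : QuotientGroup.mk (θ (out t)) = σ t := by rw [← hσmk, hout]
        rw [hσt] at hk
        refine ⟨k, by rw [hB, hB, hL]; exact hk, fun h => ?_⟩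
        rw [h, zero_smul] at hk
        exact (hunit _).ne_zero hk
      have h1 : ∀ g : Module.End K S, B.repr (L g) (σ t) = k * B.repr g t := by
        intro g
        have : B.coord (σ t) ∘ₗ L = k • B.coord t := by
          refine B.ext fun t' => ?_
          obtain ⟨k', hk'⟩ := hdecomp (θ (out t'))
          have hσt : QuotientGroup.mk (θ (out t')) = σ t' := by rw [← hσmk, hout]
          simp only [LinearMap.comp_apply, LinearMap.smul_apply, Basis.coord_apply]
          by_cases h : t' = t
          · subst h; rw [hk]; simp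
          · rw [hB t', hL, hk', hσt, ← hB, ← hB t']
            simp [h, (σ.injective.ne h)]
        exact congrArg (fun l : Module.End K S →ₗ[K] K => l g) this
      have h2 := h1 (f : Module.End K S)
      rw [hcen _ f.2] at h2
      rw [h2, mul_eq_zero]
      exact ⟨Or.inr, fun h => h.resolve_left hk0⟩
    apply Subtype.ext
    show (f : Module.End K S) = 0
    apply B.repr.injective
    rw [map_zero]
    ext t
    have hrep : B.repr (f : Module.End K S) (Quotient.out (Quotient.mk'' t : Ω)) = 0 :=
      congrFun hf _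
    obtain ⟨g, hg⟩ := MulAction.orbitRel_apply.mp
      (Quotient.exact' (Quotient.out_eq' (Quotient.mk'' t : Ω)))
    obtain ⟨j, hj⟩ := Subgroup.mem_zpowers_iff.mp g.2
    have key : ∀ j : ℤ, ∀ t, B.repr (f : Module.End K S) t = 0 ↔
        B.repr (f : Module.End K S) ((σ ^ j) t) = 0 := by
      intro j
      induction j using Int.induction_on with
      | zero => intro t; simp
      | succ n ih => intro t; rw [add_comm, zpow_add, zpow_one, Equiv.Perm.mul_apply, ih t, hrel]
      | pred n ih =>
        intro t
        rw [sub_eq_neg_add, zpow_add, zpow_neg_one, Equiv.Perm.mul_apply, ih t,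
          hrel (σ⁻¹ _), ← Equiv.Perm.mul_apply σ σ⁻¹, mul_inv_cancel, Equiv.Perm.one_apply]
    rw [Finsupp.zero_apply]
    rw [key j t, hj]
    rw [show (g : Equiv.Perm T) t = g • t from rfl, show g • t = _ from hg]
    exact hrep
  -- orbit count
  have hσit : ∀ k : ℕ, ∀ a : Q, (σ ^ k) (QuotientGroup.mk a) = QuotientGroup.mk ((θ ^ k) a) := by
    intro k
    induction k with
    | zero => intro a; rfl
    | succ k ih =>
      intro a
      rw [pow_succ', pow_succ', Equiv.Perm.mul_apply, ih, hσmk, MulAut.mul_apply]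
  have hσr : σ ^ P = 1 := by
    ext t
    rw [← hout t, hσit, hθP]
    rfl
  have hσ1 : σ (1 : T) = 1 := map_one (quotAut θ M hθM)
  have hσfree : ∀ k, 0 < k → k < P → ∀ t : T, (σ ^ k) t = t → t = (1 : T) := by
    intro k hk hkP t ht
    rw [← hout t] at ht ⊢
    rw [hσit] at ht
    exact (QuotientGroup.eq_one_iff _).mpr (hfree k hk hkP _ (QuotientGroup.eq.mp ht.symm))
  have hTne : ∃ t : T, t ≠ 1 := by
    by_contra hcon
    push Not at hcon
    exact hMtop ((Subgroup.eq_top_iff' M).mpr fun x => (QuotientGroup.eq_one_iff x).mp (hcon _))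
  -- norms
  let A' : Module.End K S := u' ^ (P - 1)
  have hAA : u' * A' = 1 := by
    show u' * u' ^ (P - 1) = 1
    rw [← pow_succ', show P - 1 + 1 = P by omega, hu'r]
  have hA'A : A' * u' = 1 := by
    show u' ^ (P - 1) * u' = 1
    rw [← pow_succ, show P - 1 + 1 = P by omega, hu'r]
  have hLu : ∀ f, L f * u' = u' * f := by
    intro f
    refine LinearMap.ext fun v => ?_
    show L f (lam • s v) = lam • s (f v)
    rw [map_smul, hsL]
  have hLi : ∀ (i : ℕ) f, (L ^ i) f = u' ^ i * f * A' ^ i := by
    intro i
    induction i with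
    | zero => intro f; simp
    | succ i ih =>
      intro f
      rw [pow_succ', Module.End.mul_apply, ih]
      calc L (u' ^ i * f * A' ^ i) = L (u' ^ i * f * A' ^ i) * u' * A' := by
            rw [mul_assoc _ u', hAA, mul_one]
        _ = u' * (u' ^ i * f * A' ^ i) * A' := by rw [hLu]
        _ = u' ^ (i + 1) * f * A' ^ (i + 1) := by
            rw [pow_succ', pow_succ]; simp only [mul_assoc]
  have hLP : L ^ P = 1 := LinearMap.ext fun f => by
    rw [hLi, hu'r, one_mul, Module.End.one_apply]
    show f * (u' ^ (P - 1)) ^ P = f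
    rw [← pow_mul, mul_comm (P - 1), pow_mul, hu'r, one_pow, mul_one]
  have hLB : ∀ (i : ℕ) (t : T), ∃ k : K, (L ^ i) (B t) = k • B ((σ ^ i) t) := by
    intro i
    induction i with
    | zero => intro t; exact ⟨1, by simp⟩
    | succ i ih =>
      intro t
      obtain ⟨k, hk⟩ := ih t
      obtain ⟨k', hk'⟩ := hdecomp (θ (out ((σ ^ i) t)))
      refine ⟨k * k', ?_⟩
      have hσt : QuotientGroup.mk (θ (out ((σ ^ i) t))) = σ ((σ ^ i) t) := by rw [← hσmk, hout]
      rw [hσt] at hk'
      rw [pow_succ', pow_succ', Module.End.mul_apply, hk, map_smul, Equiv.Perm.mul_apply, hB, hB, hL,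
        hk', smul_smul]
  have htr : ∀ t : T, t ≠ 1 → LinearMap.trace K S (b t) = 0 := by
    intro t ht
    obtain ⟨y, hy⟩ : ∃ y, χ y t ≠ 1 := by
      by_contra hcon
      push Not at hcon
      apply ht
      rw [← hout t]
      refine (QuotientGroup.eq_one_iff _).mpr (hnd _ fun y => hMone _ (hcom _ _) ?_)
      rw [hχ, hcon, one_smul]
    have hinv : ρS y⁻¹ * ρS y = 1 := by rw [← map_mul, inv_mul_cancel, map_one]
    have hinv' : ρS y * ρS y⁻¹ = 1 := by rw [← map_mul, mul_inv_cancel, map_one]
    have h1 : LinearMap.trace K S (ρS y * b t * ρS y⁻¹) = LinearMap.trace K S (b t) := by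
      rw [LinearMap.trace_mul_comm, ← mul_assoc, hinv, one_mul]
    rw [hconj, smul_mul_assoc, mul_assoc, hinv', mul_one, map_smul, smul_eq_mul] at h1
    by_contra h0
    exact hy (mul_right_cancel₀ h0 (h1.trans (one_mul _).symm))
  have hdK : (Module.finrank K S : K) ≠ 0 := by
    intro h0
    apply hQK
    rw [Subgroup.index_eq_card, hN, Nat.cast_pow, h0, zero_pow two_ne_zero]
  have hnorm : ∀ g : Module.End K S, Commute g u' → LinearMap.trace K S g = 0 →
      ∃ f, g = ∑ i ∈ Finset.range P, u' ^ i * f * A' ^ i := by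
    intro g hg hg0
    have hgfix : L g = g := by
      have h1 := hLu g
      rw [← hg.eq] at h1
      calc L g = L g * u' * A' := by rw [mul_assoc, hAA, mul_one]
        _ = g * u' * A' := by rw [h1]
        _ = g := by rw [mul_assoc, hAA, mul_one]
    have hc1 : B.repr g (1 : T) = 0 := by
      have h1 : ∑ t, B.repr g t * LinearMap.trace K S (b t) = 0 := by
        have h2 := congrArg (LinearMap.trace K S) (B.sum_repr g)
        rw [map_sum, hg0] at h2
        simpa [hB, map_smul] using h2
      rw [Finset.sum_eq_single (1 : T) (fun t _ ht => by rw [htr t ht, mul_zero])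
        (fun h => absurd (Finset.mem_univ _) h)] at h1
      refine (mul_eq_zero.mp h1).resolve_right ?_
      obtain ⟨k, hk⟩ := hscalS (out (1 : T)) ((QuotientGroup.eq_one_iff _).mp (hout 1))
      show LinearMap.trace K S (ρS (out 1)) ≠ 0
      rw [hk, map_smul, LinearMap.trace_one, smul_eq_mul]
      refine mul_ne_zero ?_ hdK
      intro h0
      rw [h0, zero_smul] at hk
      exact (hunit _).ne_zero hk
    let f : Module.End K S := ∑ o : Ω, B.repr g (Quotient.out o) • B (Quotient.out o)
    refine ⟨f, ?_⟩
    rw [Finset.sum_congr rfl (fun i _ => (hLi i f).symm)]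
    set g' := ∑ i ∈ Finset.range P, (L ^ i) f with hg'
    have hg'fix : L g' = g' := by
      rw [hg', map_sum]
      have e : ∀ i ∈ Finset.range P, L ((L ^ i) f) = (L ^ (i + 1)) f := fun i _ => by
        rw [pow_succ', Module.End.mul_apply]
      rw [Finset.sum_congr rfl e]
      have h1 := (Finset.sum_range_succ' (fun j => (L ^ j) f) P).symm.trans
        (Finset.sum_range_succ (fun j => (L ^ j) f) P)
      rw [hLP, pow_zero] at h1
      exact add_right_cancel h1
    have hmemC : ∀ h : Module.End K S, L h = h → h ∈ C := fun h hh =>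
      LinearMap.mem_ker.mpr (by rw [LinearMap.sub_apply, Module.End.one_apply, hh, sub_self])
    suffices (⟨g, hmemC g hgfix⟩ : C) = ⟨g', hmemC g' hg'fix⟩ from congrArg Subtype.val this
    refine hΨ (funext fun o₀ => ?_)
    show B.repr g (Quotient.out o₀) = B.repr g' (Quotient.out o₀)
    set t₀ : T := Quotient.out o₀ with ht₀
    have key : ∀ (i : ℕ), i < P → ∀ (o : Ω), B.repr g (Quotient.out o) •
        B.repr ((L ^ i) (B (Quotient.out o))) t₀ = if i = 0 ∧ o = o₀ then B.repr g t₀ else 0 := by
      intro i hi o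
      obtain ⟨k, hk⟩ := hLB i (Quotient.out o)
      split_ifs with hio
      · obtain ⟨rfl, rfl⟩ := hio
        rw [pow_zero, Module.End.one_apply, ← ht₀, B.repr_self, Finsupp.single_eq_same,
          smul_eq_mul, mul_one]
      · rw [hk, map_smul, B.repr_self, Finsupp.smul_apply]
        by_cases heq : (σ ^ i) (Quotient.out o) = t₀
        · have ho : o = o₀ := by
            rw [← Quotient.out_eq o, ← Quotient.out_eq o₀]
            apply Quotient.sound
            rw [← ht₀, ← heq]
            exact MulAction.orbitRel_apply.mpr ⟨⟨(σ ^ i)⁻¹, inv_mem (pow_mem (Subgroup.mem_zpowers σ) i)⟩,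
              by simp [Subgroup.smul_def, Equiv.Perm.smul_def]⟩
          subst ho
          have hi0 : 0 < i := Nat.pos_of_ne_zero fun h => hio ⟨h, rfl⟩
          have ht1 : t₀ = 1 := by
            rw [← hout t₀] at heq ⊢
            rw [ht₀] at heq ⊢
            rw [hout] at heq ⊢
            have h3 := hσfree i hi0 hi _ heq
            exact h3
          rw [← ht₀, ht1, hc1, zero_smul]
        · rw [Finsupp.single_eq_of_ne (fun h => heq h.symm), smul_zero, smul_zero]
    rw [hg', map_sum, Finsupp.finsetSum_apply]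
    rw [Finset.sum_congr rfl fun i _ => show B.repr ((L ^ i) f) t₀ =
      ∑ o : Ω, B.repr g (Quotient.out o) • B.repr ((L ^ i) (B (Quotient.out o))) t₀ by
        simp only [f, map_sum, map_smul, Finsupp.finsetSum_apply, Finsupp.smul_apply]]
    rw [Finset.sum_congr rfl fun i hi => Finset.sum_congr rfl fun o _ => key i (Finset.mem_range.mp hi) o]
    rw [Finset.sum_eq_single 0 (fun i _ hi => Finset.sum_eq_zero fun o _ => if_neg (fun h => hi h.1))
      (fun h => absurd (Finset.mem_range.mpr (by omega)) h),
      Finset.sum_eq_single o₀ (fun o _ ho => if_neg (fun h => ho h.2))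
      (fun h => absurd (Finset.mem_univ _) h), if_pos ⟨rfl, rfl⟩]
  have hne2 : (u' - 1) ^ (P - 2) ≠ 0 := by
    intro h0
    obtain ⟨f, hf⟩ := hnorm (u' - 1) ((Commute.refl u').sub_left (Commute.one_left _))
      ((LinearMap.isNilpotent_trace_of_isNilpotent (f := u' - 1) ⟨P - 2, h0⟩).eq_zero)
    obtain ⟨y, hy⟩ := H11.HB.exists_left_factor (K := K) p hAA hA'A n (P - 2) 2
      (by rw [← hPn]; omega) h0 f
    rw [← hPn, ← hf] at hy
    have hchain : ∀ k, (u' - 1) = (u' - 1) ^ (k + 1) * y ^ k := by
      intro k
      induction k with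
      | zero => simp
      | succ k ih =>
        calc u' - 1 = (u' - 1) ^ (k + 1) * y ^ k := ih
          _ = (u' - 1) ^ k * (u' - 1) * y ^ k := by rw [← pow_succ]
          _ = (u' - 1) ^ k * ((u' - 1) ^ 2 * y) * y ^ k := by rw [← hy]
          _ = _ := by rw [← mul_assoc, ← pow_add, mul_assoc, ← pow_succ']
    have h1 : u' = 1 := by
      rw [← sub_eq_zero, hchain (P - 2), pow_succ, h0, zero_mul, zero_mul]
    obtain ⟨t, ht⟩ := hTne
    have hLid : L (B t) = B t := by
      have h2 := hLu (B t)
      rwa [h1, mul_one, one_mul] at h2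
    obtain ⟨k, hk⟩ := hLB 1 t
    rw [pow_one, pow_one, hLid] at hk
    have hst : σ t = t := by
      by_contra hne
      have h3 := congrArg (fun x => B.repr x t) hk
      simp [hne] at h3
    exact ht (hσfree 1 one_pos (by omega) t (by rw [pow_one]; exact hst))
  have hMK : ((P - 1 : ℕ) : K) = -1 := by
    have hn0 : n ≠ 0 := fun h => by rw [h, pow_zero] at hPn; omega
    rw [Nat.cast_sub (by omega), hPn, Nat.cast_pow, CharP.cast_eq_zero K p, zero_pow hn0,
      Nat.cast_one, zero_sub]
  have hdim := H11.HB.dim_eq_of_left_factor (u' - 1) (P - 1) hMK hu'def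
    (by rwa [show P - 1 - 1 = P - 2 by omega]) (by
      intro g hg htrg
      obtain ⟨f, hf⟩ := hnorm g (by simpa using hg.add_right (Commute.one_right g)) htrg
      obtain ⟨y, hy⟩ := H11.HB.exists_left_factor (K := K) p hAA hA'A n (P - 1) 1
        (by rw [← hPn]; omega) hu'def f
      refine ⟨y, ?_⟩
      rw [← hPn] at hy
      rw [hf, hy, pow_one])
  rw [Subgroup.index_eq_card, hN, hdim]

end H28.TwoLength
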