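import Cfsg.Agent.H28.TwoLength.Deficient
import Cfsg.Agent.H28.TwoLength.Coprime

/-!
The plane theorem inside a group: a subgroup, a central system of eigenvalues and its radical.
-/

set_option autoImplicit false
set_option linter.style.haveILetI false

namespace H28.TwoLength

open Module H28.SG
open scoped commutatorElement

universe u v w

variable {G : Type u} [Group G]

/-- Conjugation by a normalising element. -/
def subConj (C : Subgroup G) (g : G) (hg : g ∈ Subgroup.normalizer (C : Set G)) : MulAut C where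
  toFun x := ⟨g * x * g⁻¹, conj_mem hg x.2⟩
  invFun x := ⟨g⁻¹ * x * g, by
    have := conj_mem (inv_mem hg) x.2
    rwa [inv_inv] at this⟩
  left_inv x := Subtype.ext (by show g⁻¹ * (g * (x : G) * g⁻¹) * g = x; group)
  right_inv x := Subtype.ext (by show g * (g⁻¹ * (x : G) * g) * g⁻¹ = x; group)
  map_mul' x y := Subtype.ext (by
    show g * ((x : G) * y) * g⁻¹ = g * (x : G) * g⁻¹ * (g * (y : G) * g⁻¹); group)

theorem subConj_pow (C : Subgroup G) {g : G} (hg : g ∈ Subgroup.normalizer (C : Set G)) (l : ℕ)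
    (x : C) : (((subConj C g hg ^ l) x : C) : G) = g ^ l * x * (g ^ l)⁻¹ := by
  induction l with
  | zero => simp
  | succ l ih =>
    rw [pow_succ', MulAut.mul_apply, pow_succ' g, mul_inv_rev]
    show g * (((subConj C g hg ^ l) x : C) : G) * g⁻¹ = _
    rw [ih]
    simp only [mul_assoc]

theorem subConj_pow_eq_one (C : Subgroup G) {g : G} (hg : g ∈ Subgroup.normalizer (C : Set G))
    {l : ℕ} (h : g ^ l = 1) : subConj C g hg ^ l = 1 :=
  MulEquiv.ext fun x => Subtype.ext (by rw [subConj_pow, h]; simp)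

variable {K : Type v} [Field K] [CharP K 2] [IsAlgClosed K]
variable {W : Type w} [AddCommGroup W] [Module K W] [FiniteDimensional K W]

omit [CharP K 2] [IsAlgClosed K] [FiniteDimensional K W] in
theorem rep_intertwine (ρ : G →* Module.End K W) (g a : G) :
    ρ g * ρ a = ρ (g * a * g⁻¹) * ρ g := by
  rw [← map_mul, ← map_mul, inv_mul_cancel_right]

variable [Finite G]

/-- The involution is trivial on the symplectic section or inverts a plane of it. -/
theorem exists_plane (ρ : G →* Module.End K W) {r : ℕ} (hr : r.Prime) (hr2 : r ≠ 2)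
    (C Z : Subgroup G) (hC : IsPGroup r C) (z : G) (m : ℕ) (hz : z ^ 2 ^ (m + 1) = 1)
    (hzC : z ∈ Subgroup.normalizer (C : Set G)) (hzZ : z ∈ Subgroup.normalizer (Z : Set G))
    (hdef : ∑ i ∈ Finset.range (2 ^ (m + 1)), ρ z ^ i = 0)
    (hcom : ∀ x ∈ C, ∀ y ∈ C, ⁅x, y⁆ ∈ Z) (hcent : ∀ c ∈ Z, ∀ x ∈ C, Commute (ρ c) (ρ x))
    (μ : G → K) {v : W} (hv : v ≠ 0) (hμ : ∀ c ∈ Z, ρ c v = μ c • v) :
    ∃ M : Subgroup G, M ≤ C ∧ (∀ x ∈ C, x ∈ M ↔ ∀ y ∈ C, μ ⁅x, y⁆ = 1) ∧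
      ((∀ x ∈ C, x⁻¹ * (z ^ 2 ^ m * x * (z ^ 2 ^ m)⁻¹) ∈ M) ∨
        ∃ (j k : ℕ) (R₂ : Subgroup G), 2 ≤ k ∧ r + 1 = 2 ^ k ∧ j + (k - 1) = m ∧
          (∀ c ∈ Z, μ (z ^ 2 ^ j * c * (z ^ 2 ^ j)⁻¹) = μ c) ∧ R₂ ≤ C ∧
          (∀ x ∈ C, x ∈ R₂ ↔ x * (z ^ 2 ^ m * x * (z ^ 2 ^ m)⁻¹) ∈ M) ∧
          M.relIndex R₂ = r ^ 2) := by
  classical
  let F : Z → Module.End K W := fun c => ρ c
  let θZ : MulAut Z := subConj Z z hzZ
  have hEig : Eig F (fun c => μ c) v := fun c => hμ c c.2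
  obtain ⟨i, him, hfix, hdef₁⟩ := exists_period (F := F) (θ := θZ.toEquiv) (s := ρ z)
    (fun a => rep_intertwine ρ z a) m
    (fun a => by
      show (⇑θZ)^[_] a = a
      rw [aut_iterate, subConj_pow_eq_one Z hzZ hz]; rfl) hdef hEig hv
  set U := eigSpace F (fun c : Z => μ c) with hU
  haveI : Nontrivial U := Submodule.nontrivial_iff_ne_bot.mpr
    ((Submodule.ne_bot_iff _).mpr ⟨v, mem_eigSpace.mpr hEig, hv⟩)
  have hUC : ∀ a : C, ∀ y ∈ U, ρ a y ∈ U := by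
    intro a y hy
    rw [hU, mem_eigSpace] at hy ⊢
    intro c
    show ρ (c : G) (ρ (a : G) y) = μ c • ρ (a : G) y
    rw [← Module.End.mul_apply, (hcent c c.2 a a.2).eq, Module.End.mul_apply]
    rw [show ρ (c : G) y = μ c • y from hy c, map_smul]
  set u₀ := z ^ 2 ^ i with hu₀
  have hu₀C : u₀ ∈ Subgroup.normalizer (C : Set G) := pow_mem hzC _
  have hfixμ : ∀ c ∈ Z, μ (u₀ * c * u₀⁻¹) = μ c := by
    intro c hc
    have h1 := tw_iterate_apply θZ.toEquiv (2 ^ i) (fun c : Z => μ c) ⟨c, hc⟩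
    rw [hfix] at h1
    have h2 : (((⇑θZ)^[2 ^ i] ⟨c, hc⟩ : Z) : G) = u₀ * c * u₀⁻¹ := by
      rw [aut_iterate, subConj_pow]
    rw [← h2]
    exact h1
  have hUu : ∀ y ∈ U, ρ u₀ y ∈ U := by
    intro y hy
    rw [hU, mem_eigSpace] at hy ⊢
    have h1 := hy.twist_pow (θ := θZ.toEquiv) (s := ρ z) (fun a => rep_intertwine ρ z a) (2 ^ i)
    rwa [hfix, ← map_pow] at h1
  let ρU : C →* Module.End K U := subRep (ρ.comp C.subtype) U hUC
  let sU : Module.End K U := (ρ u₀).restrict hUu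
  have hsU : ∀ (l : ℕ) (y : U), ((sU ^ l) y : W) = (ρ u₀ ^ l) y := by
    intro l
    induction l with
    | zero => intro y; rfl
    | succ l ih =>
      intro y
      rw [pow_succ', pow_succ', Module.End.mul_apply, Module.End.mul_apply, ← ih]
      rfl
  have hscal : ∀ c ∈ Z, ∀ y : U, ρ c (y : W) = μ c • (y : W) := fun c hc y =>
    mem_eigSpace.mp y.2 ⟨c, hc⟩
  have hρcom : ∀ x y : C, ρU ⁅x, y⁆ = μ ⁅(x : G), (y : G)⁆ • (1 : Module.End K U) := fun x y =>
    LinearMap.ext fun a => Subtype.ext (hscal _ (hcom x x.2 y y.2) a)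
  have hrad : ∀ x : C, x ∈ radical ρU ↔ ∀ y ∈ C, μ ⁅(x : G), y⁆ = 1 := by
    intro x
    rw [mem_radical]
    refine ⟨fun h y hy => ?_, fun h y => ?_⟩
    · have h1 : ρU ⁅x, ⟨y, hy⟩⁆ = 1 := map_commutator_eq_one (h ⟨y, hy⟩).symm
      rw [hρcom] at h1
      exact smul_left_injective K (one_ne_zero : (1 : Module.End K U) ≠ 0)
        (h1.trans (one_smul _ _).symm)
    · exact (commute_of_map_commutator (by rw [hρcom, h y y.2, one_smul])).symm
  have hi : m + 1 - i = (m - i) + 1 := by omega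
  have hu₀m : u₀ ^ 2 ^ (m - i) = z ^ 2 ^ m := by
    rw [hu₀, ← pow_mul, ← pow_add, show i + (m - i) = m by omega]
  have hu₀1 : u₀ ^ 2 ^ (m - i + 1) = 1 := by
    rw [pow_succ, pow_mul, hu₀m, ← pow_mul, ← pow_succ, hz]
  have hpl := plane hr hr2 hC (subConj C u₀ hu₀C) ρU sU
    (fun a => LinearMap.ext fun y => Subtype.ext (by
      show ρ u₀ (ρ (a : G) (y : W)) = ρ (u₀ * (a : G) * u₀⁻¹) (ρ u₀ (y : W))
      rw [← Module.End.mul_apply, rep_intertwine, Module.End.mul_apply]))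
    (m - i) (subConj_pow_eq_one C hu₀C hu₀1)
    (LinearMap.ext fun y => Subtype.ext (by rw [hsU, ← map_pow, hu₀1, map_one]; rfl))
    (LinearMap.ext fun y => Subtype.ext (by
      rw [LinearMap.sum_apply, Submodule.coe_sum]
      simp only [hsU]
      have h := hdef₁ y (mem_eigSpace.mp y.2)
      rw [hi] at h
      simpa only [hu₀, map_pow, LinearMap.zero_apply, ZeroMemClass.coe_zero] using h))
    (fun x y => ⟨_, hρcom x y⟩)
    (fun x y => by
      rw [map_commutatorElement, hρcom, hρcom]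
      congr 1
      show μ ⁅u₀ * (x : G) * u₀⁻¹, u₀ * (y : G) * u₀⁻¹⁆ = μ ⁅(x : G), (y : G)⁆
      rw [show ⁅u₀ * (x : G) * u₀⁻¹, u₀ * (y : G) * u₀⁻¹⁆ = u₀ * ⁅(x : G), (y : G)⁆ * u₀⁻¹ by
        simp only [commutatorElement_def]; group]
      exact hfixμ _ (hcom x x.2 y y.2))
  refine ⟨(radical ρU).map C.subtype, Subgroup.map_subtype_le _, fun x hx => ?_, ?_⟩
  · refine ⟨?_, fun h => ⟨⟨x, hx⟩, (hrad _).mpr h, rfl⟩⟩
    rintro ⟨x', hx', rfl⟩
    exact (hrad x').mp hx'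
  have hmemM : ∀ {x : C}, x ∈ radical ρU ↔ (x : G) ∈ (radical ρU).map C.subtype := fun {x} =>
    ⟨fun h => ⟨x, h, rfl⟩, fun ⟨x', h, he⟩ => Subtype.ext he ▸ h⟩
  rcases hpl with h | ⟨j, k, f, R₂, hk, hrf, hjk, hR₂, hidx⟩
  · refine Or.inl fun x hx => ?_
    have h1 := hmemM.mp (h ⟨x, hx⟩)
    rwa [Subgroup.coe_mul, Subgroup.coe_inv, subConj_pow, hu₀m] at h1
  · obtain rfl : f = 1 := mersenne_exp hk hrf hr.two_le
    rw [pow_one] at hrf hidx
    refine Or.inr ⟨i + j, k, R₂.map C.subtype, hk, hrf, by omega, ?_, Subgroup.map_subtype_le _,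
      fun x hx => ?_, ?_⟩
    · intro c hc
      have key : ∀ n : ℕ, u₀ ^ n * c * (u₀ ^ n)⁻¹ ∈ Z ∧ μ (u₀ ^ n * c * (u₀ ^ n)⁻¹) = μ c := by
        intro n
        induction n with
        | zero => simp [hc]
        | succ n ih =>
          rw [pow_succ', mul_inv_rev, show u₀ * u₀ ^ n * c * ((u₀ ^ n)⁻¹ * u₀⁻¹) =
            u₀ * (u₀ ^ n * c * (u₀ ^ n)⁻¹) * u₀⁻¹ by group]
          exact ⟨conj_mem (pow_mem hzZ _) ih.1, (hfixμ _ ih.1).trans ih.2⟩
      have := (key (2 ^ j)).2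
      rwa [hu₀, ← pow_mul, ← pow_add] at this
    · have h1 := hR₂ ⟨x, hx⟩
      rw [hmemM, Subgroup.coe_mul, subConj_pow, hu₀m] at h1
      rw [← h1]
      constructor
      · rintro ⟨x', h, he⟩
        obtain rfl : x' = ⟨x, hx⟩ := Subtype.ext he
        exact h
      · exact fun h => ⟨_, h, rfl⟩
    · rw [Subgroup.relIndex_map_map_of_injective _ _ C.subtype_injective, hidx]

end H28.TwoLength
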